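import Cfsg.Agent.Lib.Classical.TensorPowSymp.Max
import Cfsg.Agent.Lib.Classical.MaxSympWreath

/-!
The transport of tensor powers of symplectic spaces to an ambient space, and the maximality of their stabilisers in
the symplectic groups.
-/

set_option autoImplicit false
set_option linter.unusedSectionVars false
set_option linter.unusedSimpArgs false
set_option linter.style.haveILetI false

namespace Cfsg.Agent.Classical.TensorSymp

open Matrix Module MaxTv TensorMax TensorPow

variable {F : Type*} [Field F] [Fintype F]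

/-- A symplectic form is a tensor factor. -/
theorem symp_of_geo {k : ℕ} {f : (Fin k → F) → (Fin k → F) → F} (hf : Geo.IsSymplecticForm f) : Symp f where
  add_left := hf.bilinear.add_left
  smul_left := hf.bilinear.smul_left
  add_right := hf.bilinear.add_right
  smul_right r v x := by rw [RingEquiv.refl_apply]; exact hf.bilinear.smul_right r v x
  eq_zero w hw := by
    by_contra h0
    obtain ⟨x, hx⟩ := (hf.nondegenerate w h0).1
    exact hx (hw x)
  refl v w e := by rw [hf.skew, e, neg_zero]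
  self := hf.alternating

variable {ι : Type} [Fintype ι] [DecidableEq ι] {k t : ℕ}

/-- The change of coordinates. -/
def powE (e : ι ≃ (Fin t → Fin k)) (P : GL ι F) : ((Fin t → Fin k) → F) ≃ₗ[F] (ι → F) :=
  (LinearEquiv.funCongrLeft F F e).trans (Matrix.GeneralLinearGroup.toLin P).toLinearEquiv

/-- The isomorphism of the linear groups. -/
def powΦ (e : ι ≃ (Fin t → Fin k)) (P : GL ι F) : GL (Fin t → Fin k) F ≃* GL ι F :=
  (Geo.glReindex e.symm).trans (MulAut.conj P)

theorem powE_apply (e : ι ≃ (Fin t → Fin k)) (P : GL ι F) (x : (Fin t → Fin k) → F) :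
    powE e P x = (P : Matrix ι ι F) *ᵥ (x ∘ e) := rfl

theorem powΦ_mulVec (e : ι ≃ (Fin t → Fin k)) (P : GL ι F) (g : GL (Fin t → Fin k) F) (x : (Fin t → Fin k) → F) :
    (powΦ e P g : Matrix ι ι F) *ᵥ powE e P x =
      powE e P ((g : Matrix (Fin t → Fin k) (Fin t → Fin k) F) *ᵥ x) := by
  rw [powE_apply, powE_apply]
  show ((P * Geo.glReindex e.symm g * P⁻¹ : GL ι F) : Matrix ι ι F) *ᵥ _ = _
  simp only [Units.val_mul, ← Matrix.mulVec_mulVec, inv_mulVec_cancel]
  congr 1
  show Matrix.reindexAlgEquiv F F e.symm (g : Matrix (Fin t → Fin k) (Fin t → Fin k) F) *ᵥ (x ∘ e) = _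
  funext i
  simp only [Matrix.mulVec, dotProduct, Matrix.reindexAlgEquiv_apply, Matrix.reindex_apply, Matrix.submatrix_apply,
    Equiv.symm_symm, Function.comp_apply]
  exact Equiv.sum_comp e (fun b => (g : Matrix (Fin t → Fin k) (Fin t → Fin k) F) (e i) b * x b)

theorem mem_wreath (e : ι ≃ (Fin t → Fin k)) (P : GL ι F) (g : GL (Fin t → Fin k) F) :
    powΦ e P g ∈ Geo.tensorWreathSubgroup k t e P ↔ g ∈ Wr F (Fin t) (Fin k) := by
  rw [Geo.tensorWreathSubgroup, standard_eq, Subgroup.map_map]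
  exact Subgroup.mem_map_iff_mem (powΦ e P).injective

theorem form_eq (e : ι ≃ (Fin t → Fin k)) (P : GL ι F) {f : (ι → F) → (ι → F) → F}
    {f₁ : (Fin k → F) → (Fin k → F) → F} {c : F}
    (hT : ∀ x y : (Fin t → Fin k) → F, f ((P : Matrix ι ι F) *ᵥ (x ∘ e)) ((P : Matrix ι ι F) *ᵥ (y ∘ e)) =
      c * ∑ a, ∑ b, x a * (∏ i, Geo.gramMatrix f₁ (a i) (b i)) * id (y b))
    (x y : (Fin t → Fin k) → F) : f (powE e P x) (powE e P y) = tf c f₁ x y := by
  rw [powE_apply, powE_apply, hT, tf]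
  simp only [dotProduct, Matrix.mulVec, wm, Matrix.of_apply, Equiv.Perm.coe_one, id_eq, Finset.mul_sum,
    Geo.gramMatrix, gram]
  exact Finset.sum_congr rfl fun a _ => Finset.sum_congr rfl fun b _ => by ring

/-- Maximality in the symplectic group. -/
theorem symplectic_wreath_maximal {m k t : ℕ} (hm : 2 ≤ m) (h2 : (2 : F) ≠ 0) (ht : Odd t) (ht3 : 3 ≤ t)
    (hex : ¬ (Fintype.card F = 3 ∧ k = 2)) (e : (Fin m ⊕ Fin m) ≃ (Fin t → Fin k)) (P : GL (Fin m ⊕ Fin m) F)
    (f₁ : (Fin k → F) → (Fin k → F) → F) (hf₁ : Geo.IsSymplecticForm f₁)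
    (hT : Geo.IsTensorPowerFormStructure id (sympForm m F) f₁ e P) :
    Geo.IsMaximalIn (spGL m F) (Geo.tensorWreathSubgroup k t e P ⊓ spGL m F) := by
  classical
  obtain ⟨c, hc, hT⟩ := hT
  have hh := symp_of_geo hf₁
  have hcard : Fintype.card (Fin t → Fin k) = 2 * m := by
    rw [← Fintype.card_congr e, Fintype.card_sum, Fintype.card_fin]; omega
  have hk : 2 ≤ k := by
    rw [Fintype.card_fun, Fintype.card_fin, Fintype.card_fin] at hcard
    by_contra hlt
    have h1 : k ^ t ≤ 1 ^ t := Nat.pow_le_pow_left (by omega) t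
    rw [one_pow] at h1
    omega
  have hD : SData c f₁ := ⟨hh, hc⟩
  have hb : 2 ≤ Fintype.card (Fin k) := by rw [Fintype.card_fin]; exact hk
  have hF3 : 3 ≤ Fintype.card F := by
    by_contra hlt
    have h1 : Fintype.card F = 2 := le_antisymm (by omega) (Fintype.one_lt_card (α := F))
    have h3 := Nat.cast_card_eq_zero F
    rw [h1] at h3
    exact h2 (by exact_mod_cast h3)
  have hbig : Big F (Fin k) := by
    obtain ⟨r, hr⟩ := hh.card_even
    rw [Fintype.card_fin] at hr
    rw [Big, Fintype.card_fin]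
    rcases eq_or_ne k 2 with rfl | hk2
    · exact Or.inr (Or.inr (by
        rcases eq_or_ne (Fintype.card F) 3 with h3 | h3
        · exact absurd ⟨h3, rfl⟩ hex
        · omega))
    · exact Or.inr (Or.inl ⟨by omega, hF3⟩)
  have hto : Odd (Fintype.card (Fin t)) := by rw [Fintype.card_fin]; exact ht
  have hGT : ∀ g : GL (Fin t → Fin k) F, g ∈ GT c f₁ ↔ g ∈ Iso (tf (κ := Fin t) c f₁) := fun g =>
    ⟨fun h => GT_le_Iso h, fun h => hD.Iso_le_GT h2 hto (le_trans (by norm_num) (((Nat.pow_le_pow_right (show 1 ≤ 2 by norm_num) ht3).trans (Nat.pow_le_pow_left hk t)).trans (le_of_eq (by rw [Fintype.card_fun, Fintype.card_fin, Fintype.card_fin])))) h⟩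
  have hK : ∀ g, powΦ e P g ∈ spGL m F ↔ g ∈ GT (κ := Fin t) c f₁ := fun g => by
    rw [hGT, mem_spGL, mem_Iso]
    refine ⟨fun h x y => ?_, fun h x y => ?_⟩
    · rw [← form_eq e P hT, ← form_eq e P hT, ← powΦ_mulVec, ← powΦ_mulVec, h]
    · obtain ⟨s, rfl⟩ := (powE e P).surjective x
      obtain ⟨s', rfl⟩ := (powE e P).surjective y
      rw [powΦ_mulVec, powΦ_mulVec, form_eq e P hT, form_eq e P hT, h]
  have hW : ∀ g, powΦ e P g ∈ Geo.tensorWreathSubgroup k t e P ↔ g ∈ Wr F (Fin t) (Fin k) :=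
    mem_wreath e P
  haveI : Nonempty (Fin t) := ⟨⟨0, by omega⟩⟩
  have hne : ¬ (Fintype.card (Fin k) = 2 ∧ t = 2) := fun h => by omega
  refine isMaximalIn_intro inf_le_right (fun h => ?_) fun M hHM hMK g hg hgH => ?_
  · refine hD.gt_not_le_Wr (κ := Fin t) h2 hb hbig (by rw [Fintype.card_fin]; omega)
      (by rwa [Fintype.card_fin t]) fun a ha => ?_
    exact (hW a).1 (h ((hK a).2 ha)).1
  intro z hz
  obtain ⟨a, rfl⟩ := (powΦ e P).surjective z
  obtain ⟨b, rfl⟩ := (powΦ e P).surjective g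
  have hb' : b ∉ Wr F (Fin t) (Fin k) := fun h => hgH ⟨(hW b).2 h, hMK hg⟩
  by_contra hzM
  exact hb' (hD.maxAt h2 hb hbig t (Fin t) (Fintype.card_fin t) hne (M.comap (powΦ e P).toMonoidHom)
    (fun x hx => (hGT x).1 ((hK x).1 (hMK hx))) (fun x hx => hHM ⟨(hW x).2 hx.1, (hK x).2 hx.2⟩)
    (fun h => hzM (h ((hK a).1 hz))) hg)

end Cfsg.Agent.Classical.TensorSymp
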