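import Cfsg.Agent.Lib.Classical.TensorPowSymp.Form
import Cfsg.Agent.Lib.Classical.TensorPow.Algebra

/-!
Nilpotent operators of rank one and two of a symplectic space: the two kinds of factors of product coefficients.
-/

set_option autoImplicit false
set_option linter.unusedSectionVars false
set_option linter.unusedSimpArgs false

namespace Cfsg.Agent.Classical.TensorSymp

open Matrix Module MaxTv TensorMax TensorPow

variable {F : Type*} [Field F] [Fintype F] {β : Type} [Fintype β] [DecidableEq β]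

local notation "W" => (β → F)
local notation "Mb" => Matrix β β F

/-- The self-adjoint rank two map of two orthogonal vectors. -/
def vL (h : (β → F) → (β → F) → F) (a b : β → F) : Matrix β β F :=
  vecMulVec a (fn h b) - vecMulVec b (fn h a)

/-- The two kinds of factors, told by the sign under adjoints. -/
def Ty (h : (β → F) → (β → F) → F) (ε : F) (A : Matrix β β F) : Prop :=
  (ε = -1 ∧ ∃ v, v ≠ 0 ∧ A = vN h v) ∨
    (ε = 1 ∧ ∃ a b, a ≠ 0 ∧ (∀ r : F, b ≠ r • a) ∧ h a b = 0 ∧ A = vL h a b)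

variable {h : (β → F) → (β → F) → F} (hh : Symp h)
include hh

theorem vL_mulVec (a b x : W) : vL h a b *ᵥ x = h x b • a - h x a • b := by
  rw [vL, Matrix.sub_mulVec, Matrix.vecMulVec_mulVec, Matrix.vecMulVec_mulVec, fn_dot hh.toSesq, fn_dot hh.toSesq,
    op_smul_eq_smul, op_smul_eq_smul]

theorem Symp.exists_sep {a b : W} (hab : ∀ r : F, a ≠ r • b) : ∃ x, h x a = 1 ∧ h x b = 0 ∧ h a x = -1 ∧ h b x = 0 := by
  have hnm : a ∉ (F ∙ b) := fun hm => by
    obtain ⟨r, hr⟩ := Submodule.mem_span_singleton.1 hm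
    exact hab r hr.symm
  obtain ⟨φ, h1, h0⟩ := exists_dot_one hnm
  obtain ⟨x, rfl⟩ := fn_surjective hh.toSesq φ
  have h0' := h0 b (Submodule.mem_span_singleton_self b)
  rw [fn_dot hh.toSesq] at h1 h0'
  refine ⟨-x, by rw [hh.skew, hh.neg_right, h1, neg_neg], by rw [hh.skew, hh.neg_right, h0', neg_zero, neg_zero],
    by rw [hh.neg_right, h1], by rw [hh.neg_right, h0', neg_zero]⟩

theorem ne_smul_symm {a b : W} (ha : a ≠ 0) (hab : ∀ r : F, b ≠ r • a) : ∀ r : F, a ≠ r • b := fun r e => by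
  rcases eq_or_ne r 0 with rfl | hr
  · exact ha (by rw [e, zero_smul])
  · exact hab r⁻¹ (by rw [e, smul_smul, inv_mul_cancel₀ hr, one_smul])

/-- Completing an orthogonal pair to two hyperbolic pairs. -/
theorem Symp.exists_quad {a b : W} (ha : a ≠ 0) (hab : ∀ r : F, b ≠ r • a) (hab0 : h a b = 0) :
    ∃ a' b', h a' a = 1 ∧ h a' b = 0 ∧ h b' b = 1 ∧ h b' a = 0 ∧ h a' b' = 0 ∧
      h a a' = -1 ∧ h b a' = 0 ∧ h b b' = -1 ∧ h a b' = 0 ∧ h b' a' = 0 ∧ h b a = 0 := by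
  obtain ⟨a', h1, h2, -, -⟩ := hh.exists_sep (ne_smul_symm hh ha hab)
  obtain ⟨b₀, h4, h5, -, -⟩ := hh.exists_sep hab
  obtain ⟨b', hb'⟩ : ∃ b', b' = b₀ + (-h a' b₀) • a := ⟨_, rfl⟩
  have e1 : h b' b = 1 := by rw [hb', hh.add_left, hh.smul_left, h4, hab0, mul_zero, add_zero]
  have e2 : h b' a = 0 := by rw [hb', hh.add_left, hh.smul_left, h5, hh.self, mul_zero, add_zero]
  have e3 : h a' b' = 0 := by rw [hb', hh.add_right, hh.smul_r, h1, mul_one, add_neg_cancel]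
  exact ⟨a', b', h1, h2, e1, e2, e3, by rw [hh.skew, h1], by rw [hh.skew, h2, neg_zero], by rw [hh.skew, e1],
    by rw [hh.skew, e2, neg_zero], by rw [hh.skew, e3, neg_zero], by rw [hh.skew, hab0, neg_zero]⟩

theorem three_le_of_pair {a b : W} (ha : a ≠ 0) (hab : ∀ r : F, b ≠ r • a) (hab0 : h a b = 0) :
    4 ≤ Fintype.card β := by
  obtain ⟨a', b', h1, h2, h3, h4, h5, h6, h7, h8, h9, h10, h11⟩ := hh.exists_quad ha hab hab0
  have hli : LinearIndependent F ![a, b, a', b'] := by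
    rw [Fintype.linearIndependent_iff]
    intro g hg
    simp only [Fin.sum_univ_four, Matrix.cons_val_zero, Matrix.cons_val_one, Matrix.cons_val] at hg
    have k : ∀ y, g 0 * h a y + g 1 * h b y + g 2 * h a' y + g 3 * h b' y = 0 := fun y => by
      have := congrArg (fun t => h t y) hg
      simpa only [hh.add_left, hh.smul_left, hh.toSesq.zero_left] using this
    have ka := k a
    have kb := k b
    have kc := k a'
    have kd := k b'
    simp only [hh.self, hab0, h1, h2, h3, h4, h5, h6, h7, h8, h9, h10, h11, mul_zero, mul_one, zero_add, add_zero,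
      mul_neg] at ka kb kc kd
    intro i
    fin_cases i
    · simpa using kc
    · simpa using kd
    · simpa using ka
    · simpa using kb
  have := hli.fintype_card_le_finrank
  simpa [Module.finrank_fintype_fun_eq_card] using this

theorem Symp.conj_vmv {B : GL β F} (hB : B ∈ Iso h) (v w : W) :
    (B : Mb) * vecMulVec v (fn h w) * ((B⁻¹ : GL β F) : Mb) = vecMulVec ((B : Mb) *ᵥ v) (fn h ((B : Mb) *ᵥ w)) := by
  rw [Matrix.mul_vecMulVec, Matrix.vecMulVec_mul]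
  congr 1
  refine fn_ext hh.toSesq fun x => ?_
  rw [← Matrix.dotProduct_mulVec, fn_dot hh.toSesq]
  conv_rhs => rw [← mulVec_inv_cancel B x, hB]

/-- Moving orthogonal independent pairs, fixing the first vector. -/
theorem Symp.exists_move_fix {c b d : W} (hc : c ≠ 0) (hb : ∀ r : F, b ≠ r • c) (hd : ∀ r : F, d ≠ r • c)
    (hcb : h c b = 0) (hcd : h c d = 0) :
    ∃ B : GL β F, B ∈ Iso h ∧ (B : Mb) *ᵥ c = c ∧ (B : Mb) *ᵥ b = d := by
  have step : ∀ {x y : W}, h c x = 0 → h c y = 0 → h x y ≠ 0 →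
      ∃ B : GL β F, B ∈ Iso h ∧ (B : Mb) *ᵥ c = c ∧ (B : Mb) *ᵥ x = y := fun {x y} hcx hcy hxy => by
    have h1 : h x (y - x) = h x y := by rw [hh.toSesq.sub_right, hh.self, sub_zero]
    obtain ⟨B, hB, -, -, hBx⟩ := hh.exists_tv (y - x) (h x (y - x))⁻¹
    exact ⟨B, hB, by rw [hBx, show h c (y - x) = 0 by rw [hh.toSesq.sub_right, hcy, hcx, sub_zero], mul_zero, zero_smul, add_zero],
      by rw [hBx, inv_mul_cancel₀ (by rwa [h1]), one_smul, add_sub_cancel]⟩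
  obtain ⟨x₁, e1, e1', -, e1''⟩ := hh.exists_sep hb
  obtain ⟨x₂, e2, e2', -, e2''⟩ := hh.exists_sep hd
  obtain ⟨x, hcx, hbx, hxd⟩ : ∃ x, h c x = 0 ∧ h b x ≠ 0 ∧ h x d ≠ 0 := by
    have e1b : h b x₁ = -1 := by rw [hh.skew, e1]
    by_cases k1 : h x₁ d = 0
    · by_cases k2 : h b x₂ = 0
      · exact ⟨x₁ + x₂, by rw [hh.add_right, e1'', e2'', add_zero],
          by rw [hh.add_right, e1b, k2, add_zero]; simp, by rw [hh.add_left, k1, e2, zero_add]; exact one_ne_zero⟩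
      · exact ⟨x₂, e2'', k2, by rw [e2]; exact one_ne_zero⟩
    · exact ⟨x₁, e1'', by rw [e1b]; simp, k1⟩
  obtain ⟨B, hB, hBc, hBb⟩ := step hcb hcx hbx
  obtain ⟨B', hB', hB'c, hB'x⟩ := step hcx hcd hxd
  exact ⟨B' * B, mul_mem hB' hB, by rw [Units.val_mul, ← Matrix.mulVec_mulVec, hBc, hB'c],
    by rw [Units.val_mul, ← Matrix.mulVec_mulVec, hBb, hB'x]⟩

variable {ε : F} {A : Matrix β β F}

theorem Ty.sgn (hA : Ty h ε A) : ε = -1 ∨ ε = 1 := hA.imp (fun x => x.1) fun x => x.1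

theorem Ty.sgn_sq (hA : Ty h ε A) : ε * ε = 1 := by
  rcases hA.sgn hh with rfl | rfl <;> simp

theorem Ty.ne_zero (hA : Ty h ε A) : A ≠ 0 := by
  rcases hA with ⟨-, v, hv, rfl⟩ | ⟨-, a, b, ha, hab, hab0, rfl⟩
  · exact vN_ne_zero hh hv
  · intro e
    obtain ⟨a', b', h1, h2, h3, h4, h5, h6, h7, h8, h9, h10, h11⟩ := hh.exists_quad ha hab hab0
    have := congrArg (fun T : Mb => T *ᵥ b') e
    simp only [vL_mulVec hh, h3, h4, one_smul, zero_smul, sub_zero, Matrix.zero_mulVec] at this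
    exact ha this

theorem Ty.sq (hA : Ty h ε A) : A * A = 0 := by
  rcases hA with ⟨-, v, hv, rfl⟩ | ⟨-, a, b, ha, hab, hab0, rfl⟩
  · exact vN_mul_self hh v
  · refine Matrix.ext_iff_mulVec.2 fun x => ?_
    rw [← Matrix.mulVec_mulVec, vL_mulVec hh, vL_mulVec hh, hh.toSesq.sub_left, hh.toSesq.sub_left, hh.smul_left,
      hh.smul_left, hh.smul_left, hh.smul_left, hh.self, hh.self, hab0, hh.skew a b, hab0, Matrix.zero_mulVec]
    simp

theorem Ty.adj (hA : Ty h ε A) (x y : W) : h (A *ᵥ x) y = ε * h x (A *ᵥ y) := by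
  rcases hA with ⟨rfl, v, hv, rfl⟩ | ⟨rfl, a, b, ha, hab, hab0, rfl⟩
  · rw [vN_mulVec hh, vN_mulVec hh, hh.smul_left, hh.smul_r, hh.skew y v]
    ring
  · rw [vL_mulVec hh, vL_mulVec hh, hh.toSesq.sub_left, hh.toSesq.sub_right, hh.smul_left, hh.smul_left, hh.smul_r,
      hh.smul_r, hh.skew y a, hh.skew y b]
    ring

/-- Factors of the same kind are conjugate. -/
theorem Ty.conj (h2 : (2 : F) ≠ 0) {A' : Mb} (hA : Ty h ε A) (hA' : Ty h ε A') :
    ∃ B : GL β F, B ∈ Iso h ∧ (B : Mb) * A * ((B⁻¹ : GL β F) : Mb) = A' := by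
  have h11 : (1 : F) ≠ -1 := fun e => h2 (by linear_combination e)
  rcases hA with ⟨rfl, v, hv, rfl⟩ | ⟨rfl, a, b, ha, hab, hab0, rfl⟩ <;>
    rcases hA' with ⟨he, w, hw, rfl⟩ | ⟨he, a', b', ha', hab', hab0', rfl⟩
  · obtain ⟨B, hB, hBv⟩ := hh.exists_move hv hw
    exact ⟨B, hB, by rw [vN, hh.conj_vmv hB, hBv]; rfl⟩
  · exact absurd he.symm h11
  · exact absurd he h11
  · obtain ⟨B, hB, hBa⟩ := hh.exists_move ha ha'
    obtain ⟨B', hB', hB'c, hB'b⟩ := hh.exists_move_fix ha' (b := (B : Mb) *ᵥ b) (d := b')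
      (fun r e => hab r (gl_mulVec_injective B (by
        show (B : Mb) *ᵥ b = (B : Mb) *ᵥ (r • a)
        rw [e, Matrix.mulVec_smul, hBa]))) hab' (by rw [← hBa, hB, hab0]) hab0'
    refine ⟨B' * B, mul_mem hB' hB, ?_⟩
    have hBB : B' * B ∈ Iso h := mul_mem hB' hB
    rw [vL, vL, mul_sub, sub_mul, hh.conj_vmv hBB, hh.conj_vmv hBB]
    simp only [Units.val_mul, ← Matrix.mulVec_mulVec, hBa, hB'c, hB'b]

/-- Two kinds meet. -/
theorem Ty.exists_meet {ε' : F} {A₀ : Mb} (hA : Ty h ε A) (hA' : Ty h ε' A₀) :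
    ∃ (A₁ A₂ : Mb) (u : W), Ty h ε A₁ ∧ Ty h ε' A₂ ∧ u ≠ 0 ∧ h ((A₁ * A₂) *ᵥ u) u ≠ 0 := by
  have fin : ∀ (A₁ A₂ : Mb) (u : W), Ty h ε A₁ → Ty h ε' A₂ → h ((A₁ * A₂) *ᵥ u) u ≠ 0 →
      ∃ (A₁ A₂ : Mb) (u : W), Ty h ε A₁ ∧ Ty h ε' A₂ ∧ u ≠ 0 ∧ h ((A₁ * A₂) *ᵥ u) u ≠ 0 :=
    fun A₁ A₂ u h1 h2 h3 => ⟨A₁, A₂, u, h1, h2, fun e => h3 (by
      rw [e, Matrix.mulVec_zero, hh.toSesq.zero_left]), h3⟩
  rcases hA with ⟨rfl, v, hv, rfl⟩ | ⟨rfl, a, b, ha, hab, hab0, rfl⟩ <;>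
    rcases hA' with ⟨rfl, v', hv', rfl⟩ | ⟨rfl, a₂, b₂, ha₂, hab₂, hab0₂, rfl⟩
  · obtain ⟨w, hw, hw'⟩ := hh.partner hv
    have hw0 : w ≠ 0 := fun e => one_ne_zero (by rw [← hw, e, hh.toSesq.zero_left])
    refine fin (vN h v) (vN h w) (v + w) (Or.inl ⟨rfl, v, hv, rfl⟩) (Or.inl ⟨rfl, w, hw0, rfl⟩) ?_
    simp [← Matrix.mulVec_mulVec, vN_mulVec hh, hh.add_left, hh.add_right, hh.smul_left, hh.neg_left, hw, hw', hh.self]
  · obtain ⟨a', b', h1, h2, h3, h4, h5, h6, h7, h8, h9, h10, h11⟩ := hh.exists_quad ha₂ hab₂ hab0₂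
    have ha' : a' ≠ 0 := fun e => one_ne_zero (by rw [← h1, e, hh.toSesq.zero_left])
    refine fin (vN h a') (vL h a₂ b₂) (a₂ + b') (Or.inl ⟨rfl, a', ha', rfl⟩)
      (Or.inr ⟨rfl, a₂, b₂, ha₂, hab₂, hab0₂, rfl⟩) ?_
    simp [← Matrix.mulVec_mulVec, vN_mulVec hh, vL_mulVec hh, hh.add_left, hh.add_right, hh.smul_left,
      hh.toSesq.sub_left, hh.neg_left, hh.self, h1, h2, h3, h4, h5, h6, h7, h8, h9, h10, h11, hab0₂]
  · obtain ⟨a', b', h1, h2, h3, h4, h5, h6, h7, h8, h9, h10, h11⟩ := hh.exists_quad ha hab hab0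
    have ha' : a' ≠ 0 := fun e => one_ne_zero (by rw [← h1, e, hh.toSesq.zero_left])
    refine fin (vL h a b) (vN h a') (a + b') (Or.inr ⟨rfl, a, b, ha, hab, hab0, rfl⟩) (Or.inl ⟨rfl, a', ha', rfl⟩) ?_
    simp [← Matrix.mulVec_mulVec, Matrix.mulVec_smul, vN_mulVec hh, vL_mulVec hh, hh.add_left, hh.add_right,
      hh.smul_left, hh.toSesq.sub_left, hh.neg_left, hh.self, h1, h2, h3, h4, h5, h6, h7, h8, h9, h10, h11, hab0]
  · obtain ⟨a', b', h1, h2, h3, h4, h5, h6, h7, h8, h9, h10, h11⟩ := hh.exists_quad ha hab hab0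
    have ha' : a' ≠ 0 := fun e => one_ne_zero (by rw [← h1, e, hh.toSesq.zero_left])
    have hab' : ∀ r : F, b' ≠ r • a' := fun r e => by
      have := h3
      rw [e, hh.smul_left, h2, mul_zero] at this
      exact zero_ne_one this
    refine fin (vL h a b) (vL h a' b') (a + a') (Or.inr ⟨rfl, a, b, ha, hab, hab0, rfl⟩)
      (Or.inr ⟨rfl, a', b', ha', hab', h5, rfl⟩) ?_
    simp [← Matrix.mulVec_mulVec, Matrix.mulVec_smul, vL_mulVec hh, hh.add_left, hh.add_right, hh.smul_left,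
      hh.toSesq.sub_left, hh.toSesq.sub_right, hh.self, h1, h2, h3, h4, h5, h6, h7, h8, h9, h10, h11, hab0]

/-- Anticommutators of two factors of one kind do not all vanish. -/
theorem Ty.exists_pair (h2 : (2 : F) ≠ 0) (hA : Ty h ε A) :
    ∃ A₁ A₂ : Mb, Ty h ε A₁ ∧ Ty h ε A₂ ∧ A₁ * A₂ + A₂ * A₁ ≠ 0 := by
  rcases hA with ⟨rfl, v, hv, rfl⟩ | ⟨rfl, a, b, ha, hab, hab0, rfl⟩
  · obtain ⟨w, hw, hw'⟩ := hh.partner hv
    have hw0 : w ≠ 0 := fun e => one_ne_zero (by rw [← hw, e, hh.toSesq.zero_left])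
    refine ⟨vN h v, vN h w, Or.inl ⟨rfl, v, hv, rfl⟩, Or.inl ⟨rfl, w, hw0, rfl⟩, fun e => hv ?_⟩
    have := congrArg (fun T : Mb => T *ᵥ v) e
    simpa [Matrix.add_mulVec, ← Matrix.mulVec_mulVec, vN_mulVec hh, hh.smul_left, hh.toSesq.zero_left, hh.neg_left, hw, hw',
      hh.self] using this
  · obtain ⟨a', b', h1, h2', h3, h4, h5, h6, h7, h8, h9, h10, h11⟩ := hh.exists_quad ha hab hab0
    have ha' : a' ≠ 0 := fun e => one_ne_zero (by rw [← h1, e, hh.toSesq.zero_left])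
    have hab' : ∀ r : F, b' ≠ r • a' := fun r e => by
      have := h3
      rw [e, hh.smul_left, h2', mul_zero] at this
      exact zero_ne_one this
    refine ⟨vL h a b, vL h a' b', Or.inr ⟨rfl, a, b, ha, hab, hab0, rfl⟩, Or.inr ⟨rfl, a', b', ha', hab', h5, rfl⟩,
      fun e => ha ?_⟩
    have := congrArg (fun T : Mb => T *ᵥ a) e
    simpa [Matrix.add_mulVec, ← Matrix.mulVec_mulVec, vL_mulVec hh, hh.smul_left, hh.toSesq.sub_left,
      Matrix.mulVec_neg, hh.neg_left, hh.toSesq.zero_left, hh.self, h1, h2', h3, h4, h5, h6, h7, h8, h9, h10, h11, hab0] using this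

/-- A non-scalar self-adjoint map pairs two orthogonal independent vectors. -/
theorem Symp.exists_orth_pair (h2 : (2 : F) ≠ 0) {G : Mb} (hG : ∀ x y, h (G *ᵥ x) y = h x (G *ᵥ y))
    (hns : ∀ r : F, G ≠ r • (1 : Mb)) :
    ∃ p q, p ≠ 0 ∧ (∀ r : F, q ≠ r • p) ∧ h p q = 0 ∧ h (G *ᵥ q) p ≠ 0 := by
  by_contra hc
  push Not at hc
  obtain ⟨r, hr⟩ := TensorPow.scalar_of_eigen (A := G) fun q => by
    rcases eq_or_ne q 0 with rfl | hq
    · exact ⟨0, by simp⟩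
    by_contra hne
    push Not at hne
    obtain ⟨p, hp, hpq, -, -⟩ := hh.exists_sep hne
    have hp0 : p ≠ 0 := fun e => one_ne_zero (by rw [← hp, e, hh.toSesq.zero_left])
    have h0 := hc p q hp0 ?_ hpq
    · rw [hh.skew, h0, neg_zero] at hp
      exact zero_ne_one hp
    · intro r e
      rcases eq_or_ne r 0 with rfl | hr
      · exact hq (by rw [e, zero_smul])
      have e' : h p (G *ᵥ q) = 0 := by
        have hpp : h (G *ᵥ p) p = 0 := by
          have k := hG p p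
          rw [hh.skew (G *ᵥ p) p] at k
          exact (mul_eq_zero.1 (show (2 : F) * h (G *ᵥ p) p = 0 by linear_combination k)).resolve_left h2
        rw [e, Matrix.mulVec_smul, hh.smul_r, hh.skew, hpp, neg_zero, mul_zero]
      rw [hp] at e'
      exact one_ne_zero e'
  exact hns r hr

end Cfsg.Agent.Classical.TensorSymp
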