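import Cfsg.Agent.Lib.Classical.TensorPowSymp.Basic
import Cfsg.Agent.Lib.Classical.TensorPowSymp.Kinds
import Cfsg.Agent.Lib.Classical.TensorPowForm.Algebra

/-!
Spaces of matrices on a tensor power of a symplectic space in odd characteristic, invariant under the factor groups
and enough permutations, closed under anticommutators with nilpotent members: a non-scalar member gives a product of
rank one or two.
-/

set_option autoImplicit false
set_option linter.unusedSectionVars false
set_option linter.unusedSimpArgs false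
set_option linter.style.haveILetI false

namespace Cfsg.Agent.Classical.TensorSymp

open Matrix Module MaxTv TensorMax TensorPow
open Cfsg.Agent.Classical.TensorPowForm (Closed com_closed et_yop' yop_et_com yop_wm delta_two)

variable {F : Type*} [Field F] [Fintype F] {κ β : Type} [Fintype κ] [DecidableEq κ] [Fintype β] [DecidableEq β]

local notation "Mn" => Matrix (κ → β) (κ → β) F
local notation "Mb" => Matrix β β F

/-- The hypotheses on the space. -/
structure SAlg (c : F) (h : (β → F) → (β → F) → F) (P : Matrix (κ → β) (κ → β) F → Prop) : Prop where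
  data : SData c h
  h2 : (2 : F) ≠ 0
  hk : Fintype.card β = 2 ∨ 4 ≤ Fintype.card β
  add : ∀ {R S}, P R → P S → P (R + S)
  smul : ∀ {R} (r : F), P R → P (r • R)
  conj : ∀ {R} (j : κ) (E : GL β F), E ∈ Iso h → P R →
    P (et j (E : Matrix β β F) * R * et j ((E⁻¹ : GL β F) : Matrix β β F))
  anti : ∀ {R S}, R * R = 0 → P R → P S → P (R * S + S * R)
  adj : ∀ {R}, P R → ∀ x y, tf c h (R *ᵥ x) y = tf c h x (R *ᵥ y)
  cyc : ∀ {gs : κ → Matrix β β F} {a b d : κ}, a ≠ b → b ≠ d → d ≠ a → P (wm 1 gs) →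
    P (wm 1 (gs ∘ (Equiv.swap a b * Equiv.swap b d)))
  two : ∀ {gs : κ → Matrix β β F} {a b d e : κ}, a ≠ b → d ≠ e → a ≠ d → a ≠ e → b ≠ d → b ≠ e → P (wm 1 gs) →
    P (wm 1 (gs ∘ (Equiv.swap a b * Equiv.swap d e)))
  sw : ∀ {gs : κ → Matrix β β F} (a b : κ), Fintype.card κ = 2 → P (wm 1 gs) → P (wm 1 (gs ∘ Equiv.swap a b))

/-- All products with given kinds at the factors of a set are members. -/
structure St (h : (β → F) → (β → F) → F) (P : Matrix (κ → β) (κ → β) F → Prop) (J : Finset κ) (ε : κ → F) :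
    Prop where
  ex : ∀ l ∈ J, ∃ A, Ty h (ε l) A
  all : ∀ gs : κ → Matrix β β F, (∀ l ∈ J, Ty h (ε l) (gs l)) → (∀ l, l ∉ J → gs l = 1) → P (wm 1 gs)

/-- The product of rank one or two. -/
def Top (h : (β → F) → (β → F) → F) (P : Matrix (κ → β) (κ → β) F → Prop) : Prop :=
  St h P Finset.univ (fun _ => -1) ∨
    ∃ m, (Fintype.card β = 2 ∧ St h P (Finset.univ.erase m) (fun _ => -1)) ∨
      (4 ≤ Fintype.card β ∧ St h P Finset.univ (Function.update (fun _ => -1) m 1))

/-- A factor of one of the two kinds at the place, times something commuting with it. -/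
def PureT (h : (β → F) → (β → F) → F) (j : κ) (R : Matrix (κ → β) (κ → β) F) : Prop :=
  ∃ ε G, Ty h ε G ∧ ∃ W, Com j W ∧ R = et j G * W

theorem pure_closed' {l j : κ} (hlj : l ≠ j) (G : Mb) :
    Closed l (fun R : Mn => ∃ W, Com j W ∧ R = et j G * W) where
  add := by
    rintro _ _ ⟨W, hW, rfl⟩ ⟨W', hW', rfl⟩
    exact ⟨W + W', (com_closed hlj).add hW hW', (mul_add _ _ _).symm⟩
  smul := by
    rintro _ r ⟨W, hW, rfl⟩
    exact ⟨r • W, (com_closed hlj).smul r hW, (Matrix.mul_smul _ _ _).symm⟩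
  left := by
    rintro _ A ⟨W, hW, rfl⟩
    exact ⟨et l A * W, (com_closed hlj).left A hW, by rw [← mul_assoc, et_comm hlj, mul_assoc]⟩
  right := by
    rintro _ A ⟨W, hW, rfl⟩
    exact ⟨W * et l A, (com_closed hlj).right A hW, mul_assoc _ _ _⟩

theorem com_ne {j : κ} {G : Mb} (hG : G ≠ 0) {W : Mn} (hW : Com j W) (hne : W ≠ 0) : et j G * W ≠ 0 := fun e => by
  obtain ⟨u, hu⟩ : ∃ u, G *ᵥ u ≠ 0 := by
    by_contra hc
    push Not at hc
    exact hG (Matrix.ext_iff_mulVec.2 fun u => by rw [hc, Matrix.zero_mulVec])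
  obtain ⟨φ, hφ⟩ := exists_dual hu
  have h1 := yop_et_com u φ G hW
  rw [e, hφ, one_smul] at h1
  refine hne (h1.symm.trans ?_)
  rw [yop]
  exact Finset.sum_eq_zero fun a _ => by rw [mul_zero, zero_mul]

theorem wm_split (gs : κ → Mb) (a : κ) (T : Mb) :
    wm (1 : Equiv.Perm κ) (Function.update gs a T) = wm 1 (Function.update gs a 1) * et a T := by
  rw [wm_update _ (Function.update_self _ _ _), Function.update_idem]

variable {c : F} {h : (β → F) → (β → F) → F} {P : Matrix (κ → β) (κ → β) F → Prop} (hP : SAlg c h P)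
include hP

theorem SAlg.sub {R S : Mn} (hR : P R) (hS : P S) : P (R - S) := by
  rw [sub_eq_add_neg, ← neg_one_smul F S]
  exact hP.add hR (hP.smul _ hS)

/-- The inner and the two-sided products with the rank one map. -/
theorem SAlg.sand {R : Mn} (hR : P R) (j : κ) (u : β → F) :
    P (et j (vN h u) * R * et j (vN h u)) ∧ P (et j (vN h u) * R - R * et j (vN h u)) := by
  obtain ⟨E, hE, e1, e2, -⟩ := hP.data.hh.exists_tv u 1
  obtain ⟨E', hE', e1', e2', -⟩ := hP.data.hh.exists_tv u (-1)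
  have k1 := hP.conj j E hE hR
  have k2 := hP.conj j E' hE' hR
  rw [e1, e2, one_smul] at k1
  rw [e1', e2', neg_one_smul] at k2
  obtain ⟨N, hN⟩ : ∃ N, N = et (κ := κ) j (vN h u) := ⟨_, rfl⟩
  have d1 : et (κ := κ) j (1 + vN h u) = 1 + N := by rw [et_add, et_one, hN]
  have d2 : et (κ := κ) j (1 - vN h u) = 1 - N := by
    rw [sub_eq_add_neg, ← neg_one_smul F (vN h u), et_add, et_one, et_smul, neg_one_smul, ← sub_eq_add_neg, hN]
  have d3 : et (κ := κ) j (1 + -vN h u) = 1 - N := by rw [← sub_eq_add_neg, d2]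
  have d4 : et (κ := κ) j (1 - -vN h u) = 1 + N := by rw [sub_neg_eq_add, d1]
  rw [d1, d2] at k1
  rw [d3, d4] at k2
  rw [← hN]
  refine ⟨?_, ?_⟩
  · have := hP.smul (-(2 : F)⁻¹) (hP.sub (hP.add k1 k2) (hP.add hR hR))
    convert this using 1
    simp only [add_mul, mul_add, sub_mul, mul_sub, one_mul, mul_one]
    match_scalars <;> field_simp [hP.h2] <;> ring
  · have := hP.smul (2 : F)⁻¹ (hP.sub k1 k2)
    convert this using 1
    simp only [add_mul, mul_add, sub_mul, mul_sub, one_mul, mul_one]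
    match_scalars <;> field_simp [hP.h2] <;> ring

/-- The symmetrised product with two orthogonal rank one maps. -/
theorem SAlg.lam {R : Mn} (hR : P R) (j : κ) {a b : β → F} (hab : h a b = 0) :
    P (et j (vN h a) * R * et j (vN h b) + et j (vN h b) * R * et j (vN h a)) := by
  have k1 := (hP.sand (hP.sand hR j b).2 j a).2
  have hba : h b a = 0 := hP.data.hh.toSesq.refl _ _ hab
  have z : ∀ x y : β → F, h x y = 0 → h y x = 0 → et (κ := κ) j (vN h x) * et j (vN h y) = 0 := fun x y hxy hyx => by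
    rw [et_mul, vN, vN, vmv_mul, fn_dot hP.data.hh.toSesq, hyx, zero_smul, ← zero_smul F (1 : Mb), et_smul, zero_smul]
  have e1 := z a b hab hba
  have e2 := z b a hba hab
  have := hP.smul (-1 : F) k1
  convert this using 1
  simp only [mul_sub, sub_mul, ← mul_assoc, e1, zero_mul, mul_assoc R, e2, mul_zero, zero_sub, sub_zero]
  module

/-- One factor is made pure. -/
theorem SAlg.step {l : κ} {R : Mn} (hR : P R) (hnc : ¬ Com l R) :
    ∃ R', P R' ∧ R' ≠ 0 ∧ PureT h l R' ∧ ∀ j, j ≠ l → ∀ Q : Mn → Prop, Closed l Q → Q R → Q R' := by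
  have hh := hP.data.hh
  have z0 : ∀ w, yop l w (0 : β → F) R = 0 := fun w => by
    have := yop_add_right l w (0 : β → F) 0 R
    rwa [add_zero, left_eq_add] at this
  have z0' : ∀ φ, yop l (0 : β → F) φ R = 0 := fun φ => by
    have := yop_add_left l (0 : β → F) 0 φ R
    rwa [add_zero, left_eq_add] at this
  by_cases hN : ∃ v, yop l v (fn h v) R ≠ 0
  · obtain ⟨v, hv⟩ := hN
    have hv0 : v ≠ 0 := fun e => hv (by rw [e, z0'])
    refine ⟨et l (vN h v) * yop l v (fn h v) R, ?_, com_ne (vN_ne_zero hh hv0) (yop_com _ _ _ _) hv,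
      ⟨-1, vN h v, Or.inl ⟨rfl, v, hv0, rfl⟩, _, yop_com _ _ _ _, rfl⟩, fun j _ Q hQ hQR => hQ.left _ (hQ.yop _ _ hQR)⟩
    rw [vN, et_yop']
    exact (hP.sand hR l v).1
  push Not at hN
  have hs : ∀ a b, yop l a (fn h b) R + yop l b (fn h a) R = 0 := fun a b => by
    have := hN (a + b)
    rwa [fn_add hh.toSesq, yop_add_left, yop_add_right, yop_add_right, hN, hN, zero_add, add_zero] at this
  obtain ⟨a, b, hab0, hb⟩ : ∃ a b, h a b = 0 ∧ yop l b (fn h a) R ≠ 0 := by
    by_contra hc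
    push Not at hc
    refine hnc ?_
    obtain ⟨b₀⟩ : Nonempty β := Fintype.card_pos_iff.1 (by have := hP.hk; omega)
    rw [eq_yop_of_vanish (R := R) (j := l) (fun v φ hv => ?_) b₀]
    · exact yop_com _ _ _ _
    · obtain ⟨u, rfl⟩ := fn_surjective hh.toSesq φ
      rw [fn_dot hh.toSesq] at hv
      exact hc u v (hh.toSesq.refl _ _ hv)
  have ha : a ≠ 0 := fun e => hb (by rw [e, fn_zero hh.toSesq, z0])
  have hab : ∀ r : F, b ≠ r • a := fun r e => hb (by
    rw [e, yop, Finset.sum_congr rfl fun x _ => (show et l (vecMulVec (Pi.single x 1) (fn h a)) * R *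
      et l (vecMulVec (r • a) (Pi.single x (1 : F))) = r • (et l (vecMulVec (Pi.single x 1) (fn h a)) * R *
      et l (vecMulVec a (Pi.single x (1 : F)))) by rw [Matrix.smul_vecMulVec, et_smul, Matrix.mul_smul]),
      ← Finset.smul_sum]
    show r • yop l a (fn h a) R = 0
    rw [hN, smul_zero])
  have hT : Ty h 1 (vL h a b) := Or.inr ⟨rfl, a, b, ha, hab, hab0, rfl⟩
  refine ⟨et l (vL h a b) * yop l b (fn h a) R, ?_, com_ne (hT.ne_zero hh) (yop_com _ _ _ _) hb,
    ⟨1, vL h a b, hT, _, yop_com _ _ _ _, rfl⟩, fun j _ Q hQ hQR => hQ.left _ (hQ.yop _ _ hQR)⟩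
  have k := hP.lam hR l hab0
  rw [vN, vN, ← et_yop', ← et_yop', eq_neg_of_add_eq_zero_left (hs a b), mul_neg, ← sub_eq_add_neg] at k
  convert k using 1
  rw [vL, sub_eq_add_neg, et_add, ← neg_one_smul F (vecMulVec b (fn h a)), et_smul, neg_one_smul, add_mul, neg_mul,
    ← sub_eq_add_neg]

/-- All products of the kinds are members if one is. -/
theorem SAlg.st_of {J : Finset κ} {ε : κ → F} {gs : κ → Mb} (hT : ∀ l ∈ J, Ty h (ε l) (gs l))
    (h1 : ∀ l, l ∉ J → gs l = 1) (hmem : P (wm 1 gs)) : St h P J ε := by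
  refine ⟨fun l hl => ⟨_, hT l hl⟩, fun gs' hT' h1' => ?_⟩
  suffices main : ∀ s : Finset κ, s ⊆ J → P (wm 1 fun l => if l ∈ s then gs' l else gs l) by
    have := main J subset_rfl
    convert this using 3 with l
    by_cases e : l ∈ J
    · rw [if_pos e]
    · rw [if_neg e, h1' l e, h1 l e]
  intro s
  induction s using Finset.induction_on with
  | empty => exact fun _ => by simpa using hmem
  | insert a s ha ih =>
    intro hs
    have h0 := ih fun x hx => hs (Finset.mem_insert_of_mem hx)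
    have haJ : a ∈ J := hs (Finset.mem_insert_self a s)
    obtain ⟨B, hB, hBa⟩ := (hT a haJ).conj hP.data.hh hP.h2 (hT' a haJ)
    have k := hP.conj a B hB h0
    obtain ⟨g, hg⟩ : ∃ g, g = fun l => if l ∈ s then gs' l else gs l := ⟨_, rfl⟩
    rw [← hg] at k
    rw [← Function.update_eq_self a g, wm_split, ← mul_assoc, ← wm_update_ne _ (Function.update_self _ _ _),
      mul_assoc, mul_assoc, et_mul, et_mul, ← mul_assoc (B : Mb), ← wm_split] at k
    convert k using 2
    funext l
    by_cases e : l = a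
    · subst e
      rw [Function.update_self, if_pos (Finset.mem_insert_self _ _), hg]
      simp only [if_neg ha, hBa]
    · rw [Function.update_of_ne e, hg]
      simp [e]

/-- A member pure or central at every factor. -/
theorem SAlg.normal {R : Mn} (hR : P R) (hR0 : R ≠ 0) (hall : ∀ l, PureT h l R ∨ Com l R) {l₀ : κ}
    (hl₀ : PureT h l₀ R) : ∃ (J : Finset κ) (ε : κ → F), l₀ ∈ J ∧ St h P J ε := by
  classical
  let J := Finset.univ.filter fun l => PureT h l R
  have hJ : ∀ l ∈ J, PureT h l R := fun l hl => (Finset.mem_filter.1 hl).2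
  choose εs Gs hGs Ws hWs hRs using hJ
  let G : κ → Mb := fun l => if hl : l ∈ J then Gs l hl else 1
  let ε : κ → F := fun l => if hl : l ∈ J then εs l hl else 1
  let g : Finset κ → κ → Mb := fun s l => if l ∈ s then G l else 1
  have main : ∀ s : Finset κ, s ⊆ J → ∃ W, R = wm 1 (g s) * W ∧ (∀ l, l ∈ s ∨ l ∉ J → Com l W) := by
    intro s
    induction s using Finset.induction_on with
    | empty =>
      refine fun _ => ⟨R, by rw [show g ∅ = 1 from funext fun l => by simp [g], wm1_one, one_mul],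
        fun l hl => ?_⟩
      have hl' : l ∉ J := hl.resolve_left (Finset.notMem_empty l)
      exact (hall l).resolve_left fun hp => hl' (Finset.mem_filter.2 ⟨Finset.mem_univ _, hp⟩)
    | insert a s ha ih =>
      intro hs
      obtain ⟨W, hW, hWc⟩ := ih fun x hx => hs (Finset.mem_insert_of_mem hx)
      have haJ : a ∈ J := hs (Finset.mem_insert_self a s)
      have hGa : G a = Gs a haJ := dif_pos haJ
      have hRa := hRs a haJ
      rw [← hGa] at hRa
      obtain ⟨u, hu⟩ : ∃ u, G a *ᵥ u ≠ 0 := by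
        by_contra hc
        push Not at hc
        exact (hGs a haJ).ne_zero hP.data.hh (hGa ▸ Matrix.ext_iff_mulVec.2 fun u => by rw [hc, Matrix.zero_mulVec])
      obtain ⟨φ, hφ⟩ := exists_dual hu
      have hga : g s a = 1 := if_neg ha
      have e1 : Ws a haJ = wm 1 (g s) * yop a u φ W := by
        rw [← yop_wm _ hga, ← hW, hRa, yop_et_com u φ _ (hWs a haJ), hφ, one_smul]
      refine ⟨yop a u φ W, ?_, fun l hl => ?_⟩
      · rw [hRa, e1, ← mul_assoc, ← wm_update_ne _ hga, wm_update _ hga]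
        congr 2
        funext l
        by_cases e : l = a
        · subst e; simp [g]
        · simp [g, e]
      · by_cases e : l = a
        · subst e; exact yop_com _ _ _ _
        · exact (com_closed (Ne.symm e)).yop _ _ (hWc l (hl.imp_left fun h' => (Finset.mem_insert.1 h').resolve_left e))
  obtain ⟨W, hW, hWc⟩ := main J subset_rfl
  obtain ⟨r, hr⟩ := scalar_of_com fun l => hWc l (Classical.em _)
  have hr0 : r ≠ 0 := fun e => hR0 (by rw [hW, hr, e, zero_smul, mul_zero])
  refine ⟨J, ε, Finset.mem_filter.2 ⟨Finset.mem_univ _, hl₀⟩, hP.st_of (gs := g J) (fun l hl => ?_)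
    (fun l hl => if_neg hl) ?_⟩
  · simp only [g, G, ε, if_pos hl, dif_pos hl]
    exact hGs l hl
  · have := hP.smul r⁻¹ hR
    rwa [hW, hr, Matrix.mul_smul, mul_one, smul_smul, inv_mul_cancel₀ hr0, one_smul] at this

/-- A non-scalar member gives a product. -/
theorem SAlg.exists_st {R₀ : Mn} (hR₀ : P R₀) (hns : ∀ r : F, R₀ ≠ r • (1 : Mn)) :
    ∃ (J : Finset κ) (ε : κ → F), J.Nonempty ∧ St h P J ε := by
  classical
  obtain ⟨l₀, hl₀⟩ : ∃ l, ¬ Com l R₀ := by
    by_contra hc
    push Not at hc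
    obtain ⟨r, hr⟩ := scalar_of_com hc
    exact hns r hr
  obtain ⟨R₁, hR₁, hR₁0, hp₁, -⟩ := hP.step hR₀ hl₀
  suffices main : ∀ s : Finset κ, l₀ ∉ s → ∃ R, P R ∧ R ≠ 0 ∧ PureT h l₀ R ∧ ∀ l ∈ s, PureT h l R ∨ Com l R by
    obtain ⟨R, hR, hR0, hp, hall⟩ := main (Finset.univ.erase l₀) (Finset.notMem_erase _ _)
    obtain ⟨J, ε, hJ, hst⟩ := hP.normal hR hR0 (fun l => by
      rcases eq_or_ne l l₀ with rfl | e
      · exact Or.inl hp
      · exact hall l (Finset.mem_erase.2 ⟨e, Finset.mem_univ l⟩)) hp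
    exact ⟨J, ε, ⟨l₀, hJ⟩, hst⟩
  intro s
  induction s using Finset.induction_on with
  | empty => exact fun _ => ⟨R₁, hR₁, hR₁0, hp₁, by simp⟩
  | insert a s ha ih =>
    intro hs
    rw [Finset.mem_insert, not_or] at hs
    obtain ⟨R, hR, hR0, hp, hall⟩ := ih hs.2
    by_cases hc : Com a R
    · exact ⟨R, hR, hR0, hp, fun l hl => (Finset.mem_insert.1 hl).elim (fun e => Or.inr (e ▸ hc)) (hall l)⟩
    obtain ⟨R', hR', hR'0, hpa, hkeep⟩ := hP.step hR hc
    refine ⟨R', hR', hR'0, ?_, fun l hl => ?_⟩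
    · obtain ⟨ε, G, hG, hW⟩ := hp
      exact ⟨ε, G, hG, hkeep l₀ hs.1 _ (pure_closed' (Ne.symm hs.1) G) hW⟩
    · by_cases e : l = a
      · exact Or.inl (e ▸ hpa)
      rcases hall l ((Finset.mem_insert.1 hl).resolve_left e) with ⟨ε, G, hG, hW⟩ | hcl
      · exact Or.inl ⟨ε, G, hG, hkeep l e _ (pure_closed' (Ne.symm e) G) hW⟩
      · exact Or.inr (hkeep l e _ (com_closed (Ne.symm e)) hcl)

end Cfsg.Agent.Classical.TensorSymp
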