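import Cfsg.Agent.Lib.Classical.MaxSesq
import Cfsg.Agent.Lib.Classical.MaxTensor
import Cfsg.Agent.Lib.Classical.MaxDecomp

/-!
Symplectic spaces in coordinates: isometry groups, transvections and Eichler maps.
-/

set_option autoImplicit false
set_option linter.unusedSectionVars false
set_option linter.unusedSimpArgs false
set_option linter.style.haveILetI false

namespace Cfsg.Agent.Classical.TensorSymp

open Matrix Module MaxTv TensorMax

variable {F : Type*} [Field F] {β : Type} [Fintype β] [DecidableEq β]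

local notation "W" => (β → F)
local notation "Mb" => Matrix β β F

/-- A non-degenerate alternating form. -/
structure Symp (h : (β → F) → (β → F) → F) : Prop extends Sesq (RingEquiv.refl F) h where
  self : ∀ v, h v v = 0

/-- The isometries of a form. -/
def Iso {ι : Type} [Fintype ι] [DecidableEq ι] (f : (ι → F) → (ι → F) → F) : Subgroup (GL ι F) where
  carrier := {g | ∀ x y, f ((g : Matrix ι ι F) *ᵥ x) ((g : Matrix ι ι F) *ᵥ y) = f x y}
  mul_mem' {g g'} hg hg' x y := by rw [Units.val_mul, ← Matrix.mulVec_mulVec, ← Matrix.mulVec_mulVec, hg, hg']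
  one_mem' x y := by simp
  inv_mem' {g} hg x y := by conv_rhs => rw [← mulVec_inv_cancel g x, ← mulVec_inv_cancel g y, hg]

theorem mem_Iso {ι : Type} [Fintype ι] [DecidableEq ι] {f : (ι → F) → (ι → F) → F} {g : GL ι F} :
    g ∈ Iso f ↔ ∀ x y, f ((g : Matrix ι ι F) *ᵥ x) ((g : Matrix ι ι F) *ᵥ y) = f x y := Iff.rfl

/-- Conjugating an isometry by a similitude. -/
theorem conj_Iso {ι : Type} [Fintype ι] [DecidableEq ι] {f : (ι → F) → (ι → F) → F} {A T : GL ι F} {μ : F}
    (hA : ∀ x x', f ((A : Matrix ι ι F) *ᵥ x) ((A : Matrix ι ι F) *ᵥ x') = μ * f x x') (hT : T ∈ Iso f) :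
    A * T * A⁻¹ ∈ Iso f := by
  intro x x'
  obtain ⟨y, rfl⟩ : ∃ y, (A : Matrix ι ι F) *ᵥ y = x := ⟨_, mulVec_inv_cancel _ x⟩
  obtain ⟨y', rfl⟩ : ∃ y, (A : Matrix ι ι F) *ᵥ y = x' := ⟨_, mulVec_inv_cancel _ x'⟩
  simp only [Units.val_mul, ← Matrix.mulVec_mulVec, inv_mulVec_cancel, hA, hT y y']

/-- The rank one map of a vector. -/
def vN (h : (β → F) → (β → F) → F) (v : β → F) : Matrix β β F := vecMulVec v (fn h v)

variable {h : (β → F) → (β → F) → F} (hh : Symp h)
include hh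

theorem Symp.smul_r (c : F) (v x : W) : h v (c • x) = c * h v x := by
  rw [hh.smul_right, RingEquiv.refl_apply]

theorem Symp.skew (x y : W) : h y x = -h x y := by
  have h1 := hh.self (x + y)
  rw [hh.add_left, hh.add_right, hh.add_right, hh.self, hh.self] at h1
  linear_combination h1

theorem Symp.neg_right (x y : W) : h x (-y) = -h x y := by
  rw [← neg_one_smul F y, hh.smul_r, neg_one_mul]

theorem Symp.neg_left (x y : W) : h (-x) y = -h x y := by
  rw [← neg_one_smul F x, hh.smul_left, neg_one_mul]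

theorem Symp.fn_smul' (c : F) (a : W) : fn h (c • a) = c • fn h a := by
  rw [fn_smul hh.toSesq, RingEquiv.refl_apply]

theorem Symp.partner {z : W} (hz : z ≠ 0) : ∃ u, h u z = 1 ∧ h z u = -1 := by
  obtain ⟨u, hu⟩ := hh.toSesq.exists_one hz
  exact ⟨u, hu, by rw [hh.skew u z, hu]⟩

theorem vN_mulVec (v x : W) : vN h v *ᵥ x = h x v • v := by
  rw [vN, Matrix.vecMulVec_mulVec, fn_dot hh.toSesq, op_smul_eq_smul]

theorem vN_mul_self (v : W) : vN h v * vN h v = 0 := Matrix.ext_iff_mulVec.2 fun x => by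
  rw [← Matrix.mulVec_mulVec, vN_mulVec hh, vN_mulVec hh, hh.smul_left, hh.self, mul_zero, zero_smul,
    Matrix.zero_mulVec]

theorem vN_ne_zero {v : W} (hv : v ≠ 0) : vN h v ≠ 0 := fun e => by
  obtain ⟨u, hu, -⟩ := hh.partner hv
  have := congrArg (fun A : Mb => A *ᵥ u) e
  simp only [vN_mulVec hh, hu, one_smul, Matrix.zero_mulVec] at this
  exact hv this

/-- Transvections. -/
theorem Symp.exists_tv (v : W) (s : F) : ∃ B : GL β F, B ∈ Iso h ∧ (B : Mb) = 1 + s • vN h v ∧
    ((B⁻¹ : GL β F) : Mb) = 1 - s • vN h v ∧ ∀ x, (B : Mb) *ᵥ x = x + (s * h x v) • v := by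
  obtain ⟨B, hB⟩ := MaxTv.exists_tv (φ := s • fn h v) (v := v)
    (by rw [smul_dotProduct, fn_dot hh.toSesq, hh.self, smul_zero])
  have hBx : ∀ x, (B : Mb) *ᵥ x = x + (s * h x v) • v := fun x => by
    rw [hB, smul_dotProduct, fn_dot hh.toSesq, smul_eq_mul]
  have e : (B : Mb) = 1 + s • vN h v := Matrix.ext_iff_mulVec.2 fun x => by
    rw [hBx, Matrix.add_mulVec, Matrix.one_mulVec, Matrix.smul_mulVec, vN_mulVec hh, smul_smul]
  refine ⟨B, fun x y => ?_, e, Units.inv_eq_of_mul_eq_one_right ?_, hBx⟩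
  · rw [hBx, hBx, hh.add_left, hh.add_right, hh.add_right, hh.smul_left, hh.smul_left, hh.smul_r, hh.smul_r,
      hh.self, hh.skew y v]
    ring
  · rw [e, add_mul, one_mul, mul_sub, mul_one, smul_mul_smul_comm, vN_mul_self hh, smul_zero, sub_zero,
      sub_add_cancel]

/-- Eichler maps. -/
theorem Symp.exists_eich {v a : W} (hva : h v a = 0) : ∃ B : GL β F, B ∈ Iso h ∧
    ∀ x, (B : Mb) *ᵥ x = x + h x a • v + h x v • a := by
  have hav : h a v = 0 := hh.refl _ _ hva
  let L : W →ₗ[F] W := LinearMap.id + (hh.toSesq.lin a).smulRight v + (hh.toSesq.lin v).smulRight a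
  have hL : ∀ x, L x = x + h x a • v + h x v • a := fun x => rfl
  have hiso : ∀ x y, h (L x) (L y) = h x y := fun x y => by
    simp only [hL, hh.add_left, hh.add_right, hh.smul_left, hh.smul_r, hva, hav, hh.self]
    rw [hh.skew y v, hh.skew y a]
    ring
  obtain ⟨B, hB⟩ := exists_gl_of_injective L fun x y e => sub_eq_zero.1 (hh.eq_zero _ fun w => by
    have := hiso w (x - y)
    rw [map_sub, e, sub_self, hh.toSesq.zero_right] at this
    exact this.symm)
  exact ⟨B, fun x y => by rw [hB, hB, hiso], fun x => by rw [hB, hL]⟩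

/-- Any non-zero vector is moved to any other. -/
theorem Symp.exists_move {v w : W} (hv : v ≠ 0) (hw : w ≠ 0) : ∃ B : GL β F, B ∈ Iso h ∧ (B : Mb) *ᵥ v = w := by
  have step : ∀ {v w : W}, h v w ≠ 0 → ∃ B : GL β F, B ∈ Iso h ∧ (B : Mb) *ᵥ v = w := fun {v w} hvw => by
    have h1 : h v (w - v) = h v w := by rw [hh.toSesq.sub_right, hh.self, sub_zero]
    obtain ⟨B, hB, -, -, hBx⟩ := hh.exists_tv (w - v) (h v (w - v))⁻¹
    exact ⟨B, hB, by rw [hBx, inv_mul_cancel₀ (by rwa [h1]), one_smul, add_sub_cancel]⟩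
  by_cases hvw : h v w ≠ 0
  · exact step hvw
  push Not at hvw
  obtain ⟨x, hx, hx'⟩ : ∃ x, h v x ≠ 0 ∧ h x w ≠ 0 := by
    obtain ⟨a, ha, ha'⟩ := hh.partner hv
    obtain ⟨b, hb, hb'⟩ := hh.partner hw
    by_cases h1 : h a w = 0
    · by_cases h2 : h v b = 0
      · exact ⟨a + b, by rw [hh.add_right, ha', h2, add_zero]; simp,
          by rw [hh.add_left, h1, hb, zero_add]; exact one_ne_zero⟩
      · exact ⟨b, h2, by rw [hb]; exact one_ne_zero⟩
    · exact ⟨a, by rw [ha']; simp, h1⟩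
  obtain ⟨B, hB, hBv⟩ := step hx
  obtain ⟨B', hB', hBx⟩ := step hx'
  exact ⟨B' * B, mul_mem hB' hB, by rw [Units.val_mul, ← Matrix.mulVec_mulVec, hBv, hBx]⟩

end Cfsg.Agent.Classical.TensorSymp
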