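import Cfsg.Agent.Lib.Classical.TensorPow.Slot
import Cfsg.Agent.Lib.Classical.TensorPow.Classify
import Cfsg.Agent.Lib.Classical.TensorPowSymp.Form

/-!
The tensor power of a symplectic space: the form, its quadratic form in characteristic two, the derived group of
its isometries, and the splitting off of one factor.
-/

set_option autoImplicit false
set_option linter.unusedSectionVars false
set_option linter.unusedSimpArgs false
set_option linter.style.haveILetI false

open scoped Kronecker commutatorElement

namespace Cfsg.Agent.Classical.TensorSymp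

open Matrix Module MaxTv TensorMax TensorPow

variable {F : Type*} [Field F] [Fintype F] {κ β : Type} [Fintype κ] [DecidableEq κ] [Fintype β] [DecidableEq β]

local notation "X" => (κ → β)
local notation "V" => ((κ → β) → F)
local notation "Mn" => Matrix (κ → β) (κ → β) F
local notation "Mb" => Matrix β β F

theorem ptens_single (a : κ → β) : ptens (fun l => (Pi.single (a l) 1 : β → F)) = Pi.single a 1 := by
  funext b
  by_cases e : b = a
  · subst e; simp [ptens]
  · obtain ⟨l, hl⟩ := Function.ne_iff.1 e
    rw [Pi.single_eq_of_ne e]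
    exact Finset.prod_eq_zero (Finset.mem_univ l) (Pi.single_eq_of_ne hl _)

/-- Linear maps agreeing on pure tensors are equal. -/
theorem ext_ptens {U : Type*} [AddCommGroup U] [Module F U] {L L' : V →ₗ[F] U}
    (hL : ∀ xs : κ → β → F, L (ptens xs) = L' (ptens xs)) : L = L' :=
  (Pi.basisFun F (κ → β)).ext fun a => by rw [Pi.basisFun_apply, ← ptens_single]; exact hL _

variable (c : F) (h : (β → F) → (β → F) → F)

/-- The Gram matrix of the form. -/
def gram : Matrix β β F := Matrix.of fun a b => h (Pi.single a 1) (Pi.single b 1)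

/-- The tensor power of the form, times a constant. -/
def tf (x y : (κ → β) → F) : F :=
  c * (x ⬝ᵥ (wm (1 : Equiv.Perm κ) (fun _ => gram h) *ᵥ y))

/-- The form in the coordinates splitting off a factor. -/
def tfs (i : κ) (x y : (Rst i → β) × β → F) : F := tf c h ((spV i).symm x) ((spV i).symm y)

/-- The quadratic form in characteristic two. -/
noncomputable def qc (x : (κ → β) → F) : F :=
  ∑ a : κ → β, ∑ b : κ → β, if Fintype.equivFin (κ → β) a < Fintype.equivFin (κ → β) b then
    tf c h (Pi.single a (x a)) (Pi.single b (x b)) else 0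

/-- The isometries preserving, in characteristic two, the quadratic form too. -/
def KT : Subgroup (GL (κ → β) F) where
  carrier := {g | g ∈ Iso (tf c h) ∧ ((2 : F) = 0 → ∀ x, qc c h ((g : Mn) *ᵥ x) = qc c h x)}
  mul_mem' {g g'} hg hg' := ⟨mul_mem hg.1 hg'.1, fun h2 x => by
    rw [Units.val_mul, ← Matrix.mulVec_mulVec, hg.2 h2, hg'.2 h2]⟩
  one_mem' := ⟨one_mem _, fun _ x => by simp⟩
  inv_mem' {g} hg := ⟨inv_mem hg.1, fun h2 x => by conv_rhs => rw [← mulVec_inv_cancel g x, hg.2 h2]⟩

/-- The derived group. -/
def GT : Subgroup (GL (κ → β) F) := ⁅KT (κ := κ) c h, KT c h⁆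

/-- The data. -/
structure SData : Prop where
  hh : Symp h
  hc : c ≠ 0

variable {c h}

theorem GT_le_KT : GT (κ := κ) c h ≤ KT c h :=
  Subgroup.commutator_le.2 fun _ ha _ hb => mul_mem (mul_mem (mul_mem ha hb) (inv_mem ha)) (inv_mem hb)

theorem GT_le_Iso : GT (κ := κ) c h ≤ Iso (tf c h) := fun _ hg => (GT_le_KT hg).1

theorem apply_gram (hh : Symp h) (x y : β → F) : x ⬝ᵥ (gram h *ᵥ y) = h x y := by
  have h1 : ∀ a, (gram h *ᵥ y) a = h (Pi.single a 1) y := fun a => by
    rw [← hh.toSesq.lin_apply]
    show ∑ b, h (Pi.single a 1) (Pi.single b 1) * y b = _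
    conv_rhs => rw [← Finset.univ_sum_single y]
    rw [hh.toSesq.lin_apply]
    have : ∀ (s : Finset β) (v : β → β → F), h (Pi.single a 1) (∑ b ∈ s, v b) = ∑ b ∈ s, h (Pi.single a 1) (v b) :=
      fun s v => by
        induction s using Finset.induction_on with
        | empty => simp [hh.toSesq.zero_right]
        | insert b s hb ih => rw [Finset.sum_insert hb, Finset.sum_insert hb, hh.add_right, ih]
    rw [this]
    refine Finset.sum_congr rfl fun b _ => ?_
    rw [show (Pi.single b (y b) : β → F) = y b • Pi.single b 1 by rw [← Pi.single_smul, smul_eq_mul, mul_one],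
      hh.smul_r, mul_comm]
  rw [← hh.toSesq.lin_apply y x]
  conv_rhs => rw [← Finset.univ_sum_single x, map_sum]
  refine Finset.sum_congr rfl fun a _ => ?_
  rw [h1, show (Pi.single a (x a) : β → F) = x a • Pi.single a 1 by rw [← Pi.single_smul, smul_eq_mul, mul_one],
    map_smul, smul_eq_mul, hh.toSesq.lin_apply]

variable (hT : SData c h)
include hT

theorem SData.tf_ptens (xs ys : κ → β → F) : tf c h (ptens xs) (ptens ys) = c * ∏ l, h (xs l) (ys l) := by
  rw [tf, wm_mulVec, dot_ptens]
  simp only [Equiv.Perm.coe_one, id_eq, apply_gram hT.hh]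

theorem SData.tf_symm (x y : V) : tf c h y x = (-1) ^ Fintype.card κ * tf c h x y := by
  simp only [tf, dotProduct, Matrix.mulVec, Finset.mul_sum]
  rw [Finset.sum_comm]
  refine Finset.sum_congr rfl fun a _ => Finset.sum_congr rfl fun b _ => ?_
  simp only [wm, Matrix.of_apply, Equiv.Perm.coe_one, id_eq, gram]
  rw [Finset.prod_congr rfl fun l _ => hT.hh.skew (Pi.single (a l) 1) (Pi.single (b l) 1), Finset.prod_neg,
    Finset.card_univ]
  ring

theorem SData.sesq : Sesq (RingEquiv.refl F) (tf (κ := κ) c h) := by
  have hG : (gram h).det ≠ 0 := fun hd => by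
    obtain ⟨v, hv, hv0⟩ := Matrix.exists_mulVec_eq_zero_iff.2 hd
    exact hv (hT.hh.eq_zero v fun x => by rw [← apply_gram hT.hh, hv0, dotProduct_zero])
  let G : GL β F := Matrix.GeneralLinearGroup.mkOfDetNeZero _ hG
  refine
    { add_left := fun x y v => by simp only [tf, add_dotProduct, mul_add]
      smul_left := fun r x v => by simp only [tf, smul_dotProduct, smul_eq_mul]; ring
      add_right := fun v x y => by simp only [tf, Matrix.mulVec_add, dotProduct_add, mul_add]
      smul_right := fun r v x => by
        simp only [tf, Matrix.mulVec_smul, dotProduct_smul, smul_eq_mul, RingEquiv.refl_apply]; ring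
      eq_zero := fun w hw => ?_
      refl := fun v w e => by rw [hT.tf_symm, e, mul_zero] }
  have h1 : (wgl (1 : Equiv.Perm κ) (fun _ => G) : Mn) *ᵥ w = 0 := funext fun a => by
    have h2 := hw (Pi.single a 1)
    rw [tf, single_one_dotProduct] at h2
    exact (mul_eq_zero.1 h2).resolve_left hT.hc
  exact gl_mulVec_injective _ (h1.trans (Matrix.mulVec_zero _).symm)

theorem SData.tf_self_of_odd (ho : Odd (Fintype.card κ)) (x : V) (h2 : (2 : F) ≠ 0) : tf c h x x = 0 := by
  have h1 := hT.tf_symm x x
  rw [Odd.neg_one_pow ho] at h1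
  exact (mul_eq_zero.1 (show (2 : F) * tf c h x x = 0 by linear_combination h1)).resolve_left h2

/-- In characteristic two the form is alternating. -/
theorem SData.tf_self_two [Nonempty κ] (h2 : (2 : F) = 0) (x : V) : tf c h x x = 0 := by
  classical
  obtain ⟨l⟩ := ‹Nonempty κ›
  have hs := hT.sesq (κ := κ)
  have key : ∀ (s : Finset (κ → β)), tf c h (∑ a ∈ s, Pi.single a (x a)) (∑ a ∈ s, Pi.single a (x a)) = 0 := by
    intro s
    induction s using Finset.induction_on with
    | empty => simp [hs.zero_left]
    | insert a s ha ih =>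
      rw [Finset.sum_insert ha, hs.add_left, hs.add_right, hs.add_right, ih,
        hT.tf_symm (Pi.single a (x a)) (∑ b ∈ s, Pi.single b (x b)),
        show (-1 : F) = 1 by linear_combination -h2, one_pow, one_mul,
        show (Pi.single a (x a) : V) = x a • Pi.single a 1 by rw [← Pi.single_smul, smul_eq_mul, mul_one],
        hs.smul_left (x a) (Pi.single a 1) (x a • Pi.single a 1), hs.smul_right, ← ptens_single, hT.tf_ptens,
        Finset.prod_eq_zero (Finset.mem_univ l) (hT.hh.self _)]
      linear_combination (tf c h (x a • ptens fun l => (Pi.single (a l) 1 : β → F))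
        (∑ b ∈ s, Pi.single b (x b))) * h2
  have := key Finset.univ
  rwa [Finset.univ_sum_single] at this

theorem SData.qc_add [Nonempty κ] (h2 : (2 : F) = 0) (x y : V) :
    qc c h (x + y) = qc c h x + qc c h y + tf c h x y := by
  classical
  have hs := hT.sesq (κ := κ)
  obtain ⟨key, hkey⟩ : ∃ key : X → Fin (Fintype.card X), key = Fintype.equivFin (κ → β) := ⟨_, rfl⟩
  obtain ⟨P, hP⟩ : ∃ P : X → X → F, P = fun a b => tf c h (Pi.single a (x a)) (Pi.single b (y b)) := ⟨_, rfl⟩
  have hsum : tf c h x y = ∑ a, ∑ b, P a b := by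
    simp only [hP]
    conv_lhs => rw [← Finset.univ_sum_single x]
    rw [← hs.lin_apply y, map_sum]
    refine Finset.sum_congr rfl fun a _ => ?_
    rw [hs.lin_apply, tf]
    conv_lhs => rw [← Finset.univ_sum_single y, Matrix.mulVec_sum, dotProduct_sum, Finset.mul_sum]
    rfl
  have hzero : ∀ a, P a a = 0 := fun a => by
    obtain ⟨l⟩ := ‹Nonempty κ›
    rw [hP]
    show tf c h (Pi.single a (x a)) (Pi.single a (y a)) = 0
    rw [show (Pi.single a (x a) : V) = x a • Pi.single a 1 by rw [← Pi.single_smul, smul_eq_mul, mul_one],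
      show (Pi.single a (y a) : V) = y a • Pi.single a 1 by rw [← Pi.single_smul, smul_eq_mul, mul_one],
      hs.smul_left, hs.smul_right, ← ptens_single, hT.tf_ptens, Finset.prod_eq_zero (Finset.mem_univ l) (hT.hh.self _)]
    simp
  simp only [qc, ← hkey, Pi.add_apply, Pi.single_add, hs.add_left, hs.add_right]
  rw [hsum]
  have hsplit : ∀ a b, P a b = (if key a < key b then P a b else 0) + (if key b < key a then P a b else 0) :=
    fun a b => by
      rcases lt_trichotomy (key a) (key b) with hlt | heq | hgt
      · rw [if_pos hlt, if_neg (lt_asymm hlt), add_zero]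
      · have e : a = b := (Fintype.equivFin X).injective (hkey ▸ heq)
        rw [if_neg heq.not_lt, if_neg heq.not_gt, e, hzero, add_zero]
      · rw [if_neg (lt_asymm hgt), if_pos hgt, zero_add]
  rw [Finset.sum_congr rfl fun a _ => Finset.sum_congr rfl fun b _ => hsplit a b]
  simp only [Finset.sum_add_distrib]
  rw [Finset.sum_comm (f := fun a b => if key b < key a then P a b else 0)]
  simp only [← Finset.sum_add_distrib]
  refine Finset.sum_congr rfl fun a _ => Finset.sum_congr rfl fun b _ => ?_
  by_cases hab : key a < key b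
  · simp only [if_pos hab, hP]
    rw [hT.tf_symm (Pi.single b (x b)) (Pi.single a (y a)), show (-1 : F) = 1 by linear_combination -h2, one_pow,
      one_mul]
    ring
  · simp only [if_neg hab, add_zero]

theorem SData.qc_smul (r : F) (x : V) : qc c h (r • x) = r * r * qc c h x := by
  have hs := hT.sesq (κ := κ)
  simp only [qc, Pi.smul_apply, Finset.mul_sum, mul_ite, mul_zero, Pi.single_smul, hs.smul_left, hs.smul_right,
    RingEquiv.refl_apply, mul_assoc]

theorem SData.qc_single (a : X) (r : F) : qc c h (Pi.single a r : V) = 0 := by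
  have hs := hT.sesq (κ := κ)
  refine Finset.sum_eq_zero fun u _ => Finset.sum_eq_zero fun v _ => ?_
  split_ifs with huv
  · rcases eq_or_ne u a with rfl | hu
    · rw [Pi.single_eq_of_ne (fun e : v = u => (lt_irrefl _) (e ▸ huv)), Pi.single_zero, hs.zero_right]
    · rw [Pi.single_eq_of_ne hu, Pi.single_zero, hs.zero_left]
  · rfl

/-- A quadratic form with the polar form of the canonical one, vanishing at the basis, is the canonical one. -/
theorem SData.qc_unique [Nonempty κ] (h2 : (2 : F) = 0) {Q : V → F} (hadd : ∀ x y, Q (x + y) = Q x + Q y + tf c h x y)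
    (hsmul : ∀ (r : F) x, Q (r • x) = r * r * Q x) (hsingle : ∀ a : X, Q (Pi.single a 1) = 0) (x : V) :
    Q x = qc c h x := by
  classical
  have key : ∀ (s : Finset X), Q (∑ a ∈ s, Pi.single a (x a)) = qc c h (∑ a ∈ s, Pi.single a (x a)) := by
    intro s
    induction s using Finset.induction_on with
    | empty =>
      rw [Finset.sum_empty, show (0 : V) = (0 : F) • 0 by rw [zero_smul], hsmul, hT.qc_smul]
      ring
    | insert a s ha ih =>
      rw [Finset.sum_insert ha, hadd, hT.qc_add h2, ih, hT.qc_single,
        show (Pi.single a (x a) : V) = x a • Pi.single a 1 by rw [← Pi.single_smul, smul_eq_mul, mul_one], hsmul,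
        hsingle, mul_zero]
  have := key Finset.univ
  rwa [Finset.univ_sum_single] at this

theorem SData.tfs_tmul (i : κ) (x x' : (Rst i → β) → F) (y y' : β → F) :
    tfs c h i (tmul x y) (tmul x' y') = tf c h x x' * h y y' := by
  have hV := hT.sesq (κ := κ)
  have hR := hT.sesq (κ := Rst i)
  have hbase : ∀ (a a' : Rst i → β → F),
      tfs c h i (tmul (ptens a) y) (tmul (ptens a') y') = tf c h (ptens a) (ptens a') * h y y' := fun a a' => by
    have e : ∀ (a : Rst i → β → F) (y : β → F),
        (spV i).symm (tmul (ptens a) y) = ptens (fun l : κ => if hl : l = i then y else a ⟨l, hl⟩) := fun a y => by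
      rw [LinearEquiv.symm_apply_eq, spV_ptens, dif_pos rfl]
      congr 2
      funext j
      rw [dif_neg j.2]
    rw [tfs, e, e, hT.tf_ptens, hT.tf_ptens, Fintype.prod_eq_mul_prod_subtype_ne _ i, dif_pos rfl, dif_pos rfl,
      Finset.prod_congr rfl fun (j : Rst i) _ => by rw [dif_neg j.2, dif_neg j.2]]
    ring
  have h1 : ∀ (a' : Rst i → β → F) (x : (Rst i → β) → F),
      tfs c h i (tmul x y) (tmul (ptens a') y') = tf c h x (ptens a') * h y y' := fun a' x => by
    have := LinearMap.congr_fun (ext_ptens
      (L := (hV.lin ((spV i).symm (tmul (ptens a') y'))).comp ((spV i).symm.toLinearMap.comp (fac y)))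
      (L' := h y y' • hR.lin (ptens a')) fun a => by
        simp only [LinearMap.comp_apply, LinearEquiv.coe_coe, fac_apply, hV.lin_apply, LinearMap.smul_apply,
          hR.lin_apply, smul_eq_mul]
        rw [mul_comm]; exact hbase a a') x
    simp only [LinearMap.comp_apply, LinearEquiv.coe_coe, fac_apply, hV.lin_apply, LinearMap.smul_apply,
      hR.lin_apply, smul_eq_mul] at this
    rw [tfs, this, mul_comm]
  let L₁ : ((Rst i → β) → F) →ₗ[F] F :=
    { toFun := fun x' => tfs c h i (tmul x y) (tmul x' y')
      map_add' := fun a b => by simp only [tfs, tmul_add_left, map_add, hV.add_right]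
      map_smul' := fun r a => by
        simp only [tfs, tmul_smul_left, map_smul, hV.smul_right, RingEquiv.refl_apply, smul_eq_mul, RingHom.id_apply] }
  let L₂ : ((Rst i → β) → F) →ₗ[F] F :=
    { toFun := fun x' => tf c h x x' * h y y'
      map_add' := fun a b => by simp only [hR.add_right, add_mul]
      map_smul' := fun r a => by simp only [hR.smul_right, RingEquiv.refl_apply, smul_eq_mul, RingHom.id_apply, mul_assoc] }
  exact LinearMap.congr_fun (ext_ptens (L := L₁) (L' := L₂) fun a' => h1 a' x) x'

theorem SData.sesq_tfs (i : κ) : Sesq (RingEquiv.refl F) (tfs c h i) := by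
  have hV := hT.sesq (κ := κ)
  exact
    { add_left := fun x y v => by simp only [tfs, map_add, hV.add_left]
      smul_left := fun r x v => by simp only [tfs, map_smul, hV.smul_left]
      add_right := fun v x y => by simp only [tfs, map_add, hV.add_right]
      smul_right := fun r v x => by simp only [tfs, map_smul, hV.smul_right]
      eq_zero := fun w hw => (spV i).symm.injective ((hV.eq_zero _ fun x => by
        simpa [tfs] using hw (spV i x)).trans (map_zero _).symm)
      refl := fun v w e => hV.refl _ _ e }

theorem SData.sp_Iso (i : κ) {g : GL X F} : sp i g ∈ Iso (tfs c h i) ↔ g ∈ Iso (tf c h) := by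
  have e : ∀ x, (spV i).symm ((sp i g : Matrix _ _ F) *ᵥ x) = (g : Mn) *ᵥ (spV i).symm x := fun x => by
    rw [LinearEquiv.symm_apply_eq, ← sp_mulVec, LinearEquiv.apply_symm_apply]
  refine ⟨fun hg x y => ?_, fun hg x y => ?_⟩
  · have := hg (spV i x) (spV i y)
    rwa [tfs, tfs, e, e, LinearEquiv.symm_apply_apply, LinearEquiv.symm_apply_apply] at this
  · rw [tfs, tfs, e, e, hg]

/-- A tensor with one pure component is singular. -/
theorem SData.qc_pure (h2 : (2 : F) = 0) {i : κ} [Nonempty (Rst i)] (r : (Rst i → β) → F) (w : β → F) :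
    qc c h ((spV i).symm (tmul r w)) = 0 := by
  classical
  have : Nonempty κ := ⟨i⟩
  have hpol : ∀ (r r' : (Rst i → β) → F) (w w' : β → F), tf c h ((spV i).symm (tmul r w)) ((spV i).symm (tmul r' w')) =
      tf c h r r' * h w w' := hT.tfs_tmul i
  have hbase : ∀ (a : Rst i → β) (w : β → F), qc c h ((spV i).symm (tmul (Pi.single a 1) w)) = 0 := fun a w => by
    have key : ∀ (s : Finset β), qc c h ((spV i).symm (tmul (Pi.single a 1) (∑ b ∈ s, Pi.single b (w b)))) = 0 := by
      intro s
      induction s using Finset.induction_on with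
      | empty =>
        rw [Finset.sum_empty, tmul_zero_right, map_zero, show (0 : V) = (0 : F) • 0 by rw [zero_smul], hT.qc_smul,
          mul_zero, zero_mul]
      | insert b s hb ih =>
        rw [Finset.sum_insert hb, tmul_add_right, map_add, hT.qc_add h2, ih, hpol, hT.tf_self_two h2, zero_mul,
          add_zero, add_zero]
        have e : (spV i).symm (tmul (Pi.single a 1) (Pi.single b (w b))) = w b • (Pi.single ((spE i).symm (a, b)) 1 : V) := by
          refine (LinearEquiv.symm_apply_eq _).2 (funext fun p => ?_)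
          rw [map_smul]
          simp only [tmul, Pi.smul_apply, spV_apply, smul_eq_mul, Pi.single_apply, Equiv.apply_eq_iff_eq,
            Prod.ext_iff]
          by_cases e1 : p.1 = a <;> by_cases e2 : p.2 = b <;> simp [e1, e2]
        rw [e, hT.qc_smul, hT.qc_single, mul_zero]
    have := key Finset.univ
    rwa [Finset.univ_sum_single] at this
  have key : ∀ (s : Finset (Rst i → β)), qc c h ((spV i).symm (tmul (∑ a ∈ s, Pi.single a (r a)) w)) = 0 := by
    intro s
    induction s using Finset.induction_on with
    | empty =>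
      rw [Finset.sum_empty, tmul_zero_left, map_zero, show (0 : V) = (0 : F) • 0 by rw [zero_smul], hT.qc_smul,
        mul_zero, zero_mul]
    | insert b s hb ih =>
      rw [Finset.sum_insert hb, tmul_add_left, map_add, hT.qc_add h2, ih, hpol, hT.hh.self, mul_zero, add_zero,
        add_zero, show (Pi.single b (r b) : (Rst i → β) → F) = r b • Pi.single b 1 by
          rw [← Pi.single_smul, smul_eq_mul, mul_one], tmul_smul_left, map_smul, hT.qc_smul, hbase, mul_zero]
  have := key Finset.univ
  rwa [Finset.univ_sum_single] at this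

/-- An isometry of product shape at a factor preserves the quadratic form. -/
theorem SData.kron_KT {i : κ} [Nonempty (Rst i)] {g : GL X F} (hg : g ∈ Iso (tf c h)) {A : GL (Rst i → β) F}
    {B : GL β F} (hAB : sp i g = k2 A B) : g ∈ KT c h := by
  have : Nonempty κ := ⟨i⟩
  refine ⟨hg, fun h2 => hT.qc_unique h2 (fun x y => ?_) (fun r x => ?_) fun a => ?_⟩
  · rw [Matrix.mulVec_add, hT.qc_add h2, hg]
  · rw [Matrix.mulVec_smul, hT.qc_smul]
  · have e : (g : Mn) *ᵥ (Pi.single a 1 : V) = (spV i).symm
        (tmul ((A : Matrix _ _ F) *ᵥ ptens fun j : Rst i => (Pi.single (a j.1) 1 : β → F))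
          ((B : Mb) *ᵥ Pi.single (a i) 1)) := by
      rw [LinearEquiv.eq_symm_apply, ← sp_mulVec, hAB, ← ptens_single, spV_ptens, k2_mulVec]
    rw [e, hT.qc_pure h2]

/-- Products of similitudes with inverse multipliers are isometries. -/
theorem SData.k2_Iso {i : κ} {g : GL X F} {A : GL (Rst i → β) F} {B : GL β F} {μ ν : F} (hμν : μ * ν = 1)
    (hA : ∀ x x' : (Rst i → β) → F, tf c h ((A : Matrix (Rst i → β) (Rst i → β) F) *ᵥ x)
      ((A : Matrix (Rst i → β) (Rst i → β) F) *ᵥ x') = μ * tf c h x x')
    (hB : ∀ y y', h ((B : Mb) *ᵥ y) ((B : Mb) *ᵥ y') = ν * h y y') (hg : sp i g = k2 A B) : g ∈ Iso (tf c h) := by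
  rw [← hT.sp_Iso i, hg]
  have hs := hT.sesq_tfs i
  intro s t
  let L₁ : ((Rst i → β) × β → F) →ₗ[F] ((Rst i → β) × β → F) →ₗ[F] F :=
    LinearMap.mk₂ F (fun s t => tfs c h i ((k2 A B : Matrix _ _ F) *ᵥ s) ((k2 A B : Matrix _ _ F) *ᵥ t))
      (fun a b d => by simp only [Matrix.mulVec_add, hs.add_left])
      (fun r a d => by simp only [Matrix.mulVec_smul, hs.smul_left, smul_eq_mul])
      (fun a b d => by simp only [Matrix.mulVec_add, hs.add_right])
      (fun r a d => by simp only [Matrix.mulVec_smul, hs.smul_right, RingEquiv.refl_apply, smul_eq_mul])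
  let L₂ : ((Rst i → β) × β → F) →ₗ[F] ((Rst i → β) × β → F) →ₗ[F] F :=
    LinearMap.mk₂ F (tfs c h i) hs.add_left (fun r a d => by rw [hs.smul_left, smul_eq_mul]) hs.add_right
      (fun r a d => by simp only [hs.smul_right, RingEquiv.refl_apply, smul_eq_mul])
  show L₁ s t = L₂ s t
  rw [sum_tmul_basis s, sum_tmul_basis t]
  simp only [map_sum, map_smul, LinearMap.sum_apply, LinearMap.smul_apply]
  refine Finset.sum_congr rfl fun p _ => ?_
  congr 1
  refine Finset.sum_congr rfl fun p' _ => ?_
  congr 1
  simp only [L₁, L₂, LinearMap.mk₂_apply, k2_mulVec, hT.tfs_tmul, hA, hB]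
  linear_combination (tf c h (Pi.single p'.1 1) (Pi.single p.1 1) * h (Pi.single p'.2 1) (Pi.single p.2 1)) * hμν

end Cfsg.Agent.Classical.TensorSymp
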