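import Cfsg.Agent.Lib.Classical.TensorPow.Classify
import Cfsg.Agent.Lib.Classical.TensorPowSymp.Form

/-!
Elements of the stabiliser with small quadratic displacement in odd characteristic: transvections at one factor,
also for planes.
-/

set_option autoImplicit false
set_option linter.unusedSectionVars false
set_option linter.unusedSimpArgs false

open scoped Kronecker

namespace Cfsg.Agent.Classical.TensorSymp

open Matrix Module MaxTv TensorMax TensorPow

variable {F : Type*} [Field F] [Fintype F] {κ β : Type} [Fintype κ] [DecidableEq κ] [Fintype β] [DecidableEq β]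

local notation "X" => (κ → β)
local notation "Mn" => Matrix (κ → β) (κ → β) F
local notation "Mb" => Matrix β β F

/-- A vector off two lines. -/
theorem exists_not_mem_two (hb : 2 ≤ Fintype.card β) (p q : β → F) :
    ∃ w, w ∉ (F ∙ p) ∧ w ∉ (F ∙ q) := by
  have key : ∀ v : β → F, ∃ w, w ∉ (F ∙ v) := fun v => by
    by_contra hc
    push Not at hc
    have h1 : (⊤ : Submodule F (β → F)) ≤ F ∙ v := fun w _ => hc w
    have h2 := Submodule.finrank_mono h1
    rw [finrank_top, Module.finrank_fintype_fun_eq_card] at h2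
    have := (finrank_span_le_card (R := F) ({v} : Set (β → F))).trans (by simp : ({v} : Set (β → F)).toFinset.card ≤ 1)
    omega
  obtain ⟨a, ha⟩ := key p
  obtain ⟨b, hb'⟩ := key q
  by_cases h1 : a ∈ (F ∙ q)
  · by_cases h2 : b ∈ (F ∙ p)
    · exact ⟨a + b, fun h => ha ((Submodule.add_mem_iff_left _ h2).1 h),
        fun h => hb' ((Submodule.add_mem_iff_right _ h1).1 h)⟩
    · exact ⟨b, h2, hb'⟩
  · exact ⟨a, ha, h1⟩

/-- A quadratic element permutes the factors by an involution. -/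
theorem perm_sq_eq_one2 (hb : 2 ≤ Fintype.card β) {σ : Equiv.Perm κ} {gs : κ → GL β F}
    (h : ((wgl σ gs : Mn) - 1) * ((wgl σ gs : Mn) - 1) = 0) : σ * σ = 1 := by
  refine Equiv.ext fun l => ?_
  show σ (σ l) = l
  by_contra hl
  set a := σ (σ l) with ha
  set b := σ a with hb'
  have hσl : σ l ≠ l := fun e => hl (by rw [ha, e, e])
  have hab : a ≠ b := fun e => hσl (σ.injective (σ.injective (e.trans hb')).symm).symm.symm
  obtain ⟨u, hu⟩ : ∃ u : β → F, u ≠ 0 := by
    obtain ⟨b₀⟩ : Nonempty β := Fintype.card_pos_iff.1 (by omega)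
    exact ⟨Pi.single b₀ 1, by simp⟩
  set p := (gs l : Mb) *ᵥ ((gs (σ l) : Mb) *ᵥ u) with hp
  set q := (((gs a)⁻¹ : GL β F) : Mb) *ᵥ u with hq
  have hp0 : p ≠ 0 := gl_mulVec_ne_zero _ (gl_mulVec_ne_zero _ hu)
  obtain ⟨w, hwp, hwq⟩ := exists_not_mem_two hb p q
  have hw0 : w ≠ 0 := fun e => hwp (e ▸ Submodule.zero_mem _)
  set xs : κ → β → F := Function.update (fun _ => w) a u with hxs
  have hxl : xs l = w := Function.update_of_ne (Ne.symm hl) _ _
  have hxb : xs b = w := Function.update_of_ne (Ne.symm hab) _ _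
  have hxa : xs a = u := Function.update_self _ _ _
  have hxne : ∀ k, xs k ≠ 0 := fun k => by
    by_cases e : k = a
    · rw [e, hxa]; exact hu
    · rw [hxs, Function.update_of_ne e]; exact hw0
  set z1 : κ → β → F := fun k => (gs k : Mb) *ᵥ xs (σ k) with hz1
  set z2 : κ → β → F := fun k => (gs k : Mb) *ᵥ z1 (σ k) with hz2
  have hz2ne : ∀ k, z2 k ≠ 0 := fun k => gl_mulVec_ne_zero _ (gl_mulVec_ne_zero _ (hxne _))
  have h1 : ∃ ξ, ξ ⬝ᵥ xs l = 0 ∧ ξ ⬝ᵥ z2 l = 1 := by
    have hn : z2 l ∉ (F ∙ xs l) := fun hm => by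
      obtain ⟨c, hc⟩ := Submodule.mem_span_singleton.1 hm
      have h2 : z2 l = p := by
        show (gs l : Mb) *ᵥ ((gs (σ l) : Mb) *ᵥ xs a) = p
        rw [hxa]
      rw [hxl, h2] at hc
      rcases eq_or_ne c 0 with rfl | hc0
      · rw [zero_smul] at hc
        exact hp0 hc.symm
      · refine hwp (Submodule.mem_span_singleton.2 ⟨c⁻¹, ?_⟩)
        rw [← hc, smul_smul, inv_mul_cancel₀ hc0, one_smul]
    obtain ⟨ξ, e1, e0⟩ := exists_dot_one hn
    exact ⟨ξ, e0 _ (Submodule.mem_span_singleton_self _), e1⟩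
  have h2 : ∃ ξ, ξ ⬝ᵥ z1 (σ l) = 0 ∧ ξ ⬝ᵥ z2 (σ l) = 1 := by
    have hn : z2 (σ l) ∉ (F ∙ z1 (σ l)) := fun hm => by
      obtain ⟨c, hc⟩ := Submodule.mem_span_singleton.1 hm
      have e2 : z2 (σ l) = (gs (σ l) : Mb) *ᵥ ((gs a : Mb) *ᵥ w) := by
        show (gs (σ l) : Mb) *ᵥ ((gs a : Mb) *ᵥ xs b) = _
        rw [hxb]
      have e1 : z1 (σ l) = (gs (σ l) : Mb) *ᵥ u := by
        show (gs (σ l) : Mb) *ᵥ xs a = _
        rw [hxa]
      rw [e1, e2, ← Matrix.mulVec_smul] at hc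
      have h3 := gl_mulVec_injective (gs (σ l)) hc
      have h4 : c • q = w := by
        rw [hq, ← Matrix.mulVec_smul, h3, Matrix.mulVec_mulVec, ← Units.val_mul, inv_mul_cancel, Units.val_one,
          Matrix.one_mulVec]
      exact hwq (Submodule.mem_span_singleton.2 ⟨c, h4⟩)
    obtain ⟨ξ, e1, e0⟩ := exists_dot_one hn
    exact ⟨ξ, e0 _ (Submodule.mem_span_singleton_self _), e1⟩
  obtain ⟨ξ1, hξ1, hξ1'⟩ := h1
  obtain ⟨ξ2, hξ2, hξ2'⟩ := h2
  choose ξ0 hξ0 using fun k => exists_dual (hz2ne k)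
  let ξ : κ → β → F := Function.update (Function.update ξ0 (σ l) ξ2) l ξ1
  have e := congrArg (fun L : Mn => ptens ξ ⬝ᵥ (L *ᵥ ptens xs)) h
  simp only [Matrix.zero_mulVec, dotProduct_zero, ← Matrix.mulVec_mulVec, Matrix.sub_mulVec, Matrix.one_mulVec,
    Matrix.mulVec_sub, wgl_mulVec, dotProduct_sub, dot_ptens] at e
  have ea : ∏ k, ξ k ⬝ᵥ xs k = 0 := Finset.prod_eq_zero (Finset.mem_univ l) (by simp [ξ, hξ1])
  have eb : ∏ k, ξ k ⬝ᵥ z1 k = 0 := Finset.prod_eq_zero (Finset.mem_univ (σ l)) (by simp [ξ, hξ2, hσl])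
  have ec : ∏ k, ξ k ⬝ᵥ z2 k = 1 := Finset.prod_eq_one fun k _ => by
    by_cases e1 : k = l
    · subst e1; simp [ξ, hξ1']
    by_cases e2 : k = σ l
    · subst e2; simp [ξ, hξ2', hσl]
    simp [ξ, e1, e2, hξ0]
  change ∏ k, ξ k ⬝ᵥ z2 k - ∏ k, ξ k ⬝ᵥ z1 k - (∏ k, ξ k ⬝ᵥ z1 k - ∏ k, ξ k ⬝ᵥ xs k) = 0 at e
  rw [ea, eb, ec] at e
  simp at e

/-- The case without permutation. -/
theorem isTv_of_base2 (hb : 2 ≤ Fintype.card β) (h20 : (2 : F) ≠ 0) [Nonempty κ] {gs : κ → GL β F}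
    (h2 : ((wgl 1 gs : Mn) - 1) * ((wgl 1 gs : Mn) - 1) = 0)
    (hr : ((wgl 1 gs : Mn) - 1).rank = Fintype.card β ^ (Fintype.card κ - 1)) :
    ∃ i, IsTv i (wgl 1 gs) := by
  classical
  haveI : Nonempty β := Fintype.card_pos_iff.1 (by omega)
  haveI : Nontrivial β := Fintype.one_lt_card_iff_nontrivial.1 (by omega)
  obtain ⟨p, hp⟩ := CharP.exists F
  haveI : Fact p.Prime := ⟨CharP.char_is_prime F p⟩
  have hzp := pow_char_eq_one p h2
  rw [wgl_one_pow] at hzp
  obtain ⟨-, hsc⟩ := wgl_eq_one hzp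
  by_cases hns : ∀ l, ∃ c : F, (gs l : Mb) = c • 1
  · exfalso
    choose c hc using hns
    have hM : (wgl 1 gs : Mn) = (∏ l, c l) • 1 := by
      ext x y
      rw [wgl_val, wm, Matrix.of_apply, Matrix.smul_apply, smul_eq_mul]
      simp only [hc, Matrix.smul_apply, smul_eq_mul, Finset.prod_mul_distrib, Equiv.Perm.coe_one, id_eq]
      rw [← wm_one, wm, Matrix.of_apply]
      rfl
    rw [hM, show (∏ l, c l) • (1 : Mn) - 1 = ((∏ l, c l) - 1) • 1 by rw [sub_smul, one_smul]] at h2 hr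
    rw [Matrix.smul_mul, Matrix.one_mul, smul_smul, smul_eq_zero] at h2
    have h0 : ((∏ l, c l) - 1) = 0 := by
      rcases h2 with h2 | h2
      · exact mul_self_eq_zero.1 h2
      · exact absurd h2 one_ne_zero
    rw [h0, zero_smul, Matrix.rank_zero] at hr
    exact absurd hr.symm (pow_ne_zero _ (by omega))
  push Not at hns
  obtain ⟨i, hi⟩ := hns
  obtain ⟨c, hc⟩ := hsc i
  rw [Pi.pow_apply, Units.val_pow_eq_pow_val] at hc
  obtain ⟨d, N, hd, hB, hN⟩ := exists_unip p hc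
  set z := wgl 1 gs with hz
  set A₀ := wgl (rperm (i := i) (1 : Equiv.Perm κ) rfl) (fun j : Rst i => gs j.1)
  set C : Matrix (Rst i → β) (Rst i → β) F := d • (A₀ : Matrix _ _ F) - 1
  have hK : (sp i z : Matrix _ _ F) = (1 + C) ⊗ₖ (1 + N) := by
    rw [hz, sp_wgl (1 : Equiv.Perm κ) rfl, k2_val, hB, Matrix.kronecker_smul, add_sub_cancel, Matrix.smul_kronecker]
  set f := C ⊗ₖ (1 : Mb) + (1 : Matrix (Rst i → β) (Rst i → β) F) ⊗ₖ N + C ⊗ₖ N with hf
  have hf1 : Matrix.reindex (spE i) (spE i) ((z : Mn) - 1) = f := by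
    have e : Matrix.reindex (spE i) (spE i) ((z : Mn) - 1) = (sp i z : Matrix _ _ F) - 1 := by
      ext a b
      rw [sp_val]
      simp [Matrix.one_apply]
    rw [e]
    rw [hK, Matrix.add_kronecker, Matrix.kronecker_add, Matrix.kronecker_add, Matrix.one_kronecker_one, hf]
    abel
  have hfr : f.rank = Fintype.card β ^ (Fintype.card κ - 1) := by rw [← hf1, Matrix.rank_reindex, hr]
  have hff : f * f = 0 := by
    rw [← hf1, Matrix.reindex_apply, Matrix.submatrix_mul_equiv, h2]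
    rfl
  have hN1 : (1 + N) ^ p = 1 := by
    rw [add_pow_char_of_commute (p := p) (Commute.one_left _), one_pow, hN, add_zero]
  have hC1 : (1 + C) ^ p = 1 := by
    have h1 : ((sp i z) ^ p : GL ((Rst i → β) × β) F) = 1 := by
      rw [← map_pow, hz, wgl_one_pow, hzp, map_one]
    have h2' := congrArg Units.val h1
    rw [Units.val_pow_eq_pow_val, Units.val_one, hK, kron_pow, hN1] at h2'
    obtain ⟨b₀⟩ := ‹Nonempty β›
    refine Matrix.ext fun x y => ?_
    have h3 := congrFun (congrFun h2' (x, b₀)) (y, b₀)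
    simpa [Matrix.one_apply] using h3
  have hCp : C ^ p = 0 := by
    rw [add_pow_char_of_commute (p := p) (Commute.one_left _), one_pow] at hC1
    exact add_eq_left.1 hC1
  have hN0 : N ≠ 0 := fun e => hi d (by rw [hB, e, add_zero])
  obtain ⟨y, hy0, hy⟩ := exists_ker_of_pow hN
  obtain ⟨x, hx0, hx⟩ := exists_ker_of_pow hCp
  have hfy : ∀ u, f *ᵥ tmul u y = tmul (C *ᵥ u) y := fun u => by
    rw [hf, Matrix.add_mulVec, Matrix.add_mulVec, kronecker_mulVec, kronecker_mulVec, kronecker_mulVec, hy,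
      Matrix.one_mulVec, tmul_zero_right, tmul_zero_right, add_zero, add_zero]
  have hfx : ∀ u, f *ᵥ tmul x u = tmul x (N *ᵥ u) := fun u => by
    rw [hf, Matrix.add_mulVec, Matrix.add_mulVec, kronecker_mulVec, kronecker_mulVec, kronecker_mulVec, hx,
      Matrix.one_mulVec, tmul_zero_left, tmul_zero_left, zero_add, add_zero, Matrix.one_mulVec]
  have hC2 : C * C = 0 := Matrix.ext_iff_mulVec.2 fun u => by
    have h1 := congrArg (· *ᵥ tmul u y) hff
    simp only [← Matrix.mulVec_mulVec, Matrix.zero_mulVec, hfy] at h1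
    rw [Matrix.zero_mulVec, ← Matrix.mulVec_mulVec]
    exact fac_injective hy0 (h1.trans (tmul_zero_left y).symm)
  have hN2 : N * N = 0 := Matrix.ext_iff_mulVec.2 fun u => by
    have h1 := congrArg (· *ᵥ tmul x u) hff
    simp only [← Matrix.mulVec_mulVec, Matrix.zero_mulVec, hfx] at h1
    rw [Matrix.zero_mulVec, ← Matrix.mulVec_mulVec]
    by_contra hne
    exact tmul_ne_zero hx0 hne h1
  obtain ⟨h2N, hge⟩ := rank_pair_ge C N hC2 hN2
  rw [← hf, hfr, card_rst] at hge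
  have hNr : 1 ≤ N.rank := by
    rw [Nat.one_le_iff_ne_zero, Ne, TensorPow.rank_zero_iff]
    exact hN0
  have hr1 : N.rank = 1 := by
    have h1 : Fintype.card β ^ (Fintype.card κ - 1) * N.rank ≤ Fintype.card β ^ (Fintype.card κ - 1) * 1 := by
      rw [mul_one]; exact (Nat.le_add_right _ _).trans hge
    have := Nat.le_of_mul_le_mul_left h1 (pow_pos (by omega) _)
    omega
  have hC0 : C = 0 := by
    have h1 : (2 : F) • (C ⊗ₖ N) = 0 := by
      rw [← hff, hf]
      simp only [add_mul, mul_add, ← Matrix.mul_kronecker_mul, one_mul, mul_one, hC2, hN2,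
        Matrix.zero_kronecker, Matrix.kronecker_zero, add_zero, zero_add, two_smul]
    have h2' := (smul_eq_zero.1 h1).resolve_left h20
    ext x y
    by_contra hne
    obtain ⟨a, b, hab⟩ : ∃ a b, N a b ≠ 0 := by
      by_contra hc'
      push Not at hc'
      exact hN0 (Matrix.ext hc')
    exact mul_ne_zero hne hab (by simpa using congrFun (congrFun h2' (x, a)) (y, b))
  obtain ⟨v, φ, hv, hφ, hNv⟩ := eq_vmv_of_rank_one hr1
  have hφv : φ ⬝ᵥ v = 0 := by
    rw [hNv, vmv_mul, smul_eq_zero] at hN2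
    exact hN2.resolve_right (vmv_ne_zero hv hφ)
  obtain ⟨T, hT⟩ := exists_tv hφv
  refine ⟨i, v, φ, T, hv, hφ, hφv, tv_val hT, (sp i).injective (Units.ext ?_)⟩
  rw [hK, sp_pe, k2_val, tv_val hT, hC0, hNv, add_zero, Units.val_one]

/-- The classification in odd characteristic. -/
theorem classify2 (hb : 2 ≤ Fintype.card β) (h20 : (2 : F) ≠ 0) (ht : 1 ≤ Fintype.card κ) {z : GL X F}
    (hz : z ∈ Wr F κ β) (h2 : ((z : Mn) - 1) * ((z : Mn) - 1) = 0)
    (hr : ((z : Mn) - 1).rank = Fintype.card β ^ (Fintype.card κ - 1)) : ∃ i, IsTv i z := by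
  haveI : Nonempty κ := Fintype.card_pos_iff.1 (by omega)
  haveI : Nonempty β := Fintype.card_pos_iff.1 (by omega)
  haveI : Nontrivial β := Fintype.one_lt_card_iff_nontrivial.1 (by omega)
  obtain ⟨σ, gs, rfl⟩ := hz
  have hσ := perm_sq_eq_one2 hb h2
  obtain ⟨p, hp⟩ := CharP.exists F
  haveI : Fact p.Prime := ⟨CharP.char_is_prime F p⟩
  have hzp := pow_char_eq_one p h2
  obtain ⟨hs, hh⟩ := wgl_pow (σ := σ) (gs := gs) p
  rw [hh] at hzp
  have hσp := (wgl_eq_one hzp).1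
  rcases (Fact.out : p.Prime).eq_two_or_odd' with e | ⟨k, hk⟩
  · subst e
    exact absurd (by exact_mod_cast CharP.cast_eq_zero F 2) h20
  · rw [hk, pow_succ, pow_mul, pow_two, hσ, one_pow, one_mul] at hσp
    subst hσp
    exact isTv_of_base2 hb h20 h2 hr

end Cfsg.Agent.Classical.TensorSymp
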