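import Cfsg.Agent.Lib.Classical.TensorPowSymp.Ladder

/-!
A product of rank one or two from a non-scalar member.
-/

set_option autoImplicit false
set_option linter.unusedSectionVars false
set_option linter.unusedSimpArgs false
set_option linter.style.haveILetI false

namespace Cfsg.Agent.Classical.TensorSymp

open Matrix Module MaxTv TensorMax TensorPow

variable {F : Type*} [Field F] [Fintype F] {κ β : Type} [Fintype κ] [DecidableEq κ] [Fintype β] [DecidableEq β]

local notation "Mn" => Matrix (κ → β) (κ → β) F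
local notation "Mb" => Matrix β β F

theorem Ty.adj_anti {h : (β → F) → (β → F) → F} (hh : Symp h) {ε : F} {A A' : Mb} (hA : Ty h ε A)
    (hA' : Ty h ε A') (x y : β → F) : h ((A * A' + A' * A) *ᵥ x) y = h x ((A * A' + A' * A) *ᵥ y) := by
  rw [Matrix.add_mulVec, Matrix.add_mulVec, hh.add_left, hh.add_right, ← Matrix.mulVec_mulVec, ← Matrix.mulVec_mulVec,
    hA.adj hh, hA'.adj hh, hA'.adj hh (A *ᵥ x), hA.adj hh x, Matrix.mulVec_mulVec, Matrix.mulVec_mulVec,
    ← mul_assoc, ← mul_assoc, hA.sgn_sq hh, one_mul, one_mul, add_comm]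

/-- Rank one maps with non-scalar anticommutator. -/
theorem exists_pair_nonscalar {h : (β → F) → (β → F) → F} (hh : Symp h) (h4 : 4 ≤ Fintype.card β) :
    ∃ A A' : Mb, Ty h (-1) A ∧ Ty h (-1) A' ∧ ∀ r : F, A * A' + A' * A ≠ r • (1 : Mb) := by
  obtain ⟨b⟩ : Nonempty β := Fintype.card_pos_iff.1 (by omega)
  obtain ⟨v, hv⟩ : ∃ v : β → F, v ≠ 0 := ⟨Pi.single b 1, by simp⟩
  obtain ⟨w, hw, hw'⟩ := hh.partner hv
  have hw0 : w ≠ 0 := fun e => one_ne_zero (by rw [← hw, e, hh.toSesq.zero_left])
  refine ⟨vN h v, vN h w, Or.inl ⟨rfl, v, hv, rfl⟩, Or.inl ⟨rfl, w, hw0, rfl⟩, fun r e => ?_⟩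
  rcases eq_or_ne r 0 with rfl | hr
  · have := congrArg (fun T : Mb => T *ᵥ v) e
    simp [Matrix.add_mulVec, ← Matrix.mulVec_mulVec, vN_mulVec hh, hh.smul_left, hh.toSesq.zero_left, hh.neg_left,
      hw, hw', hh.self, hv] at this
  have hle : (⊤ : Submodule F (β → F)) ≤ Submodule.span F {v, w} := fun x _ => by
    have := congrArg (fun T : Mb => r⁻¹ • (T *ᵥ x)) e
    simp only [Matrix.smul_mulVec, Matrix.one_mulVec, smul_smul, inv_mul_cancel₀ hr, one_smul] at this
    rw [← this, Matrix.add_mulVec, ← Matrix.mulVec_mulVec, ← Matrix.mulVec_mulVec, vN_mulVec hh, vN_mulVec hh,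
      vN_mulVec hh, vN_mulVec hh]
    exact Submodule.smul_mem _ _ (Submodule.add_mem _ (Submodule.smul_mem _ _ (Submodule.subset_span (by simp)))
      (Submodule.smul_mem _ _ (Submodule.subset_span (by simp))))
  have h3 := Submodule.finrank_mono hle
  have h5 := finrank_range_le_card (R := F) ![v, w]
  rw [Set.finrank, Matrix.range_cons_cons_empty, Fintype.card_fin] at h5
  rw [finrank_top, Module.finrank_fintype_fun_eq_card] at h3
  omega

variable {c : F} {h : (β → F) → (β → F) → F} {P : Matrix (κ → β) (κ → β) F → Prop} (hP : SAlg c h P)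
include hP

/-- A permutation moving the set by one place. -/
theorem SAlg.exists_perm {J : Finset κ} {ε : κ → F} (H : St h P J ε) (hne : J.Nonempty) {l : κ} (hl : l ∉ J) :
    ∃ (σ : Equiv.Perm κ) (m : κ), m ∈ J ∧ (∀ gs : κ → Mb, P (wm 1 gs) → P (wm 1 (gs ∘ σ))) ∧
      (∀ x, σ x ∈ J ↔ (x = l ∨ x ∈ J.erase m)) ∧ ε (σ l) = ε m := by
  classical
  obtain ⟨j, hj⟩ := hne
  have hlj : l ≠ j := fun e => hl (e ▸ hj)
  by_cases hn : Fintype.card κ = 2
  · refine ⟨Equiv.swap l j, j, hj, fun gs hgs => hP.sw l j hn hgs, fun x => ?_, by rw [Equiv.swap_apply_left]⟩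
    by_cases e1 : x = l
    · simp [e1, hj]
    by_cases e2 : x = j
    · simp [e2, hl, Ne.symm hlj]
    rw [Equiv.swap_apply_of_ne_of_ne e1 e2]
    simp [e1, e2]
  have cyc : ∀ {b d : κ}, l ≠ b → b ≠ d → d ≠ l →
      (Equiv.swap l b * Equiv.swap b d : Equiv.Perm κ) l = b ∧ (Equiv.swap l b * Equiv.swap b d : Equiv.Perm κ) b = d ∧
      (Equiv.swap l b * Equiv.swap b d : Equiv.Perm κ) d = l ∧
      ∀ x, x ≠ l → x ≠ b → x ≠ d → (Equiv.swap l b * Equiv.swap b d : Equiv.Perm κ) x = x := fun {b d} h1 h2 h3 => by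
    refine ⟨?_, ?_, ?_, fun x e1 e2 e3 => ?_⟩
    · rw [Equiv.Perm.mul_apply, Equiv.swap_apply_of_ne_of_ne h1 (Ne.symm h3), Equiv.swap_apply_left]
    · rw [Equiv.Perm.mul_apply, Equiv.swap_apply_left, Equiv.swap_apply_of_ne_of_ne h3 (Ne.symm h2)]
    · rw [Equiv.Perm.mul_apply, Equiv.swap_apply_right, Equiv.swap_apply_right]
    · rw [Equiv.Perm.mul_apply, Equiv.swap_apply_of_ne_of_ne e2 e3, Equiv.swap_apply_of_ne_of_ne e1 e2]
  by_cases hx : ∃ x, x ∉ J ∧ x ≠ l
  · obtain ⟨x, hxJ, hxl⟩ := hx
    have hjx : j ≠ x := fun e => hxJ (e ▸ hj)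
    obtain ⟨k1, k2, k3, k4⟩ := cyc hlj hjx hxl
    refine ⟨_, j, hj, fun gs hgs => hP.cyc hlj hjx hxl hgs, fun y => ?_, by rw [k1]⟩
    by_cases e1 : y = l
    · simp only [e1, k1, hj, true_or]
    by_cases e2 : y = j
    · simp [e2, k2, hxJ, Ne.symm hlj]
    by_cases e3 : y = x
    · simp [e3, k3, hl, hxl, hxJ]
    rw [k4 y e1 e2 e3]
    simp [e1, e2]
  push Not at hx
  have hJ : J = Finset.univ.erase l := by
    ext x
    simp only [Finset.mem_erase, Finset.mem_univ, and_true]
    exact ⟨fun e e' => hl (e' ▸ e), fun e => by_contra fun a => e (hx x a)⟩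
  have hcard : 2 ≤ J.card := by
    rw [hJ, Finset.card_erase_of_mem (Finset.mem_univ l), Finset.card_univ]
    have : 1 < Fintype.card κ := Fintype.one_lt_card_iff.2 ⟨l, j, hlj⟩
    omega
  obtain ⟨b, hb, d, hd, hbd, he⟩ : ∃ b ∈ J, ∃ d ∈ J, b ≠ d ∧ ε b = ε d := by
    by_cases h3 : 3 ≤ J.card
    · refine Finset.exists_ne_map_eq_of_card_lt_of_maps_to (t := ({1, -1} : Finset F))
        (lt_of_le_of_lt Finset.card_le_two (by omega)) fun x hx' => ?_
      rcases mul_self_eq_one_iff.1 (hP.sgn H hx') with e | e <;> simp [e]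
    · obtain ⟨b, d, hbd, hJ2⟩ := Finset.card_eq_two.1 (show J.card = 2 by omega)
      have k := hP.prod_sgn H
      rw [hJ2, Finset.prod_pair hbd] at k
      refine ⟨b, by simp [hJ2], d, by simp [hJ2], hbd, ?_⟩
      have k2 := hP.sgn H (show d ∈ J by simp [hJ2])
      linear_combination ε d * k - ε b * k2
  have hlb : l ≠ b := fun e => hl (e ▸ hb)
  have hdl : d ≠ l := fun e => hl (e ▸ hd)
  obtain ⟨k1, k2, k3, k4⟩ := cyc hlb hbd hdl
  refine ⟨_, d, hd, fun gs hgs => hP.cyc hlb hbd hdl hgs, fun y => ?_, by rw [k1, he]⟩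
  by_cases e1 : y = l
  · simp only [e1, k1, hb, true_or]
  by_cases e2 : y = b
  · simp [e2, k2, hd, hb, hbd]
  by_cases e3 : y = d
  · simp [e3, k3, hl, hdl]
  rw [k4 y e1 e2 e3]
  simp [e1, e3]

/-- From an even set of rank one factors to one more. -/
theorem SAlg.bump (h4 : 4 ≤ Fintype.card β) {J : Finset κ} (H : St h P J fun _ => -1) (hne : J.Nonempty)
    (hev : Even J.card) {l : κ} (hl : l ∉ J) :
    ∃ m₀ ∈ J, St h P (insert l J) (Function.update (fun _ => -1) m₀ 1) := by
  classical
  obtain ⟨σ, m, hm, hσ, hset, -⟩ := hP.exists_perm H hne hl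
  have H' := H.perm σ hσ
  have eJ' : (Finset.univ.filter fun x => σ x ∈ J) = insert l (J.erase m) := by ext x; simp [hset]
  rw [eJ'] at H'
  obtain ⟨m₀, hm₀⟩ : (J.erase m).Nonempty := by
    rw [← Finset.card_pos, Finset.card_erase_of_mem hm]
    obtain ⟨r, hr⟩ := hev
    have := hne.card_pos
    omega
  obtain ⟨hm₀m, hm₀J⟩ := Finset.mem_erase.1 hm₀
  have hi : J ∩ insert l (J.erase m) = J.erase m := by
    ext x
    simp only [Finset.mem_inter, Finset.mem_insert, Finset.mem_erase]
    constructor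
    · rintro ⟨hx, rfl | hx'⟩
      · exact absurd hx hl
      · exact hx'
    · exact fun hx => ⟨hx.2, Or.inr hx⟩
  obtain ⟨A, A', hA, hA', hns⟩ := exists_pair_nonscalar hP.data.hh h4
  obtain ⟨gs, hgs, hgm, hgT, hg1⟩ := hP.mid H H' hne (m := m₀) (by rw [hi]; exact hm₀) (by
    simp only [Function.comp_apply, neg_mul_neg, one_mul, Finset.prod_const]
    rw [hi, Finset.card_erase_of_mem hm₀, Finset.card_erase_of_mem hm, Even.neg_one_pow]
    obtain ⟨r, hr⟩ := hev
    exact ⟨r - 1, by omega⟩) hA hA'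
  obtain ⟨L, hL, hPL⟩ := hP.single hgs (m := m₀) (by rw [hgm]; exact hA.adj_anti hP.data.hh hA') (by rw [hgm]; exact hns)
  refine ⟨m₀, hm₀J, hP.st_of (gs := Function.update gs m₀ L) (fun x hx => ?_) (fun x hx => ?_) hPL⟩
  · by_cases e : x = m₀
    · subst e; rwa [Function.update_self, Function.update_self]
    · rw [Function.update_of_ne e, Function.update_of_ne e]
      have := hgT x (by
        rw [Finset.mem_union]
        rcases Finset.mem_insert.1 hx with rfl | hx
        · exact Or.inr (Finset.mem_insert_self _ _)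
        · exact Or.inl hx) e
      simpa only [Function.comp_apply, ite_self] using this
  · rw [Finset.mem_insert, not_or] at hx
    rw [Function.update_of_ne (show x ≠ m₀ from fun e => hx.2 (by rw [e]; exact hm₀J))]
    refine hg1 x fun e => ?_
    rcases Finset.mem_union.1 e with e | e
    · exact hx.2 e
    · rcases Finset.mem_insert.1 e with e | e
      · exact hx.1 e
      · exact hx.2 (Finset.mem_of_mem_erase e)

/-- All factors, an odd number of them. -/
theorem SAlg.top_odd (h4 : 4 ≤ Fintype.card β) {ε : κ → F} (H : St h P Finset.univ ε)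
    (hodd : Odd (Fintype.card κ)) : Top h P := by
  classical
  have hh := hP.data.hh
  obtain ⟨m₀⟩ : Nonempty κ := Fintype.card_pos_iff.1 hodd.pos
  by_cases h1 : Fintype.card κ = 1
  · refine Or.inr ⟨m₀, Or.inr ⟨h4, H.congr fun l _ => ?_⟩⟩
    haveI : Subsingleton κ := Fintype.card_le_one_iff_subsingleton.1 h1.le
    have k := hP.prod_sgn H
    rw [show (Finset.univ : Finset κ) = {m₀} from Finset.eq_singleton_iff_unique_mem.2
      ⟨Finset.mem_univ _, fun x _ => Subsingleton.elim _ _⟩, Finset.prod_singleton] at k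
    rw [Subsingleton.elim l m₀, Function.update_self, k]
  obtain ⟨A₀, hA₀⟩ := H.ex m₀ (Finset.mem_univ _)
  obtain ⟨A, A', hA, hA', hX⟩ := hA₀.exists_pair hh hP.h2
  have hev : Even ((Finset.univ : Finset κ).erase m₀).card := by
    rw [Finset.card_erase_of_mem (Finset.mem_univ _), Finset.card_univ]
    obtain ⟨r, hr⟩ := hodd
    exact ⟨r, by omega⟩
  obtain ⟨gs, hgs, hgm, hgT, -⟩ := hP.mid H H ⟨m₀, Finset.mem_univ _⟩ (m := m₀) (by simp) (by
    rw [Finset.inter_self, Finset.prod_congr rfl fun x hx => by rw [hP.sgn H (Finset.mem_univ x)], Finset.prod_const,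
      hev.neg_one_pow]) hA hA'
  have hT : ∀ l, l ≠ m₀ → Ty h (-1) (gs l) := fun l hl => by simpa using hgT l (by simp) hl
  by_cases hsc : ∃ r : F, A * A' + A' * A = r • (1 : Mb)
  · obtain ⟨r, hr⟩ := hsc
    have hr0 : r ≠ 0 := fun e => hX (by rw [hr, e, zero_smul])
    have hSt : St h P (Finset.univ.erase m₀) fun _ => (-1 : F) := by
      refine hP.st_of (gs := Function.update gs m₀ 1) (fun l hl => ?_) (fun l hl => ?_) ?_
      · rw [Function.update_of_ne (Finset.ne_of_mem_erase hl)]; exact hT l (Finset.ne_of_mem_erase hl)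
      · rw [show l = m₀ by simpa using hl, Function.update_self]
      · have := hP.smul r⁻¹ hgs
        rwa [← Function.update_eq_self m₀ gs, hgm, hr, wm_update_smul, smul_smul, inv_mul_cancel₀ hr0, one_smul] at this
    obtain ⟨m, hm, k⟩ := hP.bump h4 hSt (by
      rw [← Finset.card_pos, Finset.card_erase_of_mem (Finset.mem_univ _), Finset.card_univ]
      have := hodd.pos
      omega) hev (Finset.notMem_erase m₀ _)
    rw [Finset.insert_erase (Finset.mem_univ m₀)] at k
    exact Or.inr ⟨m, Or.inr ⟨h4, k⟩⟩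
  push Not at hsc
  obtain ⟨L, hL, hPL⟩ := hP.single hgs (m := m₀) (by rw [hgm]; exact hA.adj_anti hh hA') (by rw [hgm]; exact hsc)
  refine Or.inr ⟨m₀, Or.inr ⟨h4, hP.st_of (gs := Function.update gs m₀ L) (fun x _ => ?_) (fun x hx => absurd (Finset.mem_univ x) hx) hPL⟩⟩
  by_cases e : x = m₀
  · subst e; rwa [Function.update_self, Function.update_self]
  · rw [Function.update_of_ne e, Function.update_of_ne e]; exact hT x e

/-- Two more factors, for factors of dimension two. -/
theorem SAlg.two_more {J : Finset κ} (H : St h P J fun _ => -1) (hev : Even J.card) {j j' l l' : κ} (hj : j ∈ J)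
    (hj' : j' ∈ J) (hjj : j ≠ j') (hl : l ∉ J) (hl' : l' ∉ J) (hll : l ≠ l') :
    ∃ ε, St h P (insert l (insert l' J)) ε := by
  classical
  have hjl : j ≠ l := fun e => hl (e ▸ hj)
  have hjl' : j ≠ l' := fun e => hl' (e ▸ hj)
  have hj'l : j' ≠ l := fun e => hl (e ▸ hj')
  have hj'l' : j' ≠ l' := fun e => hl' (e ▸ hj')
  obtain ⟨σ, hσd⟩ : ∃ σ : Equiv.Perm κ, σ = Equiv.swap j l * Equiv.swap j' l' := ⟨_, rfl⟩
  have H' := H.perm σ fun gs hgs => hσd ▸ hP.two hjl hj'l' hjj hjl' (Ne.symm hj'l) hll hgs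
  obtain ⟨C, hC⟩ : ∃ C, C = (J.erase j).erase j' := ⟨_, rfl⟩
  have eJ' : (Finset.univ.filter fun x => σ x ∈ J) = insert l (insert l' C) := by
    ext x
    simp only [Finset.mem_filter, Finset.mem_univ, true_and, hC, hσd, Finset.mem_insert, Finset.mem_erase,
      Equiv.Perm.mul_apply]
    by_cases a1 : x = l
    · simp [a1, Equiv.swap_apply_of_ne_of_ne (Ne.symm hj'l) hll, hj]
    by_cases a2 : x = l'
    · simp [a2, Equiv.swap_apply_of_ne_of_ne (Ne.symm hjj) hj'l, hj', Ne.symm hll]
    by_cases a3 : x = j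
    · simp [a3, Equiv.swap_apply_of_ne_of_ne hjj hjl', hl, hjl, hjl']
    by_cases a4 : x = j'
    · simp [a4, Equiv.swap_apply_of_ne_of_ne (Ne.symm hjl') (Ne.symm hll), hl', hj'l, hj'l']
    simp [Equiv.swap_apply_of_ne_of_ne a4 a2, Equiv.swap_apply_of_ne_of_ne a3 a1, a1, a2, a3, a4]
  rw [eJ'] at H'
  have hi : J ∩ insert l (insert l' C) = C := by
    ext x
    simp only [Finset.mem_inter, Finset.mem_insert, hC, Finset.mem_erase]
    constructor
    · rintro ⟨hx, rfl | rfl | hx'⟩
      · exact absurd hx hl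
      · exact absurd hx hl'
      · exact hx'
    · exact fun hx => ⟨hx.2.2, Or.inr (Or.inr hx)⟩
  have k := hP.join H H' ⟨j, hj⟩ (by
    simp only [Function.comp_apply, neg_mul_neg, one_mul, Finset.prod_const]
    rw [hi, hC, Finset.card_erase_of_mem (Finset.mem_erase.2 ⟨Ne.symm hjj, hj'⟩), Finset.card_erase_of_mem hj,
      Even.neg_one_pow]
    obtain ⟨r, hr⟩ := hev
    exact ⟨r - 1, by omega⟩)
  refine ⟨fun x => if x ∈ J ∩ insert l (insert l' C) then -1 else if x ∈ J then -1 else -1, ?_⟩
  convert k using 1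
  · ext x
    simp only [hC, Finset.mem_union, Finset.mem_insert, Finset.mem_erase]
    tauto
  · rfl

/-- Climbing to all factors. -/
theorem SAlg.climb : ∀ (d : ℕ) (J : Finset κ) (ε : κ → F), Fintype.card κ ≤ J.card + d → J.Nonempty →
    St h P J ε → Top h P := by
  classical
  intro d
  induction d using Nat.strong_induction_on with
  | _ d ih =>
    intro J ε hd hne H
    have hle := J.card_le_univ
    by_cases hev : Even J.card
    · have H1 := hP.even_all H hne hev
      by_cases hu : J = Finset.univ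
      · exact Or.inl (hu ▸ H1)
      obtain ⟨l, hl⟩ : ∃ l, l ∉ J := by
        by_contra hc
        push Not at hc
        exact hu (Finset.eq_univ_iff_forall.2 hc)
      rcases hP.hk with hk | hk
      · by_cases hl2 : ∃ l', l' ∉ J ∧ l ≠ l'
        · obtain ⟨l', hl', hll⟩ := hl2
          obtain ⟨j, hj, j', hj', hjj⟩ := Finset.one_lt_card.1 (show 1 < J.card by
            obtain ⟨r, hr⟩ := hev
            have := hne.card_pos
            omega)
          obtain ⟨ε', k⟩ := hP.two_more H1 hev hj hj' hjj hl hl' hll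
          have hc : (insert l (insert l' J)).card = J.card + 2 := by
            rw [Finset.card_insert_of_notMem (by simp [hl, hll]), Finset.card_insert_of_notMem hl']
          exact ih (d - 2) (by have := (insert l (insert l' J)).card_le_univ; omega) _ ε' (by omega)
            (Finset.insert_nonempty _ _) k
        · push Not at hl2
          refine Or.inr ⟨l, Or.inl ⟨hk, ?_⟩⟩
          have : Finset.univ.erase l = J := by
            ext x
            simp only [Finset.mem_erase, Finset.mem_univ, and_true]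
            exact ⟨fun e => by_contra fun a => e (hl2 x a).symm, fun e e' => hl (e' ▸ e)⟩
          rwa [this]
      · obtain ⟨m, -, k⟩ := hP.bump hk H1 hne hev hl
        have hc : (insert l J).card = J.card + 1 := Finset.card_insert_of_notMem hl
        exact ih (d - 1) (by have := (insert l J).card_le_univ; omega) _ _ (by omega) (Finset.insert_nonempty _ _) k
    · rw [Nat.not_even_iff_odd] at hev
      rcases hP.hk with hk | hk
      · exfalso
        have k := hP.prod_sgn H
        have e1 : ∀ x ∈ J, ε x = -1 := fun x hx => by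
          rcases (H.ex x hx).choose_spec with ⟨e, -⟩ | ⟨-, a, b, ha, hab, hab0, -⟩
          · exact e
          · have := three_le_of_pair hP.data.hh ha hab hab0
            omega
        rw [Finset.prod_congr rfl e1, Finset.prod_const, hev.neg_one_pow] at k
        exact hP.h2 (by linear_combination -k)
      · by_cases hu : J = Finset.univ
        · subst hu
          exact hP.top_odd hk H (by rwa [Finset.card_univ] at hev)
        obtain ⟨l, hl⟩ : ∃ l, l ∉ J := by
          by_contra hc
          push Not at hc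
          exact hu (Finset.eq_univ_iff_forall.2 hc)
        obtain ⟨σ, m, hm, hσ, hset, he⟩ := hP.exists_perm H hne hl
        obtain ⟨ε', k⟩ := hP.grow H hev σ hσ hl hm hset he
        have hc : (insert l J).card = J.card + 1 := Finset.card_insert_of_notMem hl
        exact ih (d - 1) (by have := (insert l J).card_le_univ; omega) _ ε' (by omega) (Finset.insert_nonempty _ _) k

/-- A non-scalar member gives a product of rank one or two. -/
theorem SAlg.exists_top {R₀ : Mn} (hR₀ : P R₀) (hns : ∀ r : F, R₀ ≠ r • (1 : Mn)) : Top h P := by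
  obtain ⟨J, ε, hne, H⟩ := hP.exists_st hR₀ hns
  exact hP.climb (Fintype.card κ) J ε (by omega) hne H

end Cfsg.Agent.Classical.TensorSymp
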