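import Cfsg.Agent.Lib.Classical.TensorPowSymp.Form
import Cfsg.Agent.Lib.Classical.MaxTensorRootApp
import Cfsg.Agent.Lib.Classical.SympSimple

/-!
The isometry group of a symplectic space is perfect, apart from small cases.
-/

set_option autoImplicit false
set_option linter.unusedSectionVars false

open scoped commutatorElement

namespace Cfsg.Agent.Classical.TensorSymp

open Matrix Module MaxTv TensorMax

variable {F : Type*} [Field F] [Fintype F] {β : Type} [Fintype β] [DecidableEq β]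
  {h : (β → F) → (β → F) → F}

local notation "Mb" => Matrix β β F

/-- The isometries as the image of the symplectic group. -/
theorem Symp.exists_model (hh : Symp h) : ∃ (k : ℕ) (E : (Fin k ⊕ Fin k → F) ≃ₗ[F] (β → F))
    (ψ : Matrix.symplecticGroup (Fin k) F →* GL β F), 2 * k = Fintype.card β ∧ MonoidHom.range ψ = Iso h ∧
      (∀ x y, h (E x) (E y) = sympForm k F x y) ∧
      ∀ A x, (ψ A : Mb) *ᵥ E x = E ((A : Matrix (Fin k ⊕ Fin k) (Fin k ⊕ Fin k) F) *ᵥ x) := by
  classical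
  let Lr : (Fin (Fintype.card β) → F) ≃ₗ[F] (β → F) := LinearEquiv.funCongrLeft F F (Fintype.equivFin β)
  obtain ⟨f, hf⟩ : ∃ f : (Fin (Fintype.card β) → F) → (Fin (Fintype.card β) → F) → F,
      f = fun x y => h (Lr x) (Lr y) := ⟨_, rfl⟩
  have hfs : Geo.IsSymplecticForm f := by
    refine ⟨⟨fun x y v => ?_, fun r x v => ?_, fun v x y => ?_, fun r v x => ?_⟩, fun v w => ?_, fun v => ?_, ?_⟩
    · simp only [hf, map_add, hh.add_left]
    · simp only [hf, map_smul, hh.smul_left]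
    · simp only [hf, map_add, hh.add_right]
    · simp only [hf, map_smul, hh.smul_r]
    · simp only [hf]; exact hh.skew _ _
    · simp only [hf, hh.self]
    · intro v hv
      obtain ⟨u, hu, hu'⟩ := hh.partner (z := Lr v) fun e => hv (Lr.injective (e.trans (map_zero Lr).symm))
      refine ⟨⟨Lr.symm u, ?_⟩, ⟨Lr.symm u, ?_⟩⟩ <;>
        simp only [hf, LinearEquiv.apply_symm_apply, hu, hu'] <;> simp
  obtain ⟨k, L, hk, hL⟩ := TensorRoot.exists_std_form f hfs
  let E : (Fin k ⊕ Fin k → F) ≃ₗ[F] (β → F) := L.trans Lr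
  have hE : ∀ x y, h (E x) (E y) = sympForm k F x y := fun x y => by rw [← hL, hf]; rfl
  let ψ : Matrix.symplecticGroup (Fin k) F →* Matrix β β F :=
    { toFun := fun A => LinearMap.toMatrix' (E.conj (Matrix.toLin' (A : Matrix (Fin k ⊕ Fin k) (Fin k ⊕ Fin k) F)))
      map_one' := by simp
      map_mul' := fun A B => by
        rw [Submonoid.coe_mul, Matrix.toLin'_mul, LinearEquiv.conj_comp, LinearMap.toMatrix'_comp] }
  have hψ : ∀ A x, ((MonoidHom.toHomUnits ψ A : GL β F) : Mb) *ᵥ E x = E ((A : Matrix _ _ F) *ᵥ x) := fun A x => by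
    show ψ A *ᵥ E x = _
    rw [← Matrix.toLin'_apply, MonoidHom.coe_mk, OneHom.coe_mk, Matrix.toLin'_toMatrix', LinearEquiv.conj_apply_apply,
      LinearEquiv.symm_apply_apply, Matrix.toLin'_apply]
  have hr : MonoidHom.range (MonoidHom.toHomUnits ψ) = Iso h := by
    refine le_antisymm ?_ fun g hg => ?_
    · rintro _ ⟨A, rfl⟩ x y
      obtain ⟨x, rfl⟩ := E.surjective x
      obtain ⟨y, rfl⟩ := E.surjective y
      rw [hψ, hψ, hE, hE, sympForm_map]
    obtain ⟨A, hA⟩ : ∃ A : Matrix (Fin k ⊕ Fin k) (Fin k ⊕ Fin k) F,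
        ∀ x, E (A *ᵥ x) = (g : Mb) *ᵥ E x :=
      ⟨LinearMap.toMatrix' (E.symm.conj (Matrix.toLin' (g : Mb))), fun x => by
        rw [← Matrix.toLin'_apply, Matrix.toLin'_toMatrix', LinearEquiv.conj_apply_apply, LinearEquiv.symm_symm,
          LinearEquiv.apply_symm_apply, Matrix.toLin'_apply]⟩
    refine ⟨⟨A, mem_symplecticGroup_iff_form.2 fun x y => by rw [← hE, ← hE, hA, hA, hg]⟩, Units.ext ?_⟩
    refine Matrix.ext_iff_mulVec.2 fun v => ?_
    obtain ⟨x, rfl⟩ := E.surjective v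
    rw [hψ]; exact hA x
  exact ⟨k, E, MonoidHom.toHomUnits ψ, hk, hr, hE, hψ⟩

/-- The isometries of a symplectic space form a perfect group. -/
theorem Symp.perfect (hh : Symp h)
    (hd : 5 ≤ Fintype.card β ∨ (3 ≤ Fintype.card β ∧ 3 ≤ Fintype.card F) ∨ 4 ≤ Fintype.card F) :
    Iso h ≤ ⁅Iso h, Iso h⁆ := by
  obtain ⟨k, E, ψ, hk, hr, -, -⟩ := hh.exists_model
  conv_lhs => rw [← hr, MonoidHom.range_eq_map, ← symp_perfect_of_card (F := F) (m := k) (by omega)]
  rw [commutator_def, Subgroup.map_commutator, ← MonoidHom.range_eq_map, hr]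

/-- The isometries of a symplectic space are generated by transvections. -/
theorem Symp.gen_tv (hh : Symp h) {N : Subgroup (GL β F)}
    (hN : ∀ (v : β → F) (s : F) (B : GL β F), B ∈ Iso h → (∀ x, (B : Mb) *ᵥ x = x + (s * h x v) • v) → B ∈ N) :
    Iso h ≤ N := by
  obtain ⟨k, E, ψ, -, hr, hE, hψ⟩ := hh.exists_model
  rw [← hr, MonoidHom.range_eq_map, ← closure_sympTvSet, MonoidHom.map_closure, Subgroup.closure_le]
  rintro _ ⟨A, ⟨w, c, hA⟩, rfl⟩
  refine hN (E w) c _ (hr ▸ ⟨A, rfl⟩) fun x => ?_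
  obtain ⟨x, rfl⟩ := E.surjective x
  rw [hψ, hA, sympTransvection_mulVec, map_add, map_smul, ← hE]

end Cfsg.Agent.Classical.TensorSymp
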