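import Cfsg.Agent.Lib.Classical.TensorPowSymp.Form
import Cfsg.Agent.Lib.Classical.TensorPow.Two
import Cfsg.Agent.Lib.Classical.MaxOverfield

/-!
A group of isometries of the product of a space and a symplectic space containing the symplectic group of the
second factor: the coefficients of its root elements.
-/

set_option autoImplicit false
set_option linter.unusedSectionVars false
set_option linter.unusedSimpArgs false
set_option linter.style.haveILetI false

namespace Cfsg.Agent.Classical.TensorSymp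

open Matrix Module MaxTv TensorMax Overfield
open Cfsg.Agent.Classical.TensorPow (k2 k2_val k2_mulVec k2_mul k2_one)

variable {F : Type*} [Field F] [Fintype F] {α β : Type} [Fintype α] [DecidableEq α] [Fintype β] [DecidableEq β]

local notation "V" => (α × β → F)
local notation "Mn" => Matrix (α × β) (α × β) F
local notation "Ma" => Matrix α α F
local notation "Mb" => Matrix β β F
local notation "Ea" => ((α → F) →ₗ[F] (α → F))

/-- A group of isometries of the product containing the second factor. -/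
structure Pr (e : F) (fA : (α → F) → (α → F) → F) (h : (β → F) → (β → F) → F)
    (f : (α × β → F) → (α × β → F) → F) (M : Subgroup (GL (α × β) F)) : Prop where
  hA : Sesq (RingEquiv.refl F) fA
  hh : Symp h
  hV : Sesq (RingEquiv.refl F) f
  he : e * e = 1
  symA : ∀ x y, fA y x = e * fA x y
  symV : ∀ s t, f t s = -e * f s t
  ten : ∀ x x' y y', f (tmul x y) (tmul x' y') = fA x x' * h y y'
  le : M ≤ Iso f
  kB : ∀ {B : GL β F}, B ∈ Iso h → k2 (1 : GL α F) B ∈ M
  ha : 2 ≤ Fintype.card α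
  hb : 2 ≤ Fintype.card β

/-- The coefficient of a tensor against a vector. -/
def sl (h : (β → F) → (β → F) → F) (u : β → F) : (α × β → F) →ₗ[F] (α → F) := slice (fn h u)

/-- A root map. -/
def rM (h : (β → F) → (β → F) → F) (v : β → F) (D : (α → F) →ₗ[F] (α → F)) : (α × β → F) →ₗ[F] (α × β → F) :=
  rootMap v (fn h v) D

/-- The coefficients of the root elements. -/
def UC (h : (β → F) → (β → F) → F) (M : Subgroup (GL (α × β) F)) (D : (α → F) →ₗ[F] (α → F)) : Prop :=
  ∀ z, In M (rM h z D)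

/-- Only scalar coefficients. -/
def Scal (h : (β → F) → (β → F) → F) (M : Subgroup (GL (α × β) F)) : Prop :=
  ∀ D : (α → F) →ₗ[F] (α → F), UC h M D → ∃ μ : F, ∀ x, D x = μ • x

variable {e : F} {fA : (α → F) → (α → F) → F} {h : (β → F) → (β → F) → F}
  {f : (α × β → F) → (α × β → F) → F} {M : Subgroup (GL (α × β) F)}

theorem sl_tmul' (hh : Symp h) (u : β → F) (x : α → F) (y : β → F) : sl h u (tmul x y) = h y u • x := by
  rw [sl, slice_tmul, fn_dot hh.toSesq]

theorem rM_tmul (hh : Symp h) (v : β → F) (D : Ea) (x : α → F) (y : β → F) :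
    rM h v D (tmul x y) = h y v • tmul (D x) v := by
  rw [rM, rootMap_apply, slice_tmul, fn_dot hh.toSesq, map_smul, tmul_smul_left]

theorem rM_comp (hh : Symp h) {v w : β → F} (hwv : h w v = 0) (D D' : Ea) (t : V) :
    rM h v D (rM h w D' t) = 0 := by
  rw [rM, rM, rootMap_apply, rootMap_apply, slice_tmul, fn_dot hh.toSesq, hwv, zero_smul, map_zero, tmul_zero_left]

theorem rM_sq (hh : Symp h) (v : β → F) (D D' : Ea) (t : V) : rM h v D (rM h v D' t) = 0 :=
  rM_comp hh (hh.self v) D D' t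

/-- Linear maps agreeing on `x ⊗ v`, `x ⊗ u` and the orthogonal tensors are equal. -/
theorem ext_frame (hh : Symp h) {v u : β → F} (huv : h u v = 1) {L L' : V →ₗ[F] V}
    (hv : ∀ x, L (tmul x v) = L' (tmul x v)) (hu : ∀ x, L (tmul x u) = L' (tmul x u))
    (hy : ∀ x y, h y v = 0 → h y u = 0 → L (tmul x y) = L' (tmul x y)) : L = L' :=
  ext_tmul fun x y => by
    have hvu : h v u = -1 := by rw [hh.skew u v, huv]
    obtain ⟨y', hy'⟩ : ∃ y', y' = y - h y v • u + h y u • v := ⟨_, rfl⟩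
    have e1 : h y' v = 0 := by
      rw [hy', hh.add_left, hh.toSesq.sub_left, hh.smul_left, hh.smul_left, huv, hh.self]; ring
    have e2 : h y' u = 0 := by
      rw [hy', hh.add_left, hh.toSesq.sub_left, hh.smul_left, hh.smul_left, hvu, hh.self]; ring
    have ey : y = y' + h y v • u - h y u • v := by rw [hy']; abel
    rw [ey]
    simp only [tmul_sub_right, tmul_add_right, tmul_smul_right, map_sub, map_add, map_smul, hv, hu, hy x y' e1 e2]

/-- Conjugates of root maps. -/
theorem conjL_rM (hh : Symp h) (A : GL α F) {B : GL β F} (hB : B ∈ Iso h) (v : β → F) (D : Ea) :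
    conjL (k2 A B) (rM h v D) = rM h ((B : Mb) *ᵥ v)
      ((Matrix.toLin' (A : Ma)).comp (D.comp (Matrix.toLin' ((A⁻¹ : GL α F) : Ma)))) := by
  refine LinearMap.ext fun t => ?_
  obtain ⟨s, rfl⟩ : ∃ s, (k2 A B : Mn) *ᵥ s = t := ⟨_, mulVec_inv_cancel _ t⟩
  rw [conjL_apply, inv_mulVec_cancel]
  refine LinearMap.congr_fun (f := (Matrix.toLin' (k2 A B : Mn)).comp (rM h v D))
    (g := (rM h ((B : Mb) *ᵥ v) ((Matrix.toLin' (A : Ma)).comp (D.comp (Matrix.toLin' ((A⁻¹ : GL α F) : Ma))))).comp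
      (Matrix.toLin' (k2 A B : Mn))) (ext_tmul fun x y => ?_) s
  simp only [LinearMap.comp_apply, Matrix.toLin'_apply, rM_tmul hh, Matrix.mulVec_smul, k2_mulVec, hB y v,
    inv_mulVec_cancel]

variable (hP : Pr e fA h f M)
include hP

theorem Pr.sl_tmul (u : β → F) (x : α → F) (y : β → F) : sl h u (tmul x y) = h y u • x := sl_tmul' hP.hh u x y

theorem Pr.e_ne : e ≠ 0 := fun h0 => one_ne_zero (α := F) (by rw [← hP.he, h0, mul_zero])

theorem Pr.iso {g : GL (α × β) F} (hg : g ∈ M) (s t : V) : f ((g : Mn) *ᵥ s) ((g : Mn) *ᵥ t) = f s t :=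
  hP.le hg s t

theorem Pr.f_sl (t : V) (x : α → F) (u : β → F) : f t (tmul x u) = fA (sl h u t) x := by
  have h1 : hP.hV.lin (tmul x u) = (hP.hA.lin x).comp (sl h u) := by
    refine LinearMap.ext fun t => ?_
    rw [sum_tmul_basis t, map_sum, map_sum]
    refine Finset.sum_congr rfl fun p _ => ?_
    rw [map_smul, map_smul]
    congr 1
    simp only [LinearMap.comp_apply, hP.hV.lin_apply, hP.hA.lin_apply, hP.ten, hP.sl_tmul, hP.hA.smul_left, mul_comm]
  have := LinearMap.congr_fun h1 t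
  rwa [LinearMap.comp_apply, hP.hV.lin_apply, hP.hA.lin_apply] at this

theorem Pr.eq_of_fA {a b : α → F} (h' : ∀ x, fA a x = fA b x) : a = b :=
  sub_eq_zero.1 (hP.hA.eq_zero _ fun x => hP.hA.refl _ _ (by rw [hP.hA.sub_left, h', sub_self]))

theorem Pr.nonempty_b : Nonempty β := Fintype.card_pos_iff.1 (by have := hP.hb; omega)

theorem Pr.exists_ne : ∃ z : β → F, z ≠ 0 := by
  obtain ⟨b⟩ := hP.nonempty_b
  exact ⟨Pi.single b 1, by simp⟩

/-- The coefficient at one vector gives all. -/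
theorem Pr.uc_of {z : β → F} (hz : z ≠ 0) {D : Ea} (hD : In M (rM h z D)) : UC h M D := fun w => by
  rcases eq_or_ne w 0 with rfl | hw
  · convert In.zero (M := M) using 1
    exact LinearMap.ext fun t => by rw [rM, rootMap_apply, tmul_zero_right]; rfl
  obtain ⟨B, hB, hBz⟩ := hP.hh.exists_move hz hw
  have h1 := hD.conj (hP.kB hB)
  rw [conjL_rM hP.hh 1 hB, hBz] at h1
  convert h1 using 2
  exact LinearMap.ext fun x => by simp

theorem Pr.uc_one : UC h M (LinearMap.id : Ea) := fun z => by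
  obtain ⟨B, hB, -, -, hBx⟩ := hP.hh.exists_tv z (1 : F)
  refine ⟨_, hP.kB hB, fun t => ?_⟩
  refine LinearMap.congr_fun (f := Matrix.toLin' (k2 (1 : GL α F) B : Mn)) (g := LinearMap.id + rM h z LinearMap.id)
    (ext_tmul fun x y => ?_) t
  rw [Matrix.toLin'_apply, k2_mulVec, Units.val_one, Matrix.one_mulVec, hBx, LinearMap.add_apply, LinearMap.id_apply,
    rM_tmul hP.hh, LinearMap.id_apply, tmul_add_right, tmul_smul_right, one_mul]

theorem Pr.uc_add {D D' : Ea} (hD : UC h M D) (hD' : UC h M D') : UC h M (D + D') := fun z => by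
  have := (hD z).add (hD' z) fun t => rM_sq hP.hh z D D' t
  convert this using 1
  exact LinearMap.ext fun t => by simp [rM, rootMap_apply, tmul_add_left]

theorem Pr.uc_neg {D : Ea} (hD : UC h M D) : UC h M (-D) := fun z => by
  have := (hD z).neg fun t => rM_sq hP.hh z D D t
  convert this using 1
  exact LinearMap.ext fun t => by
    show tmul (-(D (slice (fn h z) t))) z = -tmul (D (slice (fn h z) t)) z
    rw [← zero_sub, tmul_sub_left, tmul_zero_left, zero_sub]

theorem Pr.uc_sub {D D' : Ea} (hD : UC h M D) (hD' : UC h M D') : UC h M (D - D') := by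
  rw [sub_eq_add_neg]; exact hP.uc_add hD (hP.uc_neg hD')

theorem Pr.uc_sq {D : Ea} (hD : UC h M D) (r : F) : UC h M ((r * r) • D) := fun z => by
  convert hD (r • z) using 1
  refine LinearMap.ext fun t => ?_
  simp only [rM, rootMap_apply, hP.hh.fn_smul', slice_smul, map_smul, tmul_smul_left, tmul_smul_right, smul_smul,
    LinearMap.smul_apply]

/-- The coefficients form a subspace. -/
theorem Pr.uc_smul {D : Ea} (hD : UC h M D) (r : F) : UC h M (r • D) := by
  by_cases h2 : (2 : F) = 0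
  · obtain ⟨p, hp⟩ := CharP.exists F
    haveI : CharP F 2 := CharTwo.of_one_ne_zero_of_two_eq_zero one_ne_zero h2
    obtain ⟨s, rfl⟩ : ∃ s, s * s = r := by
      have hs : Function.Surjective fun s : F => s * s := Finite.injective_iff_surjective.1 fun a b hab => by
        have : (a - b) * (a - b) = 0 := by
          linear_combination hab + (b * b - a * b) * h2
        exact sub_eq_zero.1 (mul_self_eq_zero.1 this)
      exact hs r
    exact hP.uc_sq hD s
  · obtain ⟨s, hs⟩ : ∃ s : F, s = (r + 1) / 2 := ⟨_, rfl⟩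
    have e : r • D = (s * s) • D - ((r - 1) / 2 * ((r - 1) / 2)) • D := by
      rw [hs]
      match_scalars
      field_simp
      ring
    rw [e]
    exact hP.uc_sub (hP.uc_sq hD s) (hP.uc_sq hD _)

theorem Pr.uc_zero : UC h M (0 : Ea) := by
  simpa using hP.uc_sub hP.uc_one hP.uc_one

/-- Conjugation by elements of the first factor. -/
theorem Pr.uc_conj {A : GL α F} (hA : k2 A (1 : GL β F) ∈ M) {D : Ea} (hD : UC h M D) :
    UC h M ((Matrix.toLin' (A : Ma)).comp (D.comp (Matrix.toLin' ((A⁻¹ : GL α F) : Ma)))) := fun z => by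
  have h1 := (hD z).conj hA
  rwa [conjL_rM hP.hh A (one_mem _), Units.val_one, Matrix.one_mulVec] at h1

/-- Coefficients are self-adjoint. -/
theorem Pr.uc_adj {D : Ea} (hD : UC h M D) (x y : α → F) : fA (D x) y = fA x (D y) := by
  obtain ⟨z, hz⟩ := hP.exists_ne
  obtain ⟨u, hu, hu'⟩ := hP.hh.partner hz
  obtain ⟨g, hg, hgx⟩ := hD z
  have h1 := hP.iso hg (tmul x u) (tmul y u)
  rw [hgx, hgx, rM_tmul hP.hh, rM_tmul hP.hh, hu, one_smul, one_smul, hP.hV.add_left, hP.hV.add_right,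
    hP.hV.add_right, hP.ten, hP.ten, hP.ten, hP.ten, hP.hh.self, hP.hh.self, hu, hu'] at h1
  linear_combination -h1

/-- A nilpotent coefficient acts on the others. -/
theorem Pr.uc_weyl {E D : Ea} (hE : UC h M E) (hEE : ∀ x, E (E x) = 0) (hD : UC h M D) (s : F) :
    UC h M ((LinearMap.id + s • E).comp (D.comp (LinearMap.id + s • E))) := by
  classical
  have hh := hP.hh
  obtain ⟨v, hv⟩ := hP.exists_ne
  obtain ⟨u, hu, hu'⟩ := hh.partner hv
  obtain ⟨P, hPd⟩ : ∃ P : Ea, P = LinearMap.id + s • E := ⟨_, rfl⟩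
  obtain ⟨C, hCd⟩ : ∃ C : Ea, C = LinearMap.id - s • E := ⟨_, rfl⟩
  have hPC : ∀ x, P (C x) = x := fun x => by simp [hPd, hCd, hEE, map_sub]
  have hCP : ∀ x, C (P x) = x := fun x => by simp [hPd, hCd, hEE, map_add]
  have hPU : UC h M P := hPd ▸ hP.uc_add hP.uc_one (hP.uc_smul hE s)
  have hCU : UC h M C := hCd ▸ hP.uc_sub hP.uc_one (hP.uc_smul hE s)
  -- the Weyl elements
  have weyl : ∀ P C : Ea, (∀ x, P (C x) = x) → (∀ x, C (P x) = x) → UC h M P → UC h M C →
      ∃ w ∈ M, (∀ x, (w : Mn) *ᵥ tmul x v = -tmul (C x) u) ∧ (∀ x, (w : Mn) *ᵥ tmul x u = tmul (P x) v) ∧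
        ∀ x y, h y v = 0 → h y u = 0 → (w : Mn) *ᵥ tmul x y = tmul x y := by
    intro P C hPC hCP hPU hCU
    obtain ⟨a, ha, hax⟩ := hPU v
    obtain ⟨b, hb, hbx⟩ := hCU u
    refine ⟨a * b * a, mul_mem (mul_mem ha hb) ha, fun x => ?_, fun x => ?_, fun x y hyv hyu => ?_⟩ <;>
      simp only [Units.val_mul, ← Matrix.mulVec_mulVec]
    · simp only [hax, hbx, map_add, map_neg, map_smul, rM_tmul hh, hh.self, hu, hu', hPC, hCP, zero_smul,
        smul_zero, neg_one_smul, one_smul, add_zero, zero_add, neg_add_rev, neg_neg]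
      abel
    · simp only [hax, hbx, map_add, map_neg, map_smul, rM_tmul hh, hh.self, hu, hu', hPC, hCP, zero_smul,
        smul_zero, neg_one_smul, one_smul, add_zero, zero_add, neg_add_rev, neg_neg]
      abel
    · simp only [hax, hbx, map_add, rM_tmul hh, hyv, hyu, zero_smul, add_zero, map_zero]
  obtain ⟨w, hw, hwv, hwu, hwy⟩ := weyl P C hPC hCP hPU hCU
  obtain ⟨w₁, hw₁, hw₁v, hw₁u, hw₁y⟩ := weyl LinearMap.id LinearMap.id (fun _ => rfl) (fun _ => rfl) hP.uc_one hP.uc_one
  have hiu : ∀ x, ((w₁⁻¹ : GL (α × β) F) : Mn) *ᵥ tmul x u = -tmul x v := fun x => gl_mulVec_injective w₁ (by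
    show (w₁ : Mn) *ᵥ _ = (w₁ : Mn) *ᵥ _
    rw [mulVec_inv_cancel, Matrix.mulVec_neg, hw₁v, neg_neg, LinearMap.id_apply])
  have hiv : ∀ x, ((w₁⁻¹ : GL (α × β) F) : Mn) *ᵥ tmul x v = tmul x u := fun x => gl_mulVec_injective w₁ (by
    show (w₁ : Mn) *ᵥ _ = (w₁ : Mn) *ᵥ _
    rw [mulVec_inv_cancel, hw₁u, LinearMap.id_apply])
  have hiy : ∀ x y, h y v = 0 → h y u = 0 → ((w₁⁻¹ : GL (α × β) F) : Mn) *ᵥ tmul x y = tmul x y :=
    fun x y hyv hyu => gl_mulVec_injective w₁ (by
      show (w₁ : Mn) *ᵥ _ = (w₁ : Mn) *ᵥ _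
      rw [mulVec_inv_cancel, hw₁y x y hyv hyu])
  obtain ⟨g, hg⟩ : ∃ g, g = w * w₁⁻¹ := ⟨_, rfl⟩
  have hgv : ∀ x, (g : Mn) *ᵥ tmul x v = tmul (P x) v := fun x => by
    rw [hg, Units.val_mul, ← Matrix.mulVec_mulVec, hiv, hwu]
  have hgu : ∀ x, (g : Mn) *ᵥ tmul x u = tmul (C x) u := fun x => by
    rw [hg, Units.val_mul, ← Matrix.mulVec_mulVec, hiu, Matrix.mulVec_neg, hwv, neg_neg]
  have hgy : ∀ x y, h y v = 0 → h y u = 0 → (g : Mn) *ᵥ tmul x y = tmul x y := fun x y hyv hyu => by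
    rw [hg, Units.val_mul, ← Matrix.mulVec_mulVec, hiy x y hyv hyu, hwy x y hyv hyu]
  refine hP.uc_of hv ?_
  have h1 := (hD v).conj (show g ∈ M from hg ▸ mul_mem hw (inv_mem hw₁))
  convert h1 using 1
  refine LinearMap.ext fun t => ?_
  obtain ⟨r, rfl⟩ : ∃ r, (g : Mn) *ᵥ r = t := ⟨_, mulVec_inv_cancel _ t⟩
  rw [conjL_apply, inv_mulVec_cancel]
  refine LinearMap.congr_fun (f := (rM h v ((LinearMap.id + s • E).comp (D.comp (LinearMap.id + s • E)))).comp
    (Matrix.toLin' (g : Mn))) (g := (Matrix.toLin' (g : Mn)).comp (rM h v D))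
    (ext_frame hh hu (fun x => ?_) (fun x => ?_) fun x y hyv hyu => ?_) r
  · simp only [LinearMap.comp_apply, Matrix.toLin'_apply, hgv, rM_tmul hh, hh.self, zero_smul, Matrix.mulVec_zero]
  · simp only [LinearMap.comp_apply, Matrix.toLin'_apply, hgu, rM_tmul hh, hu, one_smul, hgv, ← hPd, hPC]
  · simp only [LinearMap.comp_apply, Matrix.toLin'_apply, hgy x y hyv hyu, rM_tmul hh, hyv, zero_smul,
      Matrix.mulVec_zero]

/-- A nilpotent coefficient anticommutes into the coefficients. -/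
theorem Pr.uc_anti (h2 : (2 : F) ≠ 0) {E D : Ea} (hE : UC h M E) (hEE : ∀ x, E (E x) = 0)
    (hD : UC h M D) : UC h M (E.comp D + D.comp E) := by
  have h1 := hP.uc_smul (hP.uc_sub (hP.uc_weyl hE hEE hD 1) (hP.uc_weyl hE hEE hD (-1))) ((2 : F)⁻¹)
  convert h1 using 1
  refine LinearMap.ext fun x => ?_
  simp only [LinearMap.smul_apply, LinearMap.sub_apply, LinearMap.add_apply, LinearMap.comp_apply, LinearMap.id_apply,
    one_smul, neg_smul, LinearMap.neg_apply, map_add, map_neg]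
  match_scalars <;> field_simp <;> ring

end Cfsg.Agent.Classical.TensorSymp
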