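import Cfsg.Agent.Lib.Classical.TensorPow.Ctx
import Cfsg.Agent.Lib.Classical.TensorPowSymp.Basic
import Cfsg.Agent.Lib.Classical.TensorPowSymp.Two
import Cfsg.Agent.Lib.Classical.TensorPowSymp.Perfect

/-!
An overgroup of the stabiliser of a tensor power of a symplectic space, seen at each factor.
-/

set_option autoImplicit false
set_option linter.unusedSectionVars false
set_option linter.unusedSimpArgs false
set_option linter.style.haveILetI false

open scoped Kronecker commutatorElement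

namespace Cfsg.Agent.Classical.TensorSymp

open Matrix Module MaxTv TensorMax TensorPow Overfield

variable {F : Type*} [Field F] [Fintype F] {κ β : Type} [Fintype κ] [DecidableEq κ] [Fintype β] [DecidableEq β]

local notation "X" => (κ → β)
local notation "V" => ((κ → β) → F)
local notation "Mn" => Matrix (κ → β) (κ → β) F
local notation "Mb" => Matrix β β F

/-- The symplectic group of a factor is perfect. -/
def Big (F : Type*) [Fintype F] (β : Type) [Fintype β] : Prop :=
  5 ≤ Fintype.card β ∨ (3 ≤ Fintype.card β ∧ 3 ≤ Fintype.card F) ∨ 4 ≤ Fintype.card F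

/-- An overgroup of the stabiliser in the isometries. -/
structure Cx (c : F) (h : (β → F) → (β → F) → F) (M : Subgroup (GL (κ → β) F)) : Prop where
  data : SData c h
  le : M ≤ Iso (tf c h)
  mem : Wr F κ β ⊓ GT c h ≤ M
  hb : 2 ≤ Fintype.card β
  ht : 2 ≤ Fintype.card κ
  big : Big F β

variable {c : F} {h : (β → F) → (β → F) → F} {M : Subgroup (GL (κ → β) F)}

/-- The embedding of the other factors. -/
def emb (i : κ) : GL (Rst i → β) F →* GL (κ → β) F where
  toFun A := (sp i).symm (k2 A 1)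
  map_one' := by rw [k2_one, map_one]
  map_mul' A A' := by rw [← map_mul, k2_mul, one_mul]

theorem sp_emb (i : κ) (A : GL (Rst i → β) F) : sp i (emb i A) = k2 A 1 := MulEquiv.apply_symm_apply _ _

theorem eq_emb {i : κ} {g : GL X F} {A : GL (Rst i → β) F} (hg : sp i g = k2 A 1) : g = emb i A :=
  (sp i).injective (hg.trans (sp_emb i A).symm)

theorem nonempty_rst (ht : 2 ≤ Fintype.card κ) (i : κ) : Nonempty (Rst i) := by
  obtain ⟨l, hl⟩ := Fintype.exists_ne_of_one_lt_card (show 1 < Fintype.card κ by omega) i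
  exact ⟨⟨l, hl⟩⟩

theorem card_rst_one (i : κ) : Fintype.card (Rst i) + 1 = Fintype.card κ := by
  rw [Fintype.card_subtype_compl, Fintype.card_subtype_eq]
  have : 0 < Fintype.card κ := Fintype.card_pos_iff.2 ⟨i⟩
  omega

theorem card_rst_two (hb : 2 ≤ Fintype.card β) {i : κ} (ht : 2 ≤ Fintype.card κ) :
    2 ≤ Fintype.card (Rst i → β) := by
  rw [card_rst]
  exact hb.trans (Nat.le_self_pow (by omega) _)

namespace SData

variable (hT : SData c h)
include hT

theorem emb_KT {i : κ} [Nonempty (Rst i)] {A : GL (Rst i → β) F} (hA : A ∈ Iso (tf c h)) :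
    emb i A ∈ KT c h :=
  hT.kron_KT (hT.k2_Iso (one_mul (1 : F)) (fun x x' => by rw [hA, one_mul]) (fun y y' => by simp) (sp_emb i A))
    (sp_emb i A)

theorem emb_GT {i : κ} [Nonempty (Rst i)] {A : GL (Rst i → β) F} (hA : A ∈ GT (κ := Rst i) c h) :
    emb i A ∈ GT c h := by
  have hle : (KT (κ := Rst i) c h).map (emb (F := F) i) ≤ KT c h := by
    rintro _ ⟨B, hB, rfl⟩
    exact hT.emb_KT hB.1
  have h1 := Subgroup.mem_map_of_mem (emb (F := F) i) hA
  rw [GT, Subgroup.map_commutator] at h1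
  exact Subgroup.commutator_mono hle hle h1

theorem pe_KT (i : κ) [Nonempty (Rst i)] {B : GL β F} (hB : B ∈ Iso h) : pe i B ∈ KT c h :=
  hT.kron_KT (hT.k2_Iso (one_mul (1 : F)) (fun x x' => by simp) (fun y y' => by rw [hB, one_mul]) (sp_pe i B))
    (sp_pe i B)

theorem pe_GT (hbig : Big F β) (i : κ) [Nonempty (Rst i)] {B : GL β F} (hB : B ∈ Iso h) : pe i B ∈ GT c h := by
  have hle : (Iso h).map (pe (F := F) i) ≤ KT c h := by
    rintro _ ⟨B, hB, rfl⟩
    exact hT.pe_KT i hB
  have h1 := Subgroup.map_mono (f := pe (F := F) i) (hT.hh.perfect hbig) (Subgroup.mem_map_of_mem _ hB)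
  rw [Subgroup.map_commutator] at h1
  exact Subgroup.commutator_mono hle hle h1

/-- Permutations of the factors. -/
theorem perm_KT [Nonempty κ] (σ : Equiv.Perm κ) : wgl σ (1 : κ → GL β F) ∈ KT c h := by
  classical
  have hs := hT.sesq (κ := κ)
  have hpure : ∀ xs ys : κ → β → F, tf c h ((wgl σ (1 : κ → GL β F) : Mn) *ᵥ ptens xs) ((wgl σ (1 : κ → GL β F) : Mn) *ᵥ ptens ys) =
      tf c h (ptens xs) (ptens ys) := fun xs ys => by
    rw [wgl_mulVec, wgl_mulVec, hT.tf_ptens, hT.tf_ptens]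
    simp only [Pi.one_apply, Units.val_one, Matrix.one_mulVec]
    rw [Equiv.prod_comp σ fun l => h (xs l) (ys l)]
  have hiso : wgl σ (1 : κ → GL β F) ∈ Iso (tf c h) := by
    have h1 : ∀ x ys, tf c h ((wgl σ (1 : κ → GL β F) : Mn) *ᵥ x) ((wgl σ (1 : κ → GL β F) : Mn) *ᵥ ptens ys) = tf c h x (ptens ys) := fun x ys => by
      have := LinearMap.congr_fun (ext_ptens
        (L := (hs.lin ((wgl σ (1 : κ → GL β F) : Mn) *ᵥ ptens ys)).comp (Matrix.toLin' (wgl σ (1 : κ → GL β F) : Mn)))
        (L' := hs.lin (ptens ys)) fun xs => by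
          simp only [LinearMap.comp_apply, Matrix.toLin'_apply, hs.lin_apply, hpure]) x
      simpa only [LinearMap.comp_apply, Matrix.toLin'_apply, hs.lin_apply] using this
    intro x y
    let L : V →ₗ[F] F :=
      { toFun := fun y => tf c h ((wgl σ (1 : κ → GL β F) : Mn) *ᵥ x) ((wgl σ (1 : κ → GL β F) : Mn) *ᵥ y)
        map_add' := fun a b => by simp only [Matrix.mulVec_add, hs.add_right]
        map_smul' := fun r a => by
          simp only [Matrix.mulVec_smul, hs.smul_right, RingEquiv.refl_apply, smul_eq_mul, RingHom.id_apply] }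
    let L' : V →ₗ[F] F :=
      { toFun := fun y => tf c h x y
        map_add' := fun a b => hs.add_right x a b
        map_smul' := fun r a => by simp only [hs.smul_right, RingEquiv.refl_apply, smul_eq_mul, RingHom.id_apply] }
    exact LinearMap.congr_fun (ext_ptens (L := L) (L' := L') fun ys => h1 x ys) y
  refine ⟨hiso, fun h2 => hT.qc_unique h2 (fun x y => ?_) (fun r x => ?_) fun a => ?_⟩
  · rw [Matrix.mulVec_add, hT.qc_add h2, hiso]
  · rw [Matrix.mulVec_smul, hT.qc_smul]
  · have e : (wgl σ (1 : κ → GL β F) : Mn) *ᵥ (Pi.single a 1 : V) = Pi.single (fun l => a (σ l)) 1 := by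
      rw [← ptens_single, ← ptens_single, wgl_mulVec]
      simp only [Pi.one_apply, Units.val_one, Matrix.one_mulVec]
    rw [e, hT.qc_single]

/-- Even permutations of the factors. -/
theorem perm_GT [Nonempty κ] (σ τ : Equiv.Perm κ) : wgl (τ⁻¹ * σ⁻¹ * τ * σ) (1 : κ → GL β F) ∈ GT c h := by
  have h1 := Subgroup.commutator_mem_commutator (hT.perm_KT σ) (hT.perm_KT τ)
  rw [commutatorElement_def, wgl_inv, wgl_inv, wgl_mul, wgl_mul, wgl_mul] at h1
  show wgl (τ⁻¹ * σ⁻¹ * τ * σ) (1 : κ → GL β F) ∈ ⁅KT (κ := κ) c h, KT c h⁆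
  convert h1 using 2
  · group
  · funext l; simp

end SData

namespace Cx

variable (hM : Cx c h M)
include hM

theorem pe_mem (i : κ) {B : GL β F} (hB : B ∈ Iso h) : pe i B ∈ M := by
  haveI := nonempty_rst hM.ht i
  exact hM.mem ⟨TensorPow.pe_mem i B, hM.data.pe_GT hM.big i hB⟩

theorem perm_mem (σ τ : Equiv.Perm κ) : wgl (τ⁻¹ * σ⁻¹ * τ * σ) (1 : κ → GL β F) ∈ M := by
  haveI : Nonempty κ := Fintype.card_pos_iff.1 (by have := hM.ht; omega)
  exact hM.mem ⟨wgl_mem _ _, hM.data.perm_GT σ τ⟩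

/-- The group seen at a factor. -/
theorem pr (i : κ) : Pr ((-1 : F) ^ Fintype.card (Rst i)) (tf (κ := Rst i) c h) h (tfs c h i) (Mi M i) where
  hA := hM.data.sesq
  hh := hM.data.hh
  hV := hM.data.sesq_tfs i
  he := by rw [← pow_add, Even.neg_one_pow ⟨_, rfl⟩]
  symA := hM.data.tf_symm
  symV s t := by
    rw [tfs, tfs, hM.data.tf_symm, ← card_rst_one i, pow_succ]
    ring
  ten := hM.data.tfs_tmul i
  le := by
    rintro _ ⟨g, hg, rfl⟩
    exact (hM.data.sp_Iso i).2 (hM.le hg)
  kB {B} hB := by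
    rw [← sp_pe]
    exact mem_Mi.2 (hM.pe_mem i hB)
  ha := card_rst_two hM.hb hM.ht
  hb := hM.hb

theorem kA_mem {i : κ} (j : Rst i) {B : GL β F} (hB : B ∈ Iso h) : k2 (pe j B) (1 : GL β F) ∈ Mi M i := by
  rw [← sp_pe_ne j.2]
  exact mem_Mi.2 (hM.pe_mem j.1 hB)

end Cx

end Cfsg.Agent.Classical.TensorSymp
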