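import Cfsg.Agent.Lib.Classical.TensorPowSymp.Cx
import Cfsg.Agent.Lib.Classical.TensorPowSymp.Kinds
import Cfsg.Agent.Lib.Classical.MaxOrthSub

/-!
Odd characteristic, an even number of factors: Siegel elements of pure tensors differing at one factor give the
derived group of the orthogonal group of the tensor power.
-/

set_option autoImplicit false
set_option linter.unusedSectionVars false
set_option linter.unusedSimpArgs false
set_option linter.style.haveILetI false

namespace Cfsg.Agent.Classical.TensorSymp

open Matrix Module MaxTv TensorMax TensorPow Overfield OrthAut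
open scoped commutatorElement

variable {F : Type*} [Field F] [Fintype F] {κ β : Type} [Fintype κ] [DecidableEq κ] [Fintype β] [DecidableEq β]

local notation "X" => (κ → β)
local notation "V" => ((κ → β) → F)
local notation "Mn" => Matrix (κ → β) (κ → β) F
local notation "Mb" => Matrix β β F

/-- Multilinearity for a membership. -/
theorem ptens_mem_span {S : Submodule F V} {P : κ → (β → F) → Prop}
    (hS : ∀ xs : κ → β → F, (∀ l, P l (xs l)) → ptens xs ∈ S) (xs : κ → β → F)
    (hx : ∀ l, xs l ∈ Submodule.span F {v | P l v}) : ptens xs ∈ S := by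
  suffices key : ∀ (s : Finset κ) (xs : κ → β → F), (∀ l ∉ s, P l (xs l)) →
      (∀ l, xs l ∈ Submodule.span F {v | P l v}) → ptens xs ∈ S from
    key Finset.univ xs (fun l hl => absurd (Finset.mem_univ l) hl) hx
  intro s
  induction s using Finset.induction_on with
  | empty => exact fun xs hxs _ => hS xs fun l => hxs l (Finset.notMem_empty l)
  | insert a s ha ih =>
    intro xs hxs hx
    let L : (β → F) →ₗ[F] V :=
      { toFun := fun v => ptens (Function.update xs a v)
        map_add' := fun v w => funext fun b => by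
          simp only [ptens_update, Pi.add_apply, add_mul]
        map_smul' := fun r v => funext fun b => by
          simp only [ptens_update, Pi.smul_apply, smul_eq_mul, RingHom.id_apply, mul_assoc] }
    have hle : Submodule.span F {v | P a v} ≤ S.comap L := Submodule.span_le.2 fun v hv => ih _ (fun l hl => by
      by_cases e : l = a
      · subst e; rwa [Function.update_self]
      · rw [Function.update_of_ne e]; exact hxs l (by simp [e, hl])) fun l => by
      by_cases e : l = a
      · subst e; rw [Function.update_self]; exact Submodule.subset_span hv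
      · rw [Function.update_of_ne e]; exact hx l
    have hmem : L (xs a) ∈ S := hle (hx a)
    simpa [L] using hmem

/-- The quadratic form in odd characteristic. -/
noncomputable def q0 {c : F} {h : (β → F) → (β → F) → F} (hT : SData c h) : QuadraticForm F ((κ → β) → F) :=
  (2 : F)⁻¹ • LinearMap.BilinMap.toQuadraticMap
    (LinearMap.mk₂ F (tf c h) (hT.sesq (κ := κ)).add_left
      (fun r x v => by rw [(hT.sesq (κ := κ)).smul_left, smul_eq_mul]) (hT.sesq (κ := κ)).add_right
      (fun r v x => by rw [(hT.sesq (κ := κ)).smul_right, RingEquiv.refl_apply, smul_eq_mul]))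

variable {c : F} {h : (β → F) → (β → F) → F}

theorem q0_apply (hT : SData c h) (x : V) : q0 hT x = (2 : F)⁻¹ * tf c h x x := rfl

theorem q0_polar (hT : SData c h) (h2 : (2 : F) ≠ 0) (hev : Even (Fintype.card κ)) (x y : V) :
    QuadraticMap.polar ⇑(q0 (κ := κ) hT) x y = tf c h x y := by
  rw [QuadraticMap.polar, q0_apply, q0_apply, q0_apply, (hT.sesq (κ := κ)).add_left, (hT.sesq (κ := κ)).add_right,
    (hT.sesq (κ := κ)).add_right, hT.tf_symm x y, hev.neg_one_pow]
  field_simp
  ring

/-- The hypotheses: the pairs differing at one factor. -/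
structure Pairs (c : F) (h : (β → F) → (β → F) → F) (hT : SData c h) (N : Subgroup (GL (κ → β) F)) (m : κ) :
    Prop where
  h2 : (2 : F) ≠ 0
  hev : Even (Fintype.card κ)
  ht : 2 ≤ Fintype.card κ
  hk : (Fintype.card β = 2 ∧ 3 ≤ Fintype.card κ) ∨ 4 ≤ Fintype.card β
  big : 7 ≤ Fintype.card (κ → β)
  le : N ≤ Iso (tf c h)
  perm : ∀ σ τ : Equiv.Perm κ, wgl (τ⁻¹ * σ⁻¹ * τ * σ) (1 : κ → GL β F) ∈ N
  pair : ∀ xs ys : κ → β → F, (∀ l, l ≠ m → xs l = ys l) → (Fintype.card β = 2 ∨ h (xs m) (ys m) = 0) →
    ∃ t ∈ N, (t : Mn) = eMat (q0 hT) (ptens xs) (ptens ys)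

variable {hT : SData c h} {N : Subgroup (GL (κ → β) F)} {m : κ}

theorem Pairs.nonempty (_hP : Pairs c h hT N m) : Nonempty κ := ⟨m⟩

theorem Pairs.iso (hP : Pairs c h hT N m) {g : GL X F} (hg : g ∈ N) (x : V) :
    q0 hT ((g : Mn) *ᵥ x) = q0 hT x := by
  rw [q0_apply, q0_apply, hP.le hg]

theorem Pairs.pure_zero (hP : Pairs c h hT N m) (xs : κ → β → F) : q0 hT (ptens xs) = 0 := by
  rw [q0_apply, hT.tf_ptens, Finset.prod_eq_zero (Finset.mem_univ m) (hT.hh.self _), mul_zero, mul_zero]

variable (hP : Pairs c h hT N m)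
include hP

theorem Pairs.polar_pure (xs ys : κ → β → F) :
    QuadraticMap.polar ⇑(q0 (κ := κ) hT) (ptens xs) (ptens ys) = c * ∏ l, h (xs l) (ys l) := by
  rw [q0_polar hT hP.h2 hP.hev, hT.tf_ptens]

/-- For factors of dimension two, pairs differing at any factor. -/
theorem Pairs.pair_any (hk2 : Fintype.card β = 2) (ht3 : 3 ≤ Fintype.card κ) (l : κ) (xs ys : κ → β → F)
    (hxy : ∀ j, j ≠ l → xs j = ys j) : ∃ t ∈ N, (t : Mn) = eMat (q0 hT) (ptens xs) (ptens ys) := by
  classical
  by_cases hlm : l = m
  · subst hlm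
    exact hP.pair xs ys hxy (Or.inl hk2)
  obtain ⟨d, hd⟩ : ∃ d, d ∉ ({l, m} : Finset κ) := by
    by_contra hcon
    push Not at hcon
    have := Finset.card_le_card (fun x _ => hcon x : (Finset.univ : Finset κ) ⊆ {l, m})
    rw [Finset.card_univ] at this
    have := Finset.card_le_two (a := l) (b := m)
    omega
  simp only [Finset.mem_insert, Finset.mem_singleton, not_or] at hd
  obtain ⟨π, hπ⟩ : ∃ π : Equiv.Perm κ, π = (Equiv.swap m d)⁻¹ * (Equiv.swap l m)⁻¹ * Equiv.swap m d * Equiv.swap l m :=
    ⟨_, rfl⟩
  have hπl : π l = m := by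
    simp [hπ, Equiv.Perm.mul_apply, Equiv.swap_inv, Equiv.swap_apply_of_ne_of_ne, Ne.symm hd.1, Ne.symm hd.2, hd.1, hd.2,
      hlm, Ne.symm hlm]
  obtain ⟨g, hg⟩ : ∃ g, g = wgl π (1 : κ → GL β F) := ⟨_, rfl⟩
  have hgN : g ∈ N := hg ▸ hπ ▸ hP.perm _ _
  have hgx : ∀ zs : κ → β → F, (g : Mn) *ᵥ ptens (zs ∘ π.symm) = ptens zs := fun zs => by
    rw [hg, wgl_mulVec]
    simp
  obtain ⟨t, ht, htx⟩ := hP.pair (xs ∘ π.symm) (ys ∘ π.symm) (fun j hj => hxy _ fun e => hj (by
    rw [← hπl, ← e, Equiv.apply_symm_apply])) (Or.inl hk2)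
  refine ⟨g * t * g⁻¹, mul_mem (mul_mem hgN ht) (inv_mem hgN), Matrix.ext_iff_mulVec.2 fun y => ?_⟩
  obtain ⟨z, rfl⟩ : ∃ z, (g : Mn) *ᵥ z = y := ⟨_, mulVec_inv_cancel g y⟩
  rw [Units.val_mul, Units.val_mul, ← Matrix.mulVec_mulVec, ← Matrix.mulVec_mulVec, inv_mulVec_cancel, htx,
    Matrix.mulVec_mulVec, isometry_eMat (hP.iso hgN), ← Matrix.mulVec_mulVec, hgx, hgx]

/-- Pairs stabilising the vector move its root vectors. -/
theorem Pairs.move {vs bs ps qs : κ → β → F}
    (hb : ptens bs ∈ CR (M := N) (hP.pure_zero vs)) (hpq : ∃ t ∈ N, (t : Mn) = eMat (q0 hT) (ptens ps) (ptens qs))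
    (hpw : ∏ l, h (ps l) (vs l) = 0) (hqw : ∏ l, h (qs l) (vs l) = 0) (hqb : ∏ l, h (qs l) (bs l) = 0)
    (hpb : ∏ l, h (ps l) (bs l) ≠ 0) : ptens qs ∈ CR (M := N) (hP.pure_zero vs) := by
  obtain ⟨g, hg, hgx⟩ := hpq
  have hgy : ∀ y, (g : Mn) *ᵥ y = y + QuadraticMap.polar ⇑(q0 hT) (ptens ps) y • ptens qs -
      QuadraticMap.polar ⇑(q0 hT) (ptens qs) y • ptens ps := fun y => by
    rw [hgx, eMat_mulVec, hP.pure_zero qs, zero_mul, zero_smul, sub_zero]
  have hga : (g : Mn) *ᵥ ptens vs = ptens vs := by
    rw [hgy, hP.polar_pure, hP.polar_pure, hpw, hqw, mul_zero, zero_smul, zero_smul, add_zero, sub_zero]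
  have hgb : (g : Mn) *ᵥ ptens bs ∈ CR (M := N) (hP.pure_zero vs) := by
    refine ⟨?_, fun r => ?_⟩
    · rw [← hga, isometry_polar (hP.iso hg)]; exact hb.1
    · obtain ⟨t, ht, htx⟩ := hb.2 r
      refine ⟨g * t * g⁻¹, mul_mem (mul_mem hg ht) (inv_mem hg), Matrix.ext_iff_mulVec.2 fun y => ?_⟩
      obtain ⟨z, rfl⟩ : ∃ z, (g : Mn) *ᵥ z = y := ⟨_, mulVec_inv_cancel g y⟩
      conv_rhs => rw [← hga]
      rw [Units.val_mul, Units.val_mul, ← Matrix.mulVec_mulVec, ← Matrix.mulVec_mulVec, inv_mulVec_cancel, htx,
        Matrix.mulVec_mulVec, isometry_eMat (hP.iso hg), ← Matrix.mulVec_mulVec, Matrix.mulVec_smul]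
  have h3 := Submodule.sub_mem _ hgb hb
  rw [hgy, hP.polar_pure, hP.polar_pure, hqb, mul_zero, zero_smul, sub_zero, add_sub_cancel_left] at h3
  exact (Submodule.smul_mem_iff _ (mul_ne_zero hT.hc hpb)).1 h3

theorem Pairs.start {vs : κ → β → F} {l : κ} (x : β → F)
    (hsc : ∀ r : F, ∃ t ∈ N, (t : Mn) = eMat (q0 hT) (ptens vs) (ptens (Function.update vs l (r • x)))) :
    ptens (Function.update vs l x) ∈ CR (M := N) (hP.pure_zero vs) := by
  obtain ⟨j, hj⟩ := Fintype.exists_ne_of_one_lt_card (show 1 < Fintype.card κ by have := hP.ht; omega) l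
  refine ⟨?_, fun r => ?_⟩
  · rw [hP.polar_pure, Finset.prod_eq_zero (Finset.mem_univ j) (by rw [Function.update_of_ne hj, hT.hh.self]), mul_zero]
  · obtain ⟨t, ht, htx⟩ := hsc r
    refine ⟨t, ht, ?_⟩
    rw [htx]
    congr 1
    funext a
    simp only [Pi.smul_apply, ptens_update, smul_eq_mul, mul_assoc]

/-- Dimension at least four: pure tensors orthogonal at some factor. -/
theorem Pairs.perp_large (h4 : 4 ≤ Fintype.card β) {vs : κ → β → F} (hvs : ∀ l, vs l ≠ 0) (qs : κ → β → F) {o : κ}
    (ho : h (qs o) (vs o) = 0) : ptens qs ∈ CR (M := N) (hP.pure_zero vs) := by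
  classical
  have hh := hT.hh
  obtain ⟨R, hR⟩ : ∃ R, R = CR (M := N) (hP.pure_zero vs) := ⟨_, rfl⟩
  rw [← hR]
  have hz : ∀ {l : κ} {zs : κ → β → F}, h (zs l) (vs l) = 0 → ∏ j, h (zs j) (vs j) = 0 :=
    fun {l zs} e => Finset.prod_eq_zero (Finset.mem_univ l) e
  have p2 : ∀ a b : β → F, ∃ x, x ≠ 0 ∧ h x a = 0 ∧ h x b = 0 := fun a b => by
    obtain ⟨φ, hφ, ha, hb⟩ := exists_perp2 (show 3 ≤ Fintype.card β by omega) a b
    obtain ⟨x, rfl⟩ := fn_surjective hh.toSesq φ
    rw [fn_dot hh.toSesq] at ha hb
    exact ⟨x, fun e => hφ (by rw [e, fn_zero hh.toSesq]), hh.toSesq.refl _ _ ha, hh.toSesq.refl _ _ hb⟩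
  have hpair : ∀ ps qs' : κ → β → F, (∀ l, l ≠ m → ps l = qs' l) → h (ps m) (qs' m) = 0 →
      ∃ t ∈ N, (t : Mn) = eMat (q0 hT) (ptens ps) (ptens qs') := fun ps qs' e e' => hP.pair ps qs' e (Or.inr e')
  have hb0 : ∀ x, h x (vs m) = 0 → ptens (Function.update vs m x) ∈ R := fun x hx => hR ▸ hP.start x fun r =>
    hpair _ _ (fun l hl => (Function.update_of_ne hl _ _).symm) (by
      rw [Function.update_self, hh.smul_r, hh.toSesq.refl _ _ hx, mul_zero])
  have gen_ne : ∀ v : β → F, v ≠ 0 → ∀ x, x ∈ Submodule.span F {y | h y v ≠ 0} := fun v hv x => by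
    obtain ⟨u, hu, -⟩ := hh.partner hv
    have hu' : u ∈ Submodule.span F {y | h y v ≠ 0} := Submodule.subset_span (by rw [Set.mem_setOf_eq, hu]; exact one_ne_zero)
    by_cases hx : h x v = 0
    · have : x + u ∈ Submodule.span F {y | h y v ≠ 0} := Submodule.subset_span (by
        rw [Set.mem_setOf_eq, hh.add_left, hx, hu, zero_add]; exact one_ne_zero)
      simpa using Submodule.sub_mem _ this hu'
    · exact Submodule.subset_span hx
  -- the value of the vector at the first factor
  have s1 : ∀ zs : κ → β → F, zs m = vs m → ptens zs ∈ R := by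
    intro zs hzm
    refine ptens_mem_span (P := fun l y => if l = m then y = vs m else h y (vs l) ≠ 0) (fun ys hys => ?_) zs fun l => ?_
    · have hym : ys m = vs m := by simpa using hys m
      have hyl : ∀ l, l ≠ m → h (ys l) (vs l) ≠ 0 := fun l hl => by simpa [hl] using hys l
      obtain ⟨e, he0, hev', -⟩ := p2 (vs m) (vs m)
      by_cases hdep : ∀ r : F, e ≠ r • vs m
      swap
      · push Not at hdep
        obtain ⟨u, hu, -⟩ := hh.partner (hvs m)
        obtain ⟨e', he'0, he'v, he'u⟩ := p2 (vs m) u
        have hdep' : ∀ r : F, e' ≠ r • vs m := fun r er => by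
          rw [er, hh.smul_left, hh.skew u, hu, mul_neg, mul_one, neg_eq_zero] at he'u
          exact he'0 (by rw [er, he'u, zero_smul])
        obtain ⟨x, hx, hxv, -, hvx⟩ := hh.exists_sep hdep'
        have k := hP.move (vs := vs) (bs := Function.update vs m e') (ps := Function.update ys m x) (qs := ys)
          (hR ▸ hb0 e' he'v) (hpair _ _ (fun l hl => Function.update_of_ne hl _ _)
            (by rw [Function.update_self, hym, hxv]))
          (hz (l := m) (by rw [Function.update_self, hxv])) (hz (l := m) (by rw [hym, hh.self]))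
          (Finset.prod_eq_zero (Finset.mem_univ m) (by rw [hym, Function.update_self, hh.toSesq.refl _ _ he'v]))
          (Finset.prod_ne_zero_iff.2 fun l _ => by
            by_cases el : l = m
            · subst el; rw [Function.update_self, Function.update_self, hx]; exact one_ne_zero
            · rw [Function.update_of_ne el, Function.update_of_ne el]; exact hyl l el)
        exact hR ▸ k
      obtain ⟨x, hx, hxv, -, hvx⟩ := hh.exists_sep hdep
      have k := hP.move (vs := vs) (bs := Function.update vs m e) (ps := Function.update ys m x) (qs := ys)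
        (hR ▸ hb0 e hev') (hpair _ _ (fun l hl => Function.update_of_ne hl _ _)
          (by rw [Function.update_self, hym, hxv]))
        (hz (l := m) (by rw [Function.update_self, hxv])) (hz (l := m) (by rw [hym, hh.self]))
        (Finset.prod_eq_zero (Finset.mem_univ m) (by rw [hym, Function.update_self, hh.toSesq.refl _ _ hev']))
        (Finset.prod_ne_zero_iff.2 fun l _ => by
          by_cases el : l = m
          · subst el; rw [Function.update_self, Function.update_self, hx]; exact one_ne_zero
          · rw [Function.update_of_ne el, Function.update_of_ne el]; exact hyl l el)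
      exact hR ▸ k
    · by_cases el : l = m
      · subst el
        exact Submodule.subset_span (by simp [hzm])
      · simpa [el] using gen_ne (vs l) (hvs l) (zs l)
  -- orthogonal at two factors
  have s2 : ∀ (zs : κ → β → F) (o : κ), o ≠ m → h (zs m) (vs m) = 0 → h (zs o) (vs o) = 0 → ptens zs ∈ R := by
    intro zs o hom hzm hzo
    by_cases h0 : ∃ l, zs l = 0
    · obtain ⟨l, hl⟩ := h0
      rw [show ptens zs = 0 from funext fun a => Finset.prod_eq_zero (Finset.mem_univ l) (by rw [hl]; rfl)]
      exact R.zero_mem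
    push Not at h0
    by_cases hdep : ∀ r : F, zs m ≠ r • vs m
    swap
    · push Not at hdep
      obtain ⟨r, hr⟩ := hdep
      have := R.smul_mem r (s1 (Function.update zs m (vs m)) (Function.update_self _ _ _))
      convert this using 1
      conv_lhs => rw [← Function.update_eq_self m zs, hr]
      funext a
      simp only [Pi.smul_apply, ptens_update, smul_eq_mul, mul_assoc]
    obtain ⟨x, hx, hxz, -, -⟩ := hh.exists_sep (ne_smul_symm hh (hvs m) hdep)
    have hpart : ∀ l, ∃ y, h y (zs l) = 1 := fun l => let ⟨y, hy, _⟩ := hh.partner (h0 l); ⟨y, hy⟩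
    choose bs hbs using hpart
    have k := hP.move (vs := vs) (bs := Function.update bs m (vs m)) (ps := Function.update zs m x) (qs := zs)
      (hR ▸ s1 _ (Function.update_self _ _ _)) (hpair _ _ (fun l hl => Function.update_of_ne hl _ _)
        (by rw [Function.update_self, hxz]))
      (hz (l := o) (by rw [Function.update_of_ne hom, hzo])) (hz hzm)
      (Finset.prod_eq_zero (Finset.mem_univ m) (by rw [Function.update_self, hzm]))
      (Finset.prod_ne_zero_iff.2 fun l _ => by
        by_cases el : l = m
        · subst el; rw [Function.update_self, Function.update_self, hx]; exact one_ne_zero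
        · rw [Function.update_of_ne el, Function.update_of_ne el, hh.skew, hbs]; simp)
    exact hR ▸ k
  -- orthogonal away from the first factor
  have s3 : ∀ (zs : κ → β → F) (o : κ), o ≠ m → h (zs o) (vs o) = 0 → ptens zs ∈ R := by
    intro zs o hom hzo
    by_cases hzm : h (zs m) (vs m) = 0
    · exact s2 zs o hom hzm hzo
    refine ptens_mem_span (P := fun l y => if l = o then h y (vs o) = 0 ∧ ∀ r : F, y ≠ r • vs o else y = zs l)
      (fun ys hys => ?_) zs fun l => ?_
    · obtain ⟨hyo, hyo'⟩ : h (ys o) (vs o) = 0 ∧ ∀ r : F, ys o ≠ r • vs o := by simpa using hys o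
      have hyl : ∀ l, l ≠ o → ys l = zs l := fun l hl => by simpa [hl] using hys l
      by_cases h0 : ∃ l, ys l = 0
      · obtain ⟨l, hl⟩ := h0
        rw [show ptens ys = 0 from funext fun a => Finset.prod_eq_zero (Finset.mem_univ l) (by rw [hl]; rfl)]
        exact R.zero_mem
      push Not at h0
      obtain ⟨e, he0, hev', hez⟩ := p2 (vs m) (zs m)
      have hez' : ∀ r : F, e ≠ r • zs m := fun r er => by
        rw [er, hh.smul_left, mul_eq_zero] at hev'
        rcases hev' with e1 | e1
        · exact he0 (by rw [er, e1, zero_smul])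
        · exact hzm e1
      obtain ⟨x, hx, hxz, -, -⟩ := hh.exists_sep hez'
      obtain ⟨b, hb, hbv, -, -⟩ := hh.exists_sep hyo'
      have hpart : ∀ l, ∃ y, h y (ys l) = 1 := fun l => let ⟨y, hy, _⟩ := hh.partner (h0 l); ⟨y, hy⟩
      choose bs hbs using hpart
      have k := hP.move (vs := vs) (bs := Function.update (Function.update bs m e) o b)
        (ps := Function.update ys m x) (qs := ys)
        (hR ▸ s2 _ o hom (by rw [Function.update_of_ne (Ne.symm hom), Function.update_self, hev'])
          (by rw [Function.update_self, hbv]))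
        (hpair _ _ (fun l hl => Function.update_of_ne hl _ _) (by rw [Function.update_self, hyl m (Ne.symm hom), hxz]))
        (hz (l := o) (by rw [Function.update_of_ne hom, hyo])) (hz hyo)
        (Finset.prod_eq_zero (Finset.mem_univ m) (by
          rw [Function.update_of_ne (Ne.symm hom), Function.update_self, hyl m (Ne.symm hom), hh.toSesq.refl _ _ hez]))
        (Finset.prod_ne_zero_iff.2 fun l _ => by
          by_cases el : l = m
          · subst el
            rw [Function.update_self, Function.update_of_ne (Ne.symm hom), Function.update_self, hx]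
            exact one_ne_zero
          · rw [Function.update_of_ne el]
            by_cases el' : l = o
            · subst el'; rw [Function.update_self, hh.skew, hb]; simp
            · rw [Function.update_of_ne el', Function.update_of_ne el, hh.skew, hbs]; simp)
      exact hR ▸ k
    · by_cases el : l = o
      · subst el
        simp only [if_true]
        obtain ⟨u, hu, -⟩ := hh.partner (hvs l)
        obtain ⟨e, he0, hev', heu⟩ := p2 (vs l) u
        have hind : ∀ r : F, e ≠ r • vs l := fun r er => by
          rw [er, hh.smul_left, hh.skew u, hu, mul_neg, mul_one, neg_eq_zero] at heu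
          exact he0 (by rw [er, heu, zero_smul])
        by_cases hd : ∀ r : F, zs l ≠ r • vs l
        · exact Submodule.subset_span ⟨hzo, hd⟩
        push Not at hd
        obtain ⟨r, hr⟩ := hd
        have m1 : zs l + e ∈ Submodule.span F {y | h y (vs l) = 0 ∧ ∀ r : F, y ≠ r • vs l} :=
          Submodule.subset_span ⟨by rw [hh.add_left, hzo, hev', add_zero], fun s es => hind (s - r) (by
            rw [sub_smul, ← es, hr, add_sub_cancel_left])⟩
        have m2 : e ∈ Submodule.span F {y | h y (vs l) = 0 ∧ ∀ r : F, y ≠ r • vs l} :=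
          Submodule.subset_span ⟨hev', hind⟩
        simpa using Submodule.sub_mem _ m1 m2
      · exact Submodule.subset_span (by simp [el])
  by_cases hom : o = m
  swap
  · exact s3 qs o hom ho
  subst hom
  by_cases hex : ∃ l, l ≠ o ∧ h (qs l) (vs l) = 0
  · obtain ⟨l, hl, hl'⟩ := hex
    exact s3 qs l hl hl'
  push Not at hex
  by_cases hdep : ∀ r : F, qs o ≠ r • vs o
  swap
  · push Not at hdep
    obtain ⟨r, hr⟩ := hdep
    have := R.smul_mem r (s1 (Function.update qs o (vs o)) (Function.update_self _ _ _))
    convert this using 1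
    conv_lhs => rw [← Function.update_eq_self o qs, hr]
    funext a
    simp only [Pi.smul_apply, ptens_update, smul_eq_mul, mul_assoc]
  obtain ⟨b, hb, hbq, -, -⟩ := hh.exists_sep (ne_smul_symm hh (hvs o) hdep)
  obtain ⟨j, hj⟩ := Fintype.exists_ne_of_one_lt_card (show 1 < Fintype.card κ by have := hP.ht; omega) o
  have k := hP.move (vs := vs) (bs := Function.update vs o b) (ps := Function.update qs o (vs o)) (qs := qs)
    (hR ▸ s3 _ j hj (by rw [Function.update_of_ne hj, hh.self])) (hpair _ _ (fun l hl => Function.update_of_ne hl _ _)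
      (by rw [Function.update_self, hh.toSesq.refl _ _ ho]))
    (hz (l := o) (by rw [Function.update_self, hh.self])) (hz ho)
    (Finset.prod_eq_zero (Finset.mem_univ o) (by rw [Function.update_self, hh.toSesq.refl _ _ hbq]))
    (Finset.prod_ne_zero_iff.2 fun l _ => by
      by_cases el : l = o
      · subst el; rw [Function.update_self, Function.update_self, hh.skew, hb]; simp
      · rw [Function.update_of_ne el, Function.update_of_ne el]; exact hex l el)
  exact hR ▸ k

/-- Dimension two: tensors of basis vectors, not all partners. -/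
theorem Pairs.patterns (hk2 : Fintype.card β = 2) (ht3 : 3 ≤ Fintype.card κ) {vs us : κ → β → F}
    (hu : ∀ l, h (us l) (vs l) = 1) (T : Finset κ) (hT' : T ≠ Finset.univ) :
    ptens (fun l => if l ∈ T then us l else vs l) ∈ CR (M := N) (hP.pure_zero vs) := by
  classical
  have hh := hT.hh
  obtain ⟨pt, hpt⟩ : ∃ pt : Finset κ → κ → β → F, pt = fun T l => if l ∈ T then us l else vs l := ⟨_, rfl⟩
  let G : Finset κ → Prop := fun T => ptens (pt T) ∈ CR (M := N) (hP.pure_zero vs)
  suffices H : ∀ T, T ≠ Finset.univ → G T by simpa [G, hpt] using H T hT'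
  -- complementing and flipping one
  have flip : ∀ (J T : Finset κ) (l : κ), G J → J.Nonempty → T ≠ Finset.univ →
      (∀ x, x ≠ l → (x ∈ T ↔ x ∉ J)) → (l ∈ T ↔ l ∈ J) → G T := by
    intro J T l hJ hne hTu hx hl
    obtain ⟨o, ho⟩ : ∃ o, o ∉ T := by
      by_contra hc
      push Not at hc
      exact hTu (Finset.eq_univ_iff_forall.2 hc)
    obtain ⟨i, hi⟩ := hne
    refine hP.move (vs := vs) (bs := pt J) (ps := fun x => if x ∈ J then vs x else us x) (qs := pt T) hJ
      (hP.pair_any hk2 ht3 l _ _ fun x hxl => by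
        by_cases e : x ∈ J <;> simp [hpt, e, hx x hxl])
      (Finset.prod_eq_zero (Finset.mem_univ i) (by simp [hi, hh.self]))
      (Finset.prod_eq_zero (Finset.mem_univ o) (by simp [hpt, ho, hh.self]))
      (Finset.prod_eq_zero (Finset.mem_univ l) (by
        by_cases e : l ∈ J <;> simp [hpt, e, hl, hh.self]))
      (Finset.prod_ne_zero_iff.2 fun x _ => by
        by_cases e : x ∈ J
        · simp [hpt, e, hh.skew (us x) (vs x), hu]
        · simp [hpt, e, hu])
  have neU : ∀ {T : Finset κ}, T.card < Fintype.card κ → T ≠ Finset.univ := fun {T} h e => by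
    rw [e, Finset.card_univ] at h
    omega
  have one : ∀ a, G {a} := fun a => by
    have k := hP.start (vs := vs) (l := a) (us a) fun r => hP.pair_any hk2 ht3 a _ _
      fun j hj => (Function.update_of_ne hj _ _).symm
    show ptens (pt {a}) ∈ _
    convert k using 2
    funext l
    by_cases e : l = a
    · subst e; simp [hpt]
    · simp [hpt, e]
  have big : ∀ T : Finset κ, T.card + 2 = Fintype.card κ → G T := fun T hT2 => by
    have h2 : Tᶜ.card = 2 := by rw [Finset.card_compl]; omega
    obtain ⟨a, b, hab, hc⟩ := Finset.card_eq_two.1 h2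
    have hm : ∀ x, x ∉ T ↔ x = a ∨ x = b := fun x => by
      rw [← Finset.mem_compl, hc]; simp
    refine flip {a} T b (one a) (Finset.singleton_nonempty a) (neU (by omega)) (fun x hx => ?_) ?_
    · have := hm x
      simp only [Finset.mem_singleton, hx, or_false] at this ⊢
      tauto
    · have := hm b
      simp only [Finset.mem_singleton, Ne.symm hab, iff_false]
      tauto
  have odds : ∀ j (T : Finset κ), T.card = j → Odd j → T ≠ Finset.univ → G T := by
    intro j
    induction j using Nat.strong_induction_on with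
    | _ j ih =>
      intro T hT1 hodd hTu
      by_cases h1 : j = 1
      · obtain ⟨a, rfl⟩ := Finset.card_eq_one.1 (hT1.trans h1)
        exact one a
      obtain ⟨r, hr⟩ := hodd
      obtain ⟨a, ha, b, hb, hab⟩ := Finset.one_lt_card.1 (show 1 < T.card by omega)
      have hcb : b ∈ T.erase a := Finset.mem_erase.2 ⟨Ne.symm hab, hb⟩
      have hc1 : ((T.erase a).erase b).card = j - 2 := by
        rw [Finset.card_erase_of_mem hcb, Finset.card_erase_of_mem ha]; omega
      have k0 := ih (j - 2) (by omega) _ hc1 ⟨r - 1, by omega⟩ (neU (by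
        have := T.card_le_univ
        omega))
      have k1 : G (T.erase a)ᶜ := flip _ _ b k0 (Finset.card_pos.1 (by omega))
        (neU (by
          rw [Finset.card_compl, Finset.card_erase_of_mem ha]
          have := T.card_le_univ
          omega))
        (fun x hx => by simp only [Finset.mem_compl, Finset.mem_erase]; tauto)
        (by simp only [Finset.mem_compl, Finset.mem_erase]; tauto)
      exact flip _ _ a k1 ⟨a, by simp⟩ hTu (fun x hx => by simp only [Finset.mem_compl, Finset.mem_erase]; tauto)
        (by simp only [Finset.mem_compl, Finset.mem_erase]; tauto)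
  have evens : ∀ d (T : Finset κ), T.card + d = Fintype.card κ → Even d → 2 ≤ d → G T := by
    intro d
    induction d using Nat.strong_induction_on with
    | _ d ih =>
      intro T hT1 hev h2
      by_cases hd : d = 2
      · exact big T (by omega)
      obtain ⟨r, hr⟩ := hev
      obtain ⟨x, hx, y, hy, hxy⟩ := Finset.one_lt_card.1 (show 1 < Tᶜ.card by rw [Finset.card_compl]; omega)
      rw [Finset.mem_compl] at hx hy
      have hc1 : (insert x (insert y T)).card = T.card + 2 := by
        rw [Finset.card_insert_of_notMem (by simp [hx, hxy]), Finset.card_insert_of_notMem hy]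
      have k0 := ih (d - 2) (by omega) (insert x (insert y T)) (by omega) ⟨r - 1, by omega⟩ (by omega)
      have k1 : G (insert y T)ᶜ := flip _ _ x k0 ⟨x, by simp⟩
        (neU (by rw [Finset.card_compl, Finset.card_insert_of_notMem hy]; omega))
        (fun z hz => by simp only [Finset.mem_compl, Finset.mem_insert]; tauto)
        (by simp only [Finset.mem_compl, Finset.mem_insert]; tauto)
      refine flip _ _ y k1 (Finset.card_pos.1 (by
          rw [Finset.card_compl, Finset.card_insert_of_notMem hy]; omega)) (neU (by omega))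
        (fun z hz => by simp only [Finset.mem_compl, Finset.mem_insert]; tauto)
        (by simp only [Finset.mem_compl, Finset.mem_insert]; tauto)
  intro T hTu
  have hlt : T.card < Fintype.card κ := lt_of_le_of_ne T.card_le_univ fun e => hTu (Finset.eq_univ_of_card T e)
  rcases Nat.even_or_odd T.card with he | ho
  · obtain ⟨r, hr⟩ := he
    obtain ⟨u, hu'⟩ := hP.hev
    exact evens (Fintype.card κ - T.card) T (by omega) ⟨u - r, by omega⟩ (by omega)
  · exact odds _ T rfl ho hTu

/-- Pure tensors orthogonal at some factor. -/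
theorem Pairs.perp {vs : κ → β → F} (hvs : ∀ l, vs l ≠ 0) (qs : κ → β → F) {o : κ}
    (ho : h (qs o) (vs o) = 0) : ptens qs ∈ CR (M := N) (hP.pure_zero vs) := by
  classical
  rcases hP.hk with ⟨hk2, ht3⟩ | h4
  swap
  · exact hP.perp_large h4 hvs qs ho
  have hh := hT.hh
  choose us hu _hu' using fun l => hh.partner (hvs l)
  have hdim : ∀ l x, x = h x (vs l) • us l - h x (us l) • vs l := fun l x => by
    have hvu : h (vs l) (us l) = -1 := by rw [hh.skew, hu]
    obtain ⟨y, hy⟩ : ∃ y, y = x - (h x (vs l) • us l - h x (us l) • vs l) := ⟨_, rfl⟩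
    have e1 : h y (vs l) = 0 := by
      rw [hy, hh.toSesq.sub_left, hh.toSesq.sub_left, hh.smul_left, hh.smul_left, hu, hh.self]; ring
    have e2 : h y (us l) = 0 := by
      rw [hy, hh.toSesq.sub_left, hh.toSesq.sub_left, hh.smul_left, hh.smul_left, hvu, hh.self]; ring
    by_contra hne
    have hy0 : y ≠ 0 := fun e => hne (sub_eq_zero.1 (hy ▸ e))
    have hind : ∀ r : F, vs l ≠ r • y := fun r er => by
      have := hu l
      rw [er, hh.smul_r, hh.toSesq.refl _ _ e2, mul_zero] at this
      exact zero_ne_one this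
    have := three_le_of_pair hh hy0 hind e1
    omega
  refine ptens_mem_span (P := fun l y => if l = o then y = vs o else y = vs l ∨ y = us l) (fun ys hys => ?_) qs
    fun l => ?_
  · have hyo : ys o = vs o := by simpa using hys o
    have e : ys = fun l => if l ∈ Finset.univ.filter (fun l => ys l ≠ vs l) then us l else vs l := funext fun l => by
      by_cases el : ys l = vs l
      · simp [el]
      · have := hys l
        by_cases elo : l = o
        · subst elo; exact absurd hyo el
        · simp only [if_neg elo] at this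
          simp [el, this.resolve_left el]
    rw [e]
    exact hP.patterns hk2 ht3 hu _ fun eu => by
      have := eu ▸ Finset.mem_univ o
      simp [hyo] at this
  · by_cases el : l = o
    · subst el
      rw [hdim l (qs l), ho, zero_smul, zero_sub]
      exact neg_mem (Submodule.smul_mem _ _ (Submodule.subset_span (by simp)))
    · simp only [el, if_false]
      rw [hdim l (qs l)]
      exact Submodule.sub_mem _ (Submodule.smul_mem _ _ (Submodule.subset_span (Or.inr rfl)))
        (Submodule.smul_mem _ _ (Submodule.subset_span (Or.inl rfl)))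

/-- All Siegel elements at pure tensors. -/
theorem Pairs.full_pure {vs : κ → β → F} (hvs : ∀ l, vs l ≠ 0) : MaxTv.Full (q0 hT) N (ptens vs) := by
  classical
  have hh := hT.hh
  obtain ⟨R, hR⟩ : ∃ R, R = CR (M := N) (hP.pure_zero vs) := ⟨_, rfl⟩
  choose us hu _hu' using fun l => hh.partner (hvs l)
  have hs := hT.sesq (κ := κ)
  have hc := hT.hc
  let Φ : V →ₗ[F] V := LinearMap.id - (c⁻¹ • hs.lin (ptens vs)).smulRight (ptens us)
  have hΦ : ∀ t, Φ t = t - (c⁻¹ * tf c h t (ptens vs)) • ptens us := fun t => rfl
  have hall : ∀ t, Φ t ∈ R := fun t => by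
    rw [← Finset.univ_sum_single t, map_sum]
    refine R.sum_mem fun a _ => ?_
    rw [show (Pi.single a (t a) : V) = t a • Pi.single a 1 by rw [← Pi.single_smul, smul_eq_mul, mul_one], map_smul,
      ← ptens_single]
    refine R.smul_mem _ ?_
    obtain ⟨xs, hxs⟩ : ∃ xs : κ → β → F, xs = fun l => Pi.single (a l) 1 := ⟨_, rfl⟩
    rw [← hxs, hΦ, hT.tf_ptens, inv_mul_cancel_left₀ hc]
    obtain ⟨α, hα⟩ : ∃ α : κ → F, α = fun l => h (xs l) (vs l) := ⟨_, rfl⟩
    have e : (∏ l, h (xs l) (vs l)) • ptens us = ptens fun l => α l • us l := funext fun b => by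
      simp only [ptens, Pi.smul_apply, smul_eq_mul, Finset.prod_mul_distrib, hα]
    rw [e]
    have key : ∀ s : Finset κ, ptens xs - ptens (fun l => if l ∈ s then α l • us l else xs l) ∈ R := by
      intro s
      induction s using Finset.induction_on with
      | empty => simp
      | insert a s ha ih =>
        obtain ⟨zs, hzs⟩ : ∃ zs, zs = fun l => if l ∈ s then α l • us l else xs l := ⟨_, rfl⟩
        rw [← hzs] at ih
        have e1 : (fun l => if l ∈ insert a s then α l • us l else xs l) = Function.update zs a (α a • us a) :=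
          funext fun l => by
            by_cases el : l = a
            · subst el; simp
            · simp [el, hzs]
        have e2 : ptens zs - ptens (Function.update zs a (α a • us a)) =
            ptens (Function.update zs a (xs a - α a • us a)) := funext fun b => by
          conv_lhs => arg 1; rw [← Function.update_eq_self a zs]
          rw [Pi.sub_apply, ptens_update, ptens_update, ptens_update, show zs a = xs a by simp [hzs, ha],
            Pi.sub_apply, sub_mul]
        have h1 : ptens (Function.update zs a (xs a - α a • us a)) ∈ R := hR ▸ hP.perp hvs _ (o := a) (by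
          rw [Function.update_self, hh.toSesq.sub_left, hh.smul_left, hu, mul_one, hα, sub_self])
        rw [← e2] at h1
        rw [e1]
        simpa using R.add_mem ih h1
    simpa using key Finset.univ
  intro b hb
  have hb' : tf c h b (ptens vs) = 0 := by
    rw [← q0_polar hT hP.h2 hP.hev, QuadraticMap.polar_comm]; exact hb
  have k := hall b
  rw [hΦ, hb', mul_zero, zero_smul, sub_zero, hR] at k
  obtain ⟨t, ht, htx⟩ := k.2 1
  exact ⟨t, ht, by rw [htx, one_smul]⟩

/-- The whole derived group. -/
theorem Pairs.gt_le : GT (κ := κ) c h ≤ N := by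
  classical
  have hs := hT.sesq (κ := κ)
  have hpol := q0_polar (κ := κ) hT hP.h2 hP.hev
  have hiso : ∀ k ∈ N, ∀ w, q0 hT ((k : Mn) *ᵥ w) = q0 hT w := fun k hk w => hP.iso hk w
  have hnd : (QuadraticMap.polarBilin (q0 (κ := κ) hT)).Nondegenerate := by
    refine ⟨fun x hx => hs.eq_zero x fun y => ?_, fun x hx => hs.eq_zero x fun y => ?_⟩
    · have := hx y
      rw [QuadraticMap.polarBilin_apply_apply, hpol] at this
      exact hs.refl _ _ this
    · have := hx y
      rwa [QuadraticMap.polarBilin_apply_apply, hpol] at this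
  have htri : Tri (q0 (κ := κ) hT) := MaxTv.tri_of_ndQ hnd (W := ⊤) (fun w _ hw => by
    by_contra hcon
    push Not at hcon
    exact hw (hnd.1 w fun x => hcon x Submodule.mem_top)) (by
    rw [finrank_top, finrank_pi]
    exact hP.big)
  have hΩ : Geo.omegaGL ⇑(q0 (κ := κ) hT) ≤ N := by
    refine omegaGL_le_of_roots hnd htri fun a b hab => ?_
    suffices hFa : MaxTv.Full (q0 hT) N a from hFa b hab.2.2.1
    have ha : q0 hT a = 0 := hab.1
    rcases eq_or_ne a 0 with rfl | ha0
    · exact MaxTv.full_zero
    obtain ⟨e, he⟩ : ∃ e : X, tf c h (Pi.single e 1) a ≠ 0 := by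
      by_contra hcon
      push Not at hcon
      refine ha0 (hs.eq_zero a fun w => ?_)
      rw [← hs.lin_apply a w, ← Finset.univ_sum_single w, map_sum]
      refine Finset.sum_eq_zero fun e _ => ?_
      rw [show (Pi.single e (w e) : V) = w e • Pi.single e 1 by rw [← Pi.single_smul, smul_eq_mul, mul_one], map_smul,
        hs.lin_apply, hcon, smul_zero]
    obtain ⟨vs, hvs⟩ : ∃ vs : κ → β → F, vs = fun l => Pi.single (e l) 1 := ⟨_, rfl⟩
    have hev : ptens vs = Pi.single e 1 := hvs ▸ ptens_single e
    have hvs0 : ∀ l, vs l ≠ 0 := fun l => by simp [hvs]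
    choose us hu hu' using fun l => hT.hh.partner (hvs0 l)
    obtain ⟨σ₀, hσ⟩ : ∃ σ₀, σ₀ = QuadraticMap.polar ⇑(q0 hT) (ptens vs) a := ⟨_, rfl⟩
    have hσ0 : σ₀ ≠ 0 := by rw [hσ, hpol, hev]; exact he
    have hp0 : QuadraticMap.polar ⇑(q0 (κ := κ) hT) (ptens vs) (ptens us) = c := by
      rw [hP.polar_pure, Finset.prod_congr rfl fun l _ => hu' l, Finset.prod_const, Finset.card_univ,
        hP.hev.neg_one_pow, mul_one]
    obtain ⟨c', hc'⟩ : ∃ c', c' = (σ₀ * c⁻¹) • ptens us := ⟨_, rfl⟩
    have hcc : QuadraticMap.polar ⇑(q0 hT) (ptens vs) c' = σ₀ := by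
      rw [hc', QuadraticMap.polar_smul_right, hp0, smul_eq_mul, mul_assoc, inv_mul_cancel₀ hT.hc, mul_one]
    have hQc : q0 hT c' = 0 := by rw [hc', QuadraticMap.map_smul, hP.pure_zero, smul_zero]
    obtain ⟨k, hk, hkx⟩ := hP.full_pure hvs0 (σ₀⁻¹ • (c' - a))
      (by rw [QuadraticMap.polar_smul_right, QuadraticMap.polar_sub_right, hcc, ← hσ, sub_self, smul_zero])
    have hks : (k : Mn) *ᵥ a = c' := by
      rw [hkx, eMat_mulVec, ← hσ, smul_smul, mul_inv_cancel₀ hσ0, one_smul, QuadraticMap.polar_smul_left,
        QuadraticMap.polar_sub_left, QuadraticMap.map_smul, show c' - a = c' + (-1 : F) • a by module,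
        QuadraticMap.map_add ⇑(q0 hT), QuadraticMap.map_smul, hQc, ha, QuadraticMap.polar_smul_right,
        show QuadraticMap.polar ⇑(q0 hT) a a = 0 by rw [QuadraticMap.polar_self, ha, smul_zero]]
      match_scalars
      all_goals first
        | linear_combination (0 : F)
        | linear_combination (QuadraticMap.polar (⇑(q0 hT)) c' a * σ₀⁻¹) * mul_inv_cancel₀ hσ0
        | (field_simp; ring)
    have hfull : MaxTv.Full (q0 hT) N c' := by
      obtain ⟨j, hj⟩ : ∃ j : κ, True := ⟨m, trivial⟩
      have : c' = ptens (Function.update us j ((σ₀ * c⁻¹) • us j)) := funext fun b => by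
        rw [hc', ptens_update, Pi.smul_apply, Pi.smul_apply, smul_eq_mul, smul_eq_mul, mul_assoc, ptens,
          ← Finset.mul_prod_erase _ _ (Finset.mem_univ j)]
        ring
      rw [this]
      refine hP.full_pure fun l => ?_
      have hu0 : us l ≠ 0 := fun e => one_ne_zero (by rw [← hu l, e, hT.hh.toSesq.zero_left])
      by_cases el : l = j
      · subst el; rw [Function.update_self]; exact smul_ne_zero (mul_ne_zero hσ0 (inv_ne_zero hT.hc)) hu0
      · rw [Function.update_of_ne el]; exact hu0
    have := MaxTv.full_map hiso hfull (inv_mem hk)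
    rwa [← hks, inv_mulVec_cancel] at this
  refine le_trans ?_ hΩ
  have e : (Cfsg.isometryGroup F ⇑(q0 (κ := κ) hT)) = Iso (tf (κ := κ) c h) := by
    ext g
    rw [mem_isometryGroup, mem_Iso]
    refine ⟨fun hg x y => ?_, fun hg x => by rw [q0_apply, q0_apply, hg]⟩
    rw [← hpol, ← hpol, isometry_polar hg]
  rw [Geo.omegaGL, show (Omega F ⇑(q0 (κ := κ) hT)) = commutator _ from rfl, commutator_def,
    Subgroup.map_commutator, ← MonoidHom.range_eq_map, Subgroup.range_subtype, e]
  exact Subgroup.commutator_mono (fun g hg => hg.1) fun g hg => hg.1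

end Cfsg.Agent.Classical.TensorSymp
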