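import Cfsg.Agent.Lib.Classical.TensorPowSymp.Algebra

/-!
A tensor power of a symplectic space in odd characteristic is irreducible under the factor groups, and spaces of
skew maps invariant under them with scalar anticommutators vanish.
-/

set_option autoImplicit false
set_option linter.unusedSectionVars false
set_option linter.unusedSimpArgs false
set_option linter.style.haveILetI false

namespace Cfsg.Agent.Classical.TensorSymp

open Matrix Module MaxTv TensorMax TensorPow

variable {F : Type*} [Field F] [Fintype F] {κ β : Type} [Fintype κ] [DecidableEq κ] [Fintype β] [DecidableEq β]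

local notation "V" => ((κ → β) → F)
local notation "Mn" => Matrix (κ → β) (κ → β) F
local notation "Mb" => Matrix β β F

theorem mem_of_pures (S : Submodule F V) (hS : ∀ xs : κ → β → F, ptens xs ∈ S) (x : V) : x ∈ S := by
  rw [← Finset.univ_sum_single x]
  refine S.sum_mem fun a _ => ?_
  rw [show (Pi.single a (x a) : V) = x a • Pi.single a 1 by rw [← Pi.single_smul, smul_eq_mul, mul_one],
    ← ptens_single]
  exact S.smul_mem _ (hS _)

theorem et_ptens (j : κ) (A : Mb) (xs : κ → β → F) :
    et j A *ᵥ ptens xs = ptens (Function.update xs j (A *ᵥ xs j)) := by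
  rw [et, wm_mulVec]
  congr 1
  funext l
  by_cases e : l = j
  · subst e; simp
  · simp [e]

variable {c : F} {h : (β → F) → (β → F) → F} (hT : SData c h)
include hT

/-- Pairing with a pure tensor. -/
theorem SData.exists_pure_ne {a : V} (ha : a ≠ 0) : ∃ us : κ → β → F, tf c h a (ptens us) ≠ 0 := by
  by_contra hc
  push Not at hc
  have hs := hT.sesq (κ := κ)
  let L : V →ₗ[F] F :=
    { toFun := fun y => tf c h a y
      map_add' := fun x y => hs.add_right a x y
      map_smul' := fun r x => by simp only [hs.smul_right, RingEquiv.refl_apply, smul_eq_mul, RingHom.id_apply] }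
  have hL : L = 0 := ext_ptens fun us => hc us
  exact ha (hs.eq_zero a fun w => hs.refl _ _ (LinearMap.congr_fun hL w))

/-- A subspace invariant under the factor groups is everything. -/
theorem SData.irred {K : Submodule F V}
    (hK : ∀ (j : κ) (E : GL β F), E ∈ Iso h → ∀ x ∈ K, et j (E : Mb) *ᵥ x ∈ K) {x : V} (hx : x ∈ K) (hx0 : x ≠ 0) :
    ∀ y, y ∈ K := by
  classical
  have hh := hT.hh
  have hN : ∀ (j : κ) (u : β → F), ∀ x ∈ K, et j (vN h u) *ᵥ x ∈ K := fun j u x hx => by
    obtain ⟨E, hE, e1, -, -⟩ := hh.exists_tv u 1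
    have h1 := hK j E hE x hx
    rw [e1, one_smul, et_add, et_one, Matrix.add_mulVec, Matrix.one_mulVec] at h1
    simpa using K.sub_mem h1 hx
  have hprod : ∀ (us : κ → β → F) (s : Finset κ), ∀ x ∈ K,
      wm (1 : Equiv.Perm κ) (fun l => if l ∈ s then vN h (us l) else 1) *ᵥ x ∈ K := fun us s => by
    induction s using Finset.induction_on with
    | empty =>
      intro x hx
      simpa [wm_one] using hx
    | insert a s ha ih =>
      intro x hx
      have e : (fun l => if l ∈ insert a s then vN h (us l) else 1) =
          Function.update (fun l => if l ∈ s then vN h (us l) else (1 : Mb)) a (vN h (us a)) := funext fun l => by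
        by_cases el : l = a
        · subst el; simp
        · simp [el]
      have e2 : Function.update (fun l => if l ∈ s then vN h (us l) else (1 : Mb)) a 1 =
          fun l => if l ∈ s then vN h (us l) else 1 := funext fun l => by
        by_cases el : l = a
        · subst el; simp [ha]
        · simp [el]
      rw [e, wm_split, e2, ← Matrix.mulVec_mulVec]
      exact ih _ (hN a _ x hx)
  have hone : ∀ (us : κ → β → F), ∀ x ∈ K, tf c h x (ptens us) • ptens us ∈ K := fun us x hx => by
    have h1 := K.smul_mem c (hprod us Finset.univ x hx)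
    convert h1 using 1
    refine LinearMap.congr_fun (f := ((hT.sesq (κ := κ)).lin (ptens us)).smulRight (ptens us))
      (g := c • Matrix.toLin' (wm 1 fun l => if l ∈ Finset.univ then vN h (us l) else (1 : Mb))) (ext_ptens fun ws => ?_) x
    rw [LinearMap.smulRight_apply, LinearMap.smul_apply, Matrix.toLin'_apply, wm_mulVec, (hT.sesq (κ := κ)).lin_apply,
      hT.tf_ptens, mul_smul]
    congr 1
    funext b
    simp [ptens, vN_mulVec hh, Finset.prod_mul_distrib]
  have hpure : ∀ us, tf c h x (ptens us) ≠ 0 → ptens us ∈ K := fun us hu => by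
    simpa [smul_smul, inv_mul_cancel₀ hu] using K.smul_mem (tf c h x (ptens us))⁻¹ (hone us x hx)
  obtain ⟨us, hus⟩ := hT.exists_pure_ne hx0
  have hU := hpure us hus
  have hus0 : ∀ l, us l ≠ 0 := fun l e => hus (by
    rw [show ptens us = 0 from funext fun b => Finset.prod_eq_zero (Finset.mem_univ l) (by rw [e]; rfl),
      (hT.sesq (κ := κ)).zero_right])
  refine mem_of_pures K fun vs => ?_
  by_cases h0 : ∃ l, vs l = 0
  · obtain ⟨l, hl⟩ := h0
    rw [show ptens vs = 0 from funext fun b => Finset.prod_eq_zero (Finset.mem_univ l) (by rw [hl]; rfl)]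
    exact K.zero_mem
  push Not at h0
  have hsep : ∀ l, ∃ w, h (us l) w ≠ 0 ∧ h w (vs l) ≠ 0 := fun l => by
    obtain ⟨a, ha, ha'⟩ := hh.partner (hus0 l)
    obtain ⟨b, hb, hb'⟩ := hh.partner (h0 l)
    by_cases h1 : h a (vs l) = 0
    · by_cases h2 : h (us l) b = 0
      · exact ⟨a + b, by rw [hh.add_right, ha', h2, add_zero]; simp,
          by rw [hh.add_left, h1, hb, zero_add]; exact one_ne_zero⟩
      · exact ⟨b, h2, by rw [hb]; exact one_ne_zero⟩
    · exact ⟨a, by rw [ha']; simp, h1⟩
  choose ws hws hws' using hsep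
  have step : ∀ as bs : κ → β → F, ptens as ∈ K → (∀ l, h (as l) (bs l) ≠ 0) → ptens bs ∈ K := fun as bs hA hne => by
    have hne' : tf c h (ptens as) (ptens bs) ≠ 0 := by
      rw [hT.tf_ptens]
      exact mul_ne_zero hT.hc (Finset.prod_ne_zero_iff.2 fun l _ => hne l)
    simpa [smul_smul, inv_mul_cancel₀ hne'] using K.smul_mem (tf c h (ptens as) (ptens bs))⁻¹ (hone bs _ hA)
  exact step ws vs (step us ws hU hws) hws'

/-- Skew families with scalar anticommutators vanish. -/
theorem SData.skew_kill (h2 : (2 : F) ≠ 0) (h4 : 4 ≤ Fintype.card β) {P : Matrix (κ → β) (κ → β) F → Prop}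
    (padd : ∀ {R S}, P R → P S → P (R + S)) (psmul : ∀ {R} (r : F), P R → P (r • R))
    (pconj : ∀ {R} (j : κ) (E : GL β F), E ∈ Iso h → P R →
      P (et j (E : Matrix β β F) * R * et j ((E⁻¹ : GL β F) : Matrix β β F)))
    (pskew : ∀ {R}, P R → ∀ x y, tf c h (R *ᵥ x) y = -tf c h x (R *ᵥ y))
    (panti : ∀ {R S}, P R → P S → ∃ r : F, ∀ x, R *ᵥ (S *ᵥ x) + S *ᵥ (R *ᵥ x) = r • x)
    {R : Mn} (hR : P R) : R = 0 := by
  classical
  have hh := hT.hh
  have hs := hT.sesq (κ := κ)
  -- sandwiches
  have sand : ∀ {R : Mn}, P R → ∀ (j : κ) (u : β → F), P (et j (vN h u) * R * et j (vN h u)) := by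
    intro R hR j u
    obtain ⟨E, hE, e1, e2, -⟩ := hh.exists_tv u 1
    obtain ⟨E', hE', e1', e2', -⟩ := hh.exists_tv u (-1)
    have k1 := pconj j E hE hR
    have k2 := pconj j E' hE' hR
    rw [e1, e2, one_smul, sub_eq_add_neg, ← neg_one_smul F (vN h u), et_add, et_add, et_smul, et_one] at k1
    rw [e1', e2', neg_one_smul, sub_neg_eq_add, ← neg_one_smul F (vN h u), et_add, et_add, et_smul, et_one] at k2
    have := psmul (-(2 : F)⁻¹) (padd (padd k1 k2) (psmul (-1) (padd hR hR)))
    convert this using 1
    simp only [add_mul, mul_add, one_mul, mul_one, Matrix.mul_smul, Matrix.smul_mul, smul_add, smul_smul]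
    match_scalars <;> field_simp [h2] <;> ring
  have hN0 : ∀ {R : Mn}, P R → ∀ (j : κ) (u : β → F), et j (vN h u) * R * et j (vN h u) = 0 := by
    intro R hR j u
    by_contra hT0
    obtain ⟨N, hN⟩ : ∃ N, N = et (κ := κ) j (vN h u) := ⟨_, rfl⟩
    rw [← hN] at hT0
    have hTP : P (N * R * N) := hN ▸ sand hR j u
    let Z : Mn → Prop := fun T => P T ∧ ∀ S, P S → ∀ x, T *ᵥ (S *ᵥ x) + S *ᵥ (T *ᵥ x) = 0
    have hTZ : Z (N * R * N) := by
      refine ⟨hTP, fun S hS x => ?_⟩
      obtain ⟨r, hr⟩ := panti hTP hS
      rw [hr]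
      suffices hr0 : r = 0 by rw [hr0, zero_smul]
      by_contra hr0
      have hle : (⊤ : Submodule F V) ≤ line j u ⊔ (line j u).map (Matrix.toLin' S) := fun y _ => by
        have hNin : ∀ t, N *ᵥ t ∈ line j u := fun t =>
          mem_of_pures (Submodule.comap (Matrix.toLin' N) (line j u)) (fun xs => by
            rw [Submodule.mem_comap, Matrix.toLin'_apply, hN, et_ptens, vN_mulVec hh,
              show ptens (Function.update xs j (h (xs j) u • u)) = h (xs j) u • ptens (Function.update xs j u) from
                funext fun b => by simp only [ptens_update, Pi.smul_apply, smul_eq_mul, mul_assoc]]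
            exact Submodule.smul_mem _ _ (ptens_mem_line xs)) t
        have h1 := hr (r⁻¹ • y)
        rw [smul_smul, mul_inv_cancel₀ hr0, one_smul] at h1
        rw [← h1]
        refine Submodule.add_mem_sup ?_ ⟨_, ?_, Matrix.toLin'_apply S _⟩ <;>
          rw [← Matrix.mulVec_mulVec, ← Matrix.mulVec_mulVec] <;> exact hNin _
      rcases eq_or_ne u 0 with rfl | hu
      · exact hT0 (by rw [hN, show vN h (0 : β → F) = 0 by simp [vN], ← zero_smul F (0 : Mb), et_smul, zero_smul, zero_mul, mul_zero])
      have h5 := Submodule.finrank_mono hle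
      have h6 := Submodule.finrank_add_le_finrank_add_finrank (line (κ := κ) j u) ((line j u).map (Matrix.toLin' S))
      have h7 := Submodule.finrank_map_le (Matrix.toLin' S) (line (κ := κ) j u)
      rw [finrank_top, Module.finrank_fintype_fun_eq_card] at h5
      rw [finrank_line j hu] at h6 h7
      have hcard : Fintype.card (κ → β) = Fintype.card β * Fintype.card (Rst j → β) := by
        rw [Fintype.card_congr (spE j), Fintype.card_prod, mul_comm]
      have hpos : 0 < Fintype.card (Rst j → β) := by
        haveI : Nonempty β := Fintype.card_pos_iff.1 (by omega)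
        exact Fintype.card_pos
      nlinarith
    obtain ⟨x, hx0, hx⟩ : ∃ x : V, x ≠ 0 ∧ ∀ T, Z T → T *ᵥ x = 0 := by
      suffices H : ∀ s : Finset Mn, (∀ T ∈ s, Z T) → ∃ x : V, x ≠ 0 ∧ ∀ T ∈ s, T *ᵥ x = 0 by
        obtain ⟨x, hx0, hx⟩ := H (Finset.univ.filter Z) (fun T hT => (Finset.mem_filter.1 hT).2)
        exact ⟨x, hx0, fun T hT => hx T (Finset.mem_filter.2 ⟨Finset.mem_univ T, hT⟩)⟩
      intro s
      induction s using Finset.induction_on with
      | empty =>
        intro _
        obtain ⟨b⟩ : Nonempty β := Fintype.card_pos_iff.1 (by omega)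
        exact ⟨Pi.single (fun _ => b) 1, by simp, by simp⟩
      | insert T s hTs ih =>
        intro hs'
        obtain ⟨x, hx0, hx⟩ := ih fun T' hT' => hs' T' (Finset.mem_insert_of_mem hT')
        obtain ⟨hTP', hTanti⟩ := hs' T (Finset.mem_insert_self _ _)
        by_cases hTx : T *ᵥ x = 0
        · exact ⟨x, hx0, fun T' hT' => (Finset.mem_insert.1 hT').elim (fun e => e ▸ hTx) (hx T')⟩
        · refine ⟨T *ᵥ x, hTx, fun T' hT' => ?_⟩
          rcases Finset.mem_insert.1 hT' with rfl | h'
          · have := hTanti T' hTP' x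
            rw [← two_smul F, smul_eq_zero] at this
            exact this.resolve_left h2
          · have := (hs' T' (Finset.mem_insert_of_mem h')).2 T hTP' x
            rwa [hx T' h', Matrix.mulVec_zero, add_zero] at this
    let K : Submodule F V :=
      { carrier := {x | ∀ T, Z T → T *ᵥ x = 0}
        add_mem' := fun ha hb T hT => by rw [Matrix.mulVec_add, ha T hT, hb T hT, add_zero]
        zero_mem' := fun T _ => Matrix.mulVec_zero T
        smul_mem' := fun r a ha T hT => by rw [Matrix.mulVec_smul, ha T hT, smul_zero] }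
    have hall := hT.irred (K := K) (fun i E hE y hy T hTT => by
      have e1 : et i (E : Mb) * et i ((E⁻¹ : GL β F) : Mb) = (1 : Mn) := by
        rw [et_mul, ← Units.val_mul, mul_inv_cancel, Units.val_one, et_one]
      have e2 : et i ((E⁻¹ : GL β F) : Mb) * et i (E : Mb) = (1 : Mn) := by
        rw [et_mul, ← Units.val_mul, inv_mul_cancel, Units.val_one, et_one]
      have hZ : Z (et i ((E⁻¹ : GL β F) : Mb) * T * et i (E : Mb)) := by
        have hP' := pconj i E⁻¹ (inv_mem hE) hTT.1
        rw [inv_inv] at hP'
        refine ⟨hP', fun S hS z => ?_⟩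
        have h1 := hTT.2 _ (pconj i E hE hS) (et i (E : Mb) *ᵥ z)
        have h2' := congrArg (fun v => et i ((E⁻¹ : GL β F) : Mb) *ᵥ v) h1
        simp only [Matrix.mulVec_add, Matrix.mulVec_zero, Matrix.mulVec_mulVec] at h2'
        rw [Matrix.mulVec_mulVec, Matrix.mulVec_mulVec]
        simp only [mul_assoc] at h2' ⊢
        rw [← mul_assoc (et i ((E⁻¹ : GL β F) : Mb)) (et i (E : Mb)), e2, one_mul, mul_one] at h2'
        exact h2'
      have h1 := congrArg (fun v => et i (E : Mb) *ᵥ v) (hy _ hZ)
      simp only [Matrix.mulVec_mulVec, Matrix.mulVec_zero, ← mul_assoc, e1, one_mul] at h1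
      rwa [← Matrix.mulVec_mulVec] at h1) (show x ∈ K from hx) hx0
    exact hT0 (Matrix.ext_iff_mulVec.2 fun y => by rw [hall y _ hTZ, Matrix.zero_mulVec])
  -- self-adjointness at each factor
  obtain ⟨Φ, hΦ⟩ : ∃ Φ : (κ → β → F) → (κ → β → F) → F, Φ = fun xs ys => tf c h (R *ᵥ ptens xs) (ptens ys) := ⟨_, rfl⟩
  have hdiag : ∀ j xs ys u, Φ (Function.update xs j u) (Function.update ys j u) = 0 := by
    intro j xs ys u
    rcases eq_or_ne u 0 with rfl | hu
    · simp only [hΦ]
      rw [show ptens (Function.update ys j (0 : β → F)) = 0 from funext fun b => by simp [ptens_update],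
        hs.zero_right]
    obtain ⟨p, hp, hp'⟩ := hh.partner hu
    have hadj : ∀ v (ys : κ → β → F), tf c h (et j (vN h u) *ᵥ v) (ptens ys) =
        h u (ys j) * tf c h v (ptens (Function.update ys j u)) := fun v ys => by
      refine LinearMap.congr_fun (f := (hs.lin (ptens ys)).comp (Matrix.toLin' (et j (vN h u))))
        (g := h u (ys j) • hs.lin (ptens (Function.update ys j u))) (ext_ptens fun ws => ?_) v
      simp only [LinearMap.comp_apply, Matrix.toLin'_apply, et_ptens, hs.lin_apply, LinearMap.smul_apply, smul_eq_mul,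
        hT.tf_ptens, vN_mulVec hh]
      rw [← Finset.mul_prod_erase _ _ (Finset.mem_univ j), ← Finset.mul_prod_erase _ _ (Finset.mem_univ j),
        Finset.prod_congr rfl (s₁ := Finset.univ.erase j) fun l hl => by
          rw [Function.update_of_ne (Finset.ne_of_mem_erase hl)],
        Finset.prod_congr rfl (s₁ := Finset.univ.erase j)
          (f := fun l => h (ws l) (Function.update ys j u l)) fun l hl => by
          rw [Function.update_of_ne (Finset.ne_of_mem_erase hl)]]
      simp only [Function.update_self, hh.smul_left]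
      ring
    have h1 := congrArg (fun A : Mn => tf c h (A *ᵥ ptens (Function.update xs j p)) (ptens (Function.update ys j p)))
      (hN0 hR j u)
    simp only [← Matrix.mulVec_mulVec, hadj, et_ptens, Function.update_self, vN_mulVec hh, hp, hp', one_smul,
      Function.update_idem, Matrix.zero_mulVec, hs.zero_left] at h1
    simp only [hΦ]
    simpa using h1
  have hadd₁ : ∀ j xs ys a b, Φ (Function.update xs j (a + b)) ys =
      Φ (Function.update xs j a) ys + Φ (Function.update xs j b) ys := fun j xs ys a b => by
    simp only [hΦ]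
    rw [show ptens (Function.update xs j (a + b)) = ptens (Function.update xs j a) + ptens (Function.update xs j b)
      from funext fun p => by simp only [ptens_update, Pi.add_apply, add_mul], Matrix.mulVec_add, hs.add_left]
  have hadd₂ : ∀ j xs ys a b, Φ xs (Function.update ys j (a + b)) =
      Φ xs (Function.update ys j a) + Φ xs (Function.update ys j b) := fun j xs ys a b => by
    simp only [hΦ]
    rw [show ptens (Function.update ys j (a + b)) = ptens (Function.update ys j a) + ptens (Function.update ys j b)
      from funext fun p => by simp only [ptens_update, Pi.add_apply, add_mul], hs.add_right]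
  have hswap : ∀ (s : Finset κ) xs ys, Φ xs ys =
      (-1) ^ s.card * Φ (fun l => if l ∈ s then ys l else xs l) (fun l => if l ∈ s then xs l else ys l) := by
    intro s
    induction s using Finset.induction_on with
    | empty => intro xs ys; simp
    | insert a s ha ih =>
      intro xs ys
      obtain ⟨xs', hxs'⟩ : ∃ xs', xs' = fun l => if l ∈ s then ys l else xs l := ⟨_, rfl⟩
      obtain ⟨ys', hys'⟩ : ∃ ys', ys' = fun l => if l ∈ s then xs l else ys l := ⟨_, rfl⟩
      have h1 := hdiag a xs' ys' (xs' a + ys' a)
      rw [hadd₁, hadd₂, hadd₂, hdiag, hdiag, zero_add, add_zero, Function.update_eq_self,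
        Function.update_eq_self] at h1
      have ex : (fun l => if l ∈ insert a s then ys l else xs l) = Function.update xs' a (ys' a) := funext fun l => by
        by_cases el : l = a
        · subst el; simp [hys', ha]
        · simp [el, hxs']
      have ey : (fun l => if l ∈ insert a s then xs l else ys l) = Function.update ys' a (xs' a) := funext fun l => by
        by_cases el : l = a
        · subst el; simp [hxs', ha]
        · simp [el, hys']
      rw [ih xs ys, ← hxs', ← hys', ex, ey, Finset.card_insert_of_notMem ha, pow_succ]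
      linear_combination ((-1 : F) ^ s.card) * h1
  have hself : ∀ xs ys : κ → β → F, tf c h (R *ᵥ ptens xs) (ptens ys) = tf c h (ptens xs) (R *ᵥ ptens ys) := fun xs ys => by
    have h1 := hswap Finset.univ xs ys
    simp only [Finset.mem_univ, if_true, Finset.card_univ, hΦ] at h1
    rw [h1, hT.tf_symm (R *ᵥ ptens ys) (ptens xs)]
  refine Matrix.toLin'.injective (ext_ptens fun xs => ?_)
  rw [map_zero, LinearMap.zero_apply, Matrix.toLin'_apply]
  refine hs.eq_zero _ fun w => hs.refl _ _ ?_
  let L : V →ₗ[F] F :=
    { toFun := fun w => tf c h (R *ᵥ ptens xs) w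
      map_add' := fun a b => hs.add_right _ a b
      map_smul' := fun r a => by simp only [hs.smul_right, RingEquiv.refl_apply, smul_eq_mul, RingHom.id_apply] }
  refine (mem_of_pures (LinearMap.ker L) (fun ys => ?_) w : _)
  show tf c h (R *ᵥ ptens xs) (ptens ys) = 0
  have h3 := pskew hR (ptens xs) (ptens ys)
  rw [← hself] at h3
  exact (mul_eq_zero.1 (show (2 : F) * tf c h (R *ᵥ ptens xs) (ptens ys) = 0 by linear_combination h3)).resolve_left h2

end Cfsg.Agent.Classical.TensorSymp
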