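import Cfsg.Agent.Lib.Classical.TensorPowSymp.Radical

/-!
Scalar root coefficients in odd characteristic: elements mapping a line of tensors to a line are of product shape.
-/

set_option autoImplicit false
set_option linter.unusedSectionVars false
set_option linter.unusedSimpArgs false
set_option linter.style.haveILetI false

namespace Cfsg.Agent.Classical.TensorSymp

open Matrix Module MaxTv TensorMax Overfield
open Cfsg.Agent.Classical.TensorPow (k2 k2_val k2_mulVec k2_mul k2_one)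

variable {F : Type*} [Field F] [Fintype F] {α β : Type} [Fintype α] [DecidableEq α] [Fintype β] [DecidableEq β]

local notation "V" => (α × β → F)
local notation "Mn" => Matrix (α × β) (α × β) F
local notation "Ma" => Matrix α α F
local notation "Mb" => Matrix β β F
local notation "Ea" => ((α → F) →ₗ[F] (α → F))

theorem dot_lslice' (ξ : α → F) (φ : β → F) (t : V) : φ ⬝ᵥ lslice ξ t = ξ ⬝ᵥ slice φ t := by
  show ∑ j, φ j * ∑ i, ξ i * t (i, j) = ∑ i, ξ i * ∑ j, t (i, j) * φ j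
  simp only [Finset.mul_sum]
  rw [Finset.sum_comm]
  exact Finset.sum_congr rfl fun i _ => Finset.sum_congr rfl fun j _ => by ring

variable {e : F} {fA : (α → F) → (α → F) → F} {h : (β → F) → (β → F) → F}
  {f : (α × β → F) → (α × β → F) → F} {M : Subgroup (GL (α × β) F)}

/-- Products of similitudes with inverse multipliers are isometries. -/
theorem Pr.k2_iso (hP : Pr e fA h f M) {A : GL α F} {B : GL β F} {μ ν : F} (hμν : μ * ν = 1)
    (hA : ∀ x x', fA ((A : Ma) *ᵥ x) ((A : Ma) *ᵥ x') = μ * fA x x')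
    (hB : ∀ y y', h ((B : Mb) *ᵥ y) ((B : Mb) *ᵥ y') = ν * h y y') (s t : V) :
    f ((k2 A B : Mn) *ᵥ s) ((k2 A B : Mn) *ᵥ t) = f s t := by
  have he := hP.e_ne
  have key : ∀ s x y, f ((k2 A B : Mn) *ᵥ s) ((k2 A B : Mn) *ᵥ tmul x y) = f s (tmul x y) := fun s x y => by
    have h1 : (hP.hV.lin ((k2 A B : Mn) *ᵥ tmul x y)).comp (Matrix.toLin' (k2 A B : Mn)) = hP.hV.lin (tmul x y) :=
      LinearMap.ext fun t => by
        rw [sum_tmul_basis t, map_sum, map_sum]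
        refine Finset.sum_congr rfl fun p _ => ?_
        rw [map_smul, map_smul]
        congr 1
        simp only [LinearMap.comp_apply, Matrix.toLin'_apply, hP.hV.lin_apply, k2_mulVec, hP.ten, hA, hB]
        linear_combination (fA (Pi.single p.1 1) x * h (Pi.single p.2 1) y) * hμν
    have := LinearMap.congr_fun h1 s
    rwa [LinearMap.comp_apply, hP.hV.lin_apply, hP.hV.lin_apply, Matrix.toLin'_apply] at this
  have h2 : (hP.hV.lin ((k2 A B : Mn) *ᵥ s)).comp (Matrix.toLin' (k2 A B : Mn)) = hP.hV.lin s :=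
    LinearMap.ext fun t => by
      rw [sum_tmul_basis t, map_sum, map_sum]
      refine Finset.sum_congr rfl fun p _ => ?_
      rw [map_smul, map_smul]
      congr 1
      simp only [LinearMap.comp_apply, Matrix.toLin'_apply, hP.hV.lin_apply]
      rw [hP.symV _ ((k2 A B : Mn) *ᵥ _), hP.symV (s) (tmul _ _), key]
  have := LinearMap.congr_fun h2 t
  rw [LinearMap.comp_apply, hP.hV.lin_apply, hP.hV.lin_apply, Matrix.toLin'_apply] at this
  rw [hP.symV ((k2 A B : Mn) *ᵥ t), this, ← hP.symV]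

namespace SC

variable (hS : SC e fA h f M)
include hS

/-- The orthogonal space of a stable line of tensors is stable. -/
theorem sl_stab {g : GL (α × β) F} (hg : g ∈ M) {z : β → F} {G : GL α F}
    (hG : ∀ x, (g : Mn) *ᵥ tmul x z = tmul ((G : Ma) *ᵥ x) z) (t : V) (x : α → F) :
    fA (sl h z ((g : Mn) *ᵥ t)) ((G : Ma) *ᵥ x) = fA (sl h z t) x := by
  rw [← hS.f_sl, ← hS.f_sl, ← hG, hS.iso hg]

theorem sl_stab_zero {g : GL (α × β) F} (hg : g ∈ M) {z : β → F} {G : GL α F}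
    (hG : ∀ x, (g : Mn) *ᵥ tmul x z = tmul ((G : Ma) *ᵥ x) z) {t : V} (ht : sl h z t = 0) :
    sl h z ((g : Mn) *ᵥ t) = 0 :=
  hS.eq_of_fA fun x => by
    obtain ⟨a, rfl⟩ : ∃ a, (G : Ma) *ᵥ a = x := ⟨_, mulVec_inv_cancel G x⟩
    rw [hS.sl_stab hg hG, ht, hS.hA.zero_left, hS.hA.zero_left]

/-- The middle part of a stabiliser of a line is of product shape. -/
theorem stab_mid {g : GL (α × β) F} (hg : g ∈ M) {z : β → F} (hz : z ≠ 0) {G : GL α F}
    (hG : ∀ x, (g : Mn) *ᵥ tmul x z = tmul ((G : Ma) *ᵥ x) z) {y w : β → F} (hy : h y z = 0) (hw : h w z = 0) :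
    ∃ ν : F, ∀ x, sl h y ((g : Mn) *ᵥ tmul x w) = ν • ((G : Ma) *ᵥ x) := by
  have hh := hS.hh
  obtain ⟨u, hu, -⟩ := hh.partner hz
  have hzy : h z y = 0 := hh.toSesq.refl _ _ hy
  have hzw : h z w = 0 := hh.toSesq.refl _ _ hw
  obtain ⟨E, hE, hEx⟩ := hh.exists_eich hzy
  have hEl : ∀ t, (k2 (1 : GL α F) E : Mn) *ᵥ t = t + tmul (sl h y t) z + tmul (sl h z t) y := fun t => by
    refine LinearMap.congr_fun (f := Matrix.toLin' (k2 (1 : GL α F) E : Mn))
      (g := LinearMap.id + (fac z).comp (sl h y) + (fac y).comp (sl h z)) (ext_tmul fun x v => ?_) t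
    simp only [Matrix.toLin'_apply, hS.toPr.inner_apply, hEx, LinearMap.add_apply, LinearMap.id_apply,
      LinearMap.comp_apply, fac_apply, sl_tmul' hh, tmul_add_right, tmul_smul_right, tmul_smul_left]
  have hGi : ∀ x, ((g⁻¹ : GL (α × β) F) : Mn) *ᵥ tmul x z = tmul (((G⁻¹ : GL α F) : Ma) *ᵥ x) z := fun x =>
    gl_mulVec_injective g (by
      show (g : Mn) *ᵥ _ = (g : Mn) *ᵥ _
      rw [mulVec_inv_cancel, hG, mulVec_inv_cancel])
  obtain ⟨k, hk⟩ : ∃ k, k = g⁻¹ * k2 1 E * g := ⟨_, rfl⟩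
  have hkM : k ∈ M := hk ▸ mul_mem (mul_mem (inv_mem hg) (hS.kB hE)) hg
  have hkz : ∀ t, sl h z t = 0 →
      (k : Mn) *ᵥ t = t + tmul (((G⁻¹ : GL α F) : Ma) *ᵥ sl h y ((g : Mn) *ᵥ t)) z := fun t ht => by
    rw [hk, Units.val_mul, Units.val_mul, ← Matrix.mulVec_mulVec, ← Matrix.mulVec_mulVec, hEl,
      hS.sl_stab_zero hg hG ht, tmul_zero_left, add_zero, Matrix.mulVec_add, inv_mulVec_cancel, hGi]
  have hrad : Rad h k z := ⟨fun x => by
    rw [hkz _ (by rw [sl_tmul' hh, hh.self, zero_smul]), hG, sl_tmul' hh, hzy, zero_smul, Matrix.mulVec_zero,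
      tmul_zero_left, add_zero], fun x v hv => ⟨_, by
    rw [hkz _ (by rw [sl_tmul' hh, hv, zero_smul]), add_sub_cancel_left]⟩⟩
  obtain ⟨μ, hμ⟩ := hS.mid_scal hz hu hrad hkM hw
  refine ⟨μ, fun x => ?_⟩
  have h1 := hμ x
  rw [mid_of_eq hh hu (hkz _ (by rw [sl_tmul' hh, hw, zero_smul]))] at h1
  rw [← Matrix.mulVec_smul, ← h1, mulVec_inv_cancel]

/-- A stable line of tensors gives a similitude of the first factor. -/
theorem stab_simil {g : GL (α × β) F} (hg : g ∈ M) {z : β → F} (hz : z ≠ 0) {G : GL α F}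
    (hG : ∀ x, (g : Mn) *ᵥ tmul x z = tmul ((G : Ma) *ᵥ x) z) :
    ∃ μ : F, μ ≠ 0 ∧ ∀ x x', fA ((G : Ma) *ᵥ x) ((G : Ma) *ᵥ x') = μ * fA x x' := by
  have hh := hS.hh
  have hroot : In M (rM h z (LinearMap.id : Ea)) := hS.uc_one z
  haveI : Nonempty α := Fintype.card_pos_iff.1 (by have := hS.ha; omega)
  obtain ⟨u, hu, -⟩ := hh.partner hz
  let K : Ea := (Matrix.toLin' (G : Ma)).comp ((sl h z).comp ((Matrix.toLin' ((g⁻¹ : GL (α × β) F) : Mn)).comp (fac u)))
  have hKp : ∀ x y, (G : Ma) *ᵥ sl h z (((g⁻¹ : GL (α × β) F) : Mn) *ᵥ tmul x y) = h y z • K x := fun x y => by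
    show _ = h y z • ((G : Ma) *ᵥ sl h z (((g⁻¹ : GL (α × β) F) : Mn) *ᵥ tmul x u))
    rw [← Matrix.mulVec_smul]
    congr 1
    refine hS.eq_of_fA fun x' => ?_
    rw [← hS.f_sl, hS.hA.smul_left, ← hS.f_sl, ← hS.iso hg, ← hS.iso hg (((g⁻¹ : GL (α × β) F) : Mn) *ᵥ tmul x u),
      mulVec_inv_cancel, mulVec_inv_cancel, hG, hS.ten, hS.ten, hu]
    ring
  obtain ⟨μ, hμ⟩ := hS.scal K (hS.uc_of hz (by
    convert hroot.conj hg using 1
    refine LinearMap.ext fun t => ?_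
    rw [conjL_apply, rM, rM, rootMap_apply, rootMap_apply, LinearMap.id_apply, hG]
    refine congrArg (fun r => tmul r z) ?_
    refine LinearMap.congr_fun (f := K.comp (slice (fn h z))) (g := (Matrix.toLin' (G : Ma)).comp
      ((slice (fn h z)).comp (Matrix.toLin' ((g⁻¹ : GL (α × β) F) : Mn)))) (ext_tmul' fun x y => ?_) t
    simp only [LinearMap.comp_apply, slice_tmul, fn_dot hh.toSesq, map_smul, Matrix.toLin'_apply]
    exact (hKp x y).symm))
  have key : ∀ x x', fA ((G : Ma) *ᵥ x) ((G : Ma) *ᵥ x') = μ * fA x x' := fun x x' => by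
    have h1 : ∀ a b, fA (((G⁻¹ : GL α F) : Ma) *ᵥ K a) b = fA a ((G : Ma) *ᵥ b) := fun a b => by
      show fA (((G⁻¹ : GL α F) : Ma) *ᵥ ((G : Ma) *ᵥ sl h z (((g⁻¹ : GL (α × β) F) : Mn) *ᵥ tmul a u))) b = _
      rw [inv_mulVec_cancel, ← hS.f_sl, ← hS.iso hg, mulVec_inv_cancel, hG, hS.ten, hu, mul_one]
    have h2 := h1 ((G : Ma) *ᵥ x) x'
    rw [hμ, Matrix.mulVec_smul, inv_mulVec_cancel, hS.hA.smul_left] at h2
    exact h2.symm
  refine ⟨μ, fun e0 => ?_, key⟩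
  obtain ⟨i⟩ : Nonempty α := Fintype.card_pos_iff.1 (by have := hS.ha; omega)
  obtain ⟨y, hy⟩ := hS.hA.exists_one (v := Pi.single i 1) (by simp)
  have := key (((G⁻¹ : GL α F) : Ma) *ᵥ y) (((G⁻¹ : GL α F) : Ma) *ᵥ Pi.single i 1)
  rw [mulVec_inv_cancel, mulVec_inv_cancel, e0, zero_mul, hy] at this
  exact one_ne_zero this

/-- Stabilisers of lines of tensors are of product shape. -/
theorem stab_kron {g : GL (α × β) F} (hg : g ∈ M) {z : β → F} (hz : z ≠ 0)
    (hline : ∀ x, ∃ x', (g : Mn) *ᵥ tmul x z = tmul x' z) : ∃ A B, g = k2 A B := by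
  classical
  have hh := hS.hh
  have hA := hS.hA
  obtain ⟨u, hu, hzu⟩ := hh.partner hz
  have hψ : fn h (-u) ⬝ᵥ z = 1 := by rw [fn_dot hh.toSesq, hh.neg_right, hzu, neg_neg]
  choose G₀ hG₀ using hline
  have hG₀' : ∀ x, G₀ x = slice (fn h (-u)) ((g : Mn) *ᵥ tmul x z) := fun x => by
    rw [hG₀, slice_tmul, hψ, one_smul]
  obtain ⟨G, hGx⟩ := exists_gl_of_injective ((slice (fn h (-u))).comp ((Matrix.toLin' (g : Mn)).comp (fac z)))
    fun a b hab => fac_injective hz (gl_mulVec_injective g (by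
      simp only [LinearMap.comp_apply, Matrix.toLin'_apply, fac_apply, ← hG₀'] at hab
      show (g : Mn) *ᵥ tmul a z = (g : Mn) *ᵥ tmul b z
      rw [hG₀, hG₀, hab]))
  have hG : ∀ x, (g : Mn) *ᵥ tmul x z = tmul ((G : Ma) *ᵥ x) z := fun x => by
    rw [hGx, LinearMap.comp_apply, LinearMap.comp_apply, fac_apply, Matrix.toLin'_apply, ← hG₀', hG₀]
  obtain ⟨μ, hμ0, hGiso⟩ := hS.stab_simil hg hz hG
  obtain ⟨i⟩ : Nonempty α := Fintype.card_pos_iff.1 (by have := hS.ha; omega)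
  obtain ⟨x₀, hx₀⟩ : ∃ x₀ : α → F, (G : Ma) *ᵥ x₀ ≠ 0 := ⟨Pi.single i 1, fun h0 => by
    have := gl_mulVec_injective G (h0.trans (Matrix.mulVec_zero _).symm)
    simpa using congrFun this i⟩
  obtain ⟨ξ, hξ⟩ := TensorMax.exists_dual hx₀
  let K : (β → F) →ₗ[F] (β → F) :=
    { toFun := fun w => lslice ξ ((g : Mn) *ᵥ tmul x₀ w)
      map_add' := fun a b => by rw [tmul_add_right, Matrix.mulVec_add, map_add]
      map_smul' := fun c a => by rw [tmul_smul_right, Matrix.mulVec_smul, map_smul, RingHom.id_apply] }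
  have hKz : ∀ w, h w z = 0 → h (K w) z = 0 := fun w hw => by
    rw [← fn_dot hh.toSesq]
    show fn h z ⬝ᵥ lslice ξ _ = 0
    rw [dot_lslice']
    show ξ ⬝ᵥ sl h z _ = 0
    rw [hS.sl_stab_zero hg hG (by rw [sl_tmul' hh, hw, zero_smul]), dotProduct_zero]
  have hmid : ∀ x w, h w z = 0 →
      ∃ X, (g : Mn) *ᵥ tmul x w - tmul ((G : Ma) *ᵥ x) (K w) = tmul X z := fun x w hw => by
    refine ⟨_, eq_tmul_of_slices hψ fun φ hφ => ?_⟩
    obtain ⟨y, rfl⟩ := fn_surjective hh.toSesq φ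
    rw [fn_dot hh.toSesq] at hφ
    obtain ⟨ν, hν⟩ := hS.stab_mid hg hz hG (hh.toSesq.refl _ _ hφ) hw
    have hK : fn h y ⬝ᵥ K w = ν := by
      show fn h y ⬝ᵥ lslice ξ _ = ν
      rw [dot_lslice']
      show ξ ⬝ᵥ sl h y _ = ν
      rw [hν, dotProduct_smul, hξ, smul_eq_mul, mul_one]
    rw [map_sub, slice_tmul, hK]
    show sl h y _ - _ = 0
    rw [hν, sub_self]
  have hKiso : ∀ w w', h w z = 0 → h w' z = 0 → μ * h (K w) (K w') = h w w' := fun w w' hw hw' => by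
    obtain ⟨b, hb⟩ := hA.exists_one (v := x₀) fun e0 => hx₀ (by rw [e0, Matrix.mulVec_zero])
    obtain ⟨X, hX⟩ := hmid b w hw
    obtain ⟨X', hX'⟩ := hmid x₀ w' hw'
    have := hS.iso hg (tmul b w) (tmul x₀ w')
    rw [eq_add_of_sub_eq hX, eq_add_of_sub_eq hX', hS.ten, hS.hV.add_left, hS.hV.add_right, hS.hV.add_right,
      hS.ten, hS.ten, hS.ten, hS.ten, hh.self, hKz w hw, hh.toSesq.refl _ _ (hKz w' hw'), mul_zero, mul_zero, mul_zero,
      hGiso, hb, one_mul, mul_one] at this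
    simpa using this
  -- the second factor
  let pp : (β → F) →ₗ[F] (β → F) :=
    LinearMap.id - (hh.toSesq.lin z).smulRight u + (hh.toSesq.lin u).smulRight z
  have hpp : ∀ y, pp y = y - h y z • u + h y u • z := fun y => rfl
  have hppz : ∀ y, h (pp y) z = 0 := fun y => by
    rw [hpp, hh.add_left, hh.toSesq.sub_left, hh.smul_left, hh.smul_left, hu, hh.self]; ring
  have hppu : ∀ y, h (pp y) u = 0 := fun y => by
    rw [hpp, hh.add_left, hh.toSesq.sub_left, hh.smul_left, hh.smul_left, hzu, hh.self]; ring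
  let R : (β → F) →ₗ[F] (β → F) := K.comp pp + ((hh.toSesq.lin u).comp (K.comp pp)).smulRight z
  have hR : ∀ y, R y = K (pp y) + h (K (pp y)) u • z := fun y => rfl
  have hRz : ∀ y, h (R y) z = 0 := fun y => by
    rw [hR, hh.add_left, hh.smul_left, hh.self, hKz _ (hppz y), mul_zero, add_zero]
  have hRu : ∀ y, h (R y) u = 0 := fun y => by
    rw [hR, hh.add_left, hh.smul_left, hzu, mul_neg, mul_one, add_neg_cancel]
  have hRR : ∀ y y', μ * h (R y) (R y') = h (pp y) (pp y') := fun y y' => by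
    rw [← hKiso _ _ (hppz y) (hppz y'), hR, hR]
    simp only [hh.add_left, hh.add_right, hh.smul_left, hh.smul_r, hh.self, hKz _ (hppz y),
      hh.toSesq.refl _ _ (hKz _ (hppz y')), mul_zero, add_zero]
  let BL : (β → F) →ₗ[F] (β → F) :=
    (hh.toSesq.lin z).smulRight (μ⁻¹ • u) - (hh.toSesq.lin u).smulRight z + R
  have hBL : ∀ y, BL y = h y z • μ⁻¹ • u - h y u • z + R y := fun y => rfl
  have hBiso : ∀ y y', h (BL y) (BL y') = μ⁻¹ * h y y' := fun y y' => by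
    have e : ∀ y, y = h y z • u - h y u • z + pp y := fun y => by rw [hpp]; abel
    conv_rhs => rw [e y, e y']
    rw [hBL, hBL]
    simp only [hh.add_left, hh.add_right, hh.toSesq.sub_left, hh.toSesq.sub_right, hh.smul_left, hh.smul_r, hh.self,
      hu, hzu, hppz, hppu, hh.toSesq.refl _ _ (hppz _), hh.toSesq.refl _ _ (hppu _), hRz, hRu,
      hh.toSesq.refl _ _ (hRz _), hh.toSesq.refl _ _ (hRu _), ← hRR, mul_zero, mul_one, add_zero, zero_add, sub_zero]
    field_simp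
    ring
  obtain ⟨B, hB⟩ := exists_gl_of_injective BL fun a b hab => sub_eq_zero.1 (hh.eq_zero _ fun y => hh.toSesq.refl _ _ (by
    have := hBiso (a - b) y
    rw [map_sub, hab, sub_self, hh.toSesq.zero_left] at this
    exact (mul_eq_zero.1 this.symm).resolve_left (inv_ne_zero hμ0)))
  have hBsim : ∀ y y', h ((B : Mb) *ᵥ y) ((B : Mb) *ᵥ y') = μ⁻¹ * h y y' := fun y y' => by rw [hB, hB, hBiso]
  obtain ⟨k, hk⟩ : ∃ k, k = k2 G B := ⟨_, rfl⟩
  have hBz : BL z = z := by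
    rw [hBL, hR, show pp z = 0 by rw [hpp, hh.self, hzu]; simp, map_zero, hh.toSesq.zero_left, hh.self, hzu]
    simp
  have hkz : ∀ x, (k : Mn) *ᵥ tmul x z = tmul ((G : Ma) *ᵥ x) z := fun x => by
    rw [hk, k2_mulVec, hB, hBz]
  obtain ⟨r, hr⟩ : ∃ r, r = k⁻¹ * g := ⟨_, rfl⟩
  have hrfix : ∀ x, (r : Mn) *ᵥ tmul x z = tmul x z := fun x => by
    rw [hr, Units.val_mul, ← Matrix.mulVec_mulVec, hG, ← hkz, inv_mulVec_cancel]
  have hract : ∀ x y, h y z = 0 → ∃ X, (r : Mn) *ᵥ tmul x y - tmul x y = tmul X z := fun x y hy => by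
    have e : ∃ X, (g : Mn) *ᵥ tmul x y = (k : Mn) *ᵥ (tmul x y + tmul X z) := by
      obtain ⟨X, hX⟩ := hmid x (pp y) (hppz y)
      have ey : y = -h y u • z + pp y := by rw [hpp, hy]; module
      refine ⟨((G⁻¹ : GL α F) : Ma) *ᵥ (X - h (K (pp y)) u • ((G : Ma) *ᵥ x)), ?_⟩
      rw [Matrix.mulVec_add, hkz, mulVec_inv_cancel, hk, k2_mulVec, hB, hBL, hy, hR]
      conv_lhs => rw [ey, tmul_add_right, tmul_smul_right, Matrix.mulVec_add, Matrix.mulVec_smul, hG,
        eq_add_of_sub_eq hX]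
      simp only [zero_smul, zero_sub, tmul_add_right, tmul_smul_right, tmul_sub_left, tmul_smul_left, ← neg_smul]
      module
    obtain ⟨X, hX⟩ := e
    exact ⟨X, by rw [hr, Units.val_mul, ← Matrix.mulVec_mulVec, hX, inv_mulVec_cancel, add_sub_cancel_left]⟩
  have hkiso := hS.toPr.k2_iso (mul_inv_cancel₀ hμ0) hGiso hBsim
  have hriso : ∀ s t, f ((r : Mn) *ᵥ s) ((r : Mn) *ᵥ t) = f s t := fun s t => by
    rw [← hkiso, ← hk, hr, Units.val_mul, ← Matrix.mulVec_mulVec, ← Matrix.mulVec_mulVec, mulVec_inv_cancel,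
      mulVec_inv_cancel, hS.iso hg]
  obtain ⟨C, hC⟩ := hS.rad_kron hz ⟨hrfix, hract⟩ ⟨hriso, G, B, μ⁻¹, inv_ne_zero hμ0, hBsim, by
    rw [← hk, hr, mul_inv_cancel_left]; exact hg⟩
  exact ⟨G, B * C, by rw [← mul_one G, ← k2_mul, ← hk, ← hC, hr, mul_inv_cancel_left]⟩

/-- A line of tensors mapped to a line: product shape. -/
theorem line_kron {g : GL (α × β) F} (hg : g ∈ M) {z v : β → F} (hz : z ≠ 0)
    (hline : ∀ x, ∃ x', (g : Mn) *ᵥ tmul x z = tmul x' v) : ∃ A B, g = k2 A B := by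
  obtain ⟨i⟩ : Nonempty α := Fintype.card_pos_iff.1 (by have := hS.ha; omega)
  obtain ⟨x₁, hx₁⟩ := hline (Pi.single i 1)
  have hv0 : v ≠ 0 := fun e => tmul_ne_zero (x := (Pi.single i 1 : α → F)) (by simp) hz (gl_mulVec_injective g (by
    show (g : Mn) *ᵥ _ = (g : Mn) *ᵥ _
    rw [hx₁, e, tmul_zero_right, Matrix.mulVec_zero]))
  obtain ⟨T, hT, hTv⟩ := hS.hh.exists_move hv0 hz
  obtain ⟨A, B, hAB⟩ := hS.stab_kron (mul_mem (hS.kB hT) hg) hz fun x => by
    obtain ⟨x', hx'⟩ := hline x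
    exact ⟨x', by rw [Units.val_mul, ← Matrix.mulVec_mulVec, hx', hS.toPr.inner_apply, hTv]⟩
  exact ⟨A, T⁻¹ * B, by
    rw [← one_mul A, ← k2_mul, ← hAB, ← mul_assoc, k2_mul, one_mul, inv_mul_cancel, k2_one, one_mul]⟩

/-- Elements commuting with a root element are of product shape. -/
theorem comm_kron {g Y : GL (α × β) F} (hg : g ∈ M) {z : β → F} {τ : F} (hz : z ≠ 0) (hτ : τ ≠ 0)
    (hY : ∀ t, (Y : Mn) *ᵥ t = t + τ • tmul (sl h z t) z) (hcom : g * Y = Y * g) : ∃ A B, g = k2 A B := by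
  have hh := hS.hh
  obtain ⟨u, hu, -⟩ := hh.partner hz
  refine hS.line_kron hg hz (v := z) fun x => ⟨sl h z ((g : Mn) *ᵥ tmul x u), ?_⟩
  have h1 := congrArg (fun w : GL (α × β) F => (w : Mn) *ᵥ tmul x u) hcom
  simp only [Units.val_mul, ← Matrix.mulVec_mulVec, hY, Matrix.mulVec_add, Matrix.mulVec_smul, sl_tmul' hh, hu,
    one_smul] at h1
  exact smul_right_injective _ hτ (add_left_cancel h1)

/-- A root element conjugated by an element moving a line orthogonally to another line. -/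
theorem orth_comm {g Y : GL (α × β) F} (hg : g ∈ M) {z b : β → F} {τ : F} (hb : b ≠ 0) (hτ : τ ≠ 0) (hYM : Y ∈ M)
    (hY : ∀ t, (Y : Mn) *ᵥ t = t + τ • tmul (sl h z t) z)
    (horth : ∀ x, sl h b ((g : Mn) *ᵥ tmul x z) = 0) : ∃ A B, g * Y * g⁻¹ = k2 A B := by
  have hh := hS.hh
  obtain ⟨E, hE, -, -, hEx⟩ := hh.exists_tv b τ
  have hZ : ∀ t, (k2 (1 : GL α F) E : Mn) *ᵥ t = t + τ • tmul (sl h b t) b := fun t => by
    refine LinearMap.congr_fun (f := Matrix.toLin' (k2 (1 : GL α F) E : Mn))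
      (g := LinearMap.id + τ • (fac b).comp (sl h b)) (ext_tmul fun x v => ?_) t
    simp only [Matrix.toLin'_apply, hS.toPr.inner_apply, hEx, LinearMap.add_apply, LinearMap.id_apply,
      LinearMap.smul_apply, LinearMap.comp_apply, fac_apply, sl_tmul' hh, tmul_add_right, tmul_smul_right,
      tmul_smul_left, smul_smul]
  refine hS.comm_kron (mul_mem (mul_mem hg hYM) (inv_mem hg)) hb hτ hZ ?_
  refine Units.ext (Matrix.ext_iff_mulVec.2 fun t => ?_)
  have hd : ∀ t, ((g * Y * g⁻¹ : GL (α × β) F) : Mn) *ᵥ t =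
      t + τ • (g : Mn) *ᵥ tmul (sl h z (((g⁻¹ : GL (α × β) F) : Mn) *ᵥ t)) z := fun t => by
    rw [Units.val_mul, Units.val_mul, ← Matrix.mulVec_mulVec, ← Matrix.mulVec_mulVec, hY, Matrix.mulVec_add,
      mulVec_inv_cancel, Matrix.mulVec_smul]
  have hzb : ∀ x, sl h z (((g⁻¹ : GL (α × β) F) : Mn) *ᵥ tmul x b) = 0 := fun x => hS.eq_of_fA fun x' => by
    rw [← hS.f_sl, ← hS.iso hg, mulVec_inv_cancel, hS.symV, hS.f_sl, horth, hS.hA.zero_left, mul_zero,
      hS.hA.zero_left]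
  rw [Units.val_mul (g * Y * g⁻¹) (k2 1 E), Units.val_mul (k2 1 E) (g * Y * g⁻¹), ← Matrix.mulVec_mulVec,
    ← Matrix.mulVec_mulVec, hZ, hd, hd, hZ, Matrix.mulVec_add, map_add, Matrix.mulVec_smul, map_smul, hzb, smul_zero,
    add_zero, map_add, map_smul, horth, smul_zero, add_zero]
  abel

end SC

end Cfsg.Agent.Classical.TensorSymp
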