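import Cfsg.Agent.Lib.Classical.TensorPowSymp.Rich
import Cfsg.Agent.Lib.Classical.TensorPowSymp.Stab
import Cfsg.Agent.Lib.Classical.TensorPowSymp.Kill

/-!
A proper overgroup in odd characteristic has scalar coefficients at every factor.
-/

set_option autoImplicit false
set_option linter.unusedSectionVars false
set_option linter.unusedSimpArgs false
set_option linter.style.haveILetI false

namespace Cfsg.Agent.Classical.TensorSymp

open Matrix Module MaxTv TensorMax TensorPow Overfield

variable {F : Type*} [Field F] [Fintype F] {κ β : Type} [Fintype κ] [DecidableEq κ] [Fintype β] [DecidableEq β]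

/-- Four elements give one with square not one. -/
theorem exists_sq_ne_one (hq : 4 ≤ Fintype.card F) : ∃ a : F, a ≠ 0 ∧ a * a ≠ 1 := by
  classical
  by_contra hc
  push Not at hc
  have hsub : (Finset.univ : Finset F) ⊆ {0, 1, -1} := fun a _ => by
    simp only [Finset.mem_insert, Finset.mem_singleton]
    rcases eq_or_ne a 0 with e | e
    · exact Or.inl e
    · exact Or.inr (mul_self_eq_one_iff.1 (hc a e))
  have h1 := Finset.card_le_card hsub
  rw [Finset.card_univ] at h1
  have := Finset.card_le_three (a := (0 : F)) (b := 1) (c := -1)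
  omega

variable {c : F} {h : (β → F) → (β → F) → F} {M : Subgroup (GL (κ → β) F)}

namespace OCx

variable (hM : OCx c h M)
include hM

theorem big_sq : 4 ≤ Fintype.card β ∨ ∃ a : F, a ≠ 0 ∧ a * a ≠ 1 := by
  rcases hM.hk with ⟨h2, -⟩ | h4
  · refine Or.inr (exists_sq_ne_one ?_)
    rcases hM.big with h | ⟨h, -⟩ | h
    all_goals omega
  · exact Or.inl h4

/-- The group at a factor with scalar coefficients. -/
theorem sc {i : κ} (hsc : Scal h (Mi M i)) :
    SC ((-1 : F) ^ Fintype.card (Rst i)) (tf (κ := Rst i) c h) h (tfs c h i) (Mi M i) where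
  toPr := hM.toCx.pr i
  h2 := hM.h2
  scal := hsc
  hk := hM.big_sq
  skew0 h4 P padd psmul pconj pskew panti S hS := by
    have hR : Matrix.toLin' (LinearMap.toMatrix' S) = S := Matrix.toLin'_toMatrix' S
    have h0 : LinearMap.toMatrix' S = 0 :=
      hM.data.skew_kill (κ := Rst i) hM.h2 h4 (P := fun R => P (Matrix.toLin' R))
        (fun hA hB => by rw [map_add]; exact padd hA hB) (fun r hA => by rw [map_smul]; exact psmul r hA)
        (fun {R} j E hE hA => by
          have h1 := pconj (pe j E) (hM.toCx.kA_mem j hE) hA
          rw [← map_inv (TensorPow.pe j) E, ← et_val, ← et_val] at h1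
          rw [Matrix.toLin'_mul, Matrix.toLin'_mul, LinearMap.comp_assoc]
          exact h1)
        (fun hA x y => by simpa only [Matrix.toLin'_apply] using pskew hA x y)
        (fun hA hB => by
          obtain ⟨r, hr⟩ := panti hA hB
          exact ⟨r, fun x => by simpa only [Matrix.toLin'_apply] using hr x⟩)
        (show P (Matrix.toLin' (LinearMap.toMatrix' S)) by rwa [hR])
    rw [← hR, h0, map_zero]

/-- All coefficients of a proper overgroup are scalar. -/
theorem scal_of_proper (hns : ¬ GT c h ≤ M) (i : κ) : Scal h (Mi M i) := by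
  by_contra h1
  exact hns (hM.rich h1)

end OCx

end Cfsg.Agent.Classical.TensorSymp
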