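import Cfsg.Agent.Lib.Classical.TensorPowSymp.Plane
import Cfsg.Agent.Lib.Classical.TensorPowSymp.Slot
import Cfsg.Agent.Lib.Grp.SL2Basic

/-!
Odd characteristic: a proper overgroup lies in the target.
-/

set_option autoImplicit false
set_option linter.unusedSectionVars false
set_option linter.unusedSimpArgs false
set_option linter.style.haveILetI false

namespace Cfsg.Agent.Classical.TensorSymp

open Matrix Module MaxTv TensorMax Overfield
open Cfsg.Agent.Classical.TensorPow (k2 k2_val k2_mulVec k2_mul k2_one)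
open Cfsg.Agent.Fus
open Cfsg.Agent.Grp

variable {F : Type*} [Field F] [Fintype F] {α β : Type} [Fintype α] [DecidableEq α] [Fintype β] [DecidableEq β]

local notation "V" => (α × β → F)
local notation "Mn" => Matrix (α × β) (α × β) F
local notation "SLF" => Matrix.SpecialLinearGroup (Fin 2) F

/-- Matrices agreeing on the two eigenspaces of an involution are equal. -/
theorem ext_pm (h2 : (2 : F) ≠ 0) {ζ : GL (α × β) F} (hζ : ζ * ζ = 1) {P Q : Matrix (α × β) (α × β) F}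
    (hp : ∀ t, (ζ : Mn) *ᵥ t = t → P *ᵥ t = Q *ᵥ t) (hm : ∀ t ∈ Em ζ, P *ᵥ t = Q *ᵥ t) : P = Q := by
  refine Matrix.ext_iff_mulVec.2 fun t => ?_
  have hζζ : (ζ : Mn) *ᵥ ((ζ : Mn) *ᵥ t) = t := by
    rw [Matrix.mulVec_mulVec, ← Units.val_mul, hζ, Units.val_one, Matrix.one_mulVec]
  have e1 := hp (t + (ζ : Mn) *ᵥ t) (by rw [Matrix.mulVec_add, hζζ, add_comm])
  have e2 := hm (t - (ζ : Mn) *ᵥ t) (mem_Em.2 (by rw [Matrix.mulVec_sub, hζζ, neg_sub]))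
  have e3 : t = (2 : F)⁻¹ • ((t + (ζ : Mn) *ᵥ t) + (t - (ζ : Mn) *ᵥ t)) := by
    rw [add_add_sub_cancel, ← two_smul F t, smul_smul, inv_mul_cancel₀ h2, one_smul]
  conv_lhs => rw [e3, Matrix.mulVec_smul, Matrix.mulVec_add, e1, e2]
  rw [← Matrix.mulVec_add, ← Matrix.mulVec_smul, ← e3]

/-- An element commuting with an involution, made trivial on the negated space. -/
theorem exists_psi (h2 : (2 : F) ≠ 0) {ζ w : GL (α × β) F} (hζ : ζ * ζ = 1) (hc : ζ * w = w * ζ) :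
    ∃ w' : GL (α × β) F, (∀ t, (ζ : Mn) *ᵥ t = t → (w' : Mn) *ᵥ t = (w : Mn) *ᵥ t) ∧
      ∀ t ∈ Em ζ, (w' : Mn) *ᵥ t = t := by
  obtain ⟨P, hP⟩ : ∃ P : Matrix (α × β) (α × β) F, P = (2 : F)⁻¹ • (1 + (ζ : Mn)) := ⟨_, rfl⟩
  have hPp : ∀ t, (ζ : Mn) *ᵥ t = t → P *ᵥ t = t := fun t ht => by
    rw [hP, Matrix.smul_mulVec, Matrix.add_mulVec, Matrix.one_mulVec, ht, ← two_smul F t, smul_smul,
      inv_mul_cancel₀ h2, one_smul]
  have hPm : ∀ t ∈ Em ζ, P *ᵥ t = 0 := fun t ht => by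
    rw [hP, Matrix.smul_mulVec, Matrix.add_mulVec, Matrix.one_mulVec, mem_Em.1 ht, add_neg_cancel, smul_zero]
  have hval : ∀ v : GL (α × β) F, (∀ t, (ζ : Mn) *ᵥ t = t →
      ((v : Mn) * P + (1 - P)) *ᵥ t = (v : Mn) *ᵥ t) ∧ ∀ t ∈ Em ζ, ((v : Mn) * P + (1 - P)) *ᵥ t = t := fun v => by
    refine ⟨fun t ht => ?_, fun t ht => ?_⟩
    · rw [Matrix.add_mulVec, ← Matrix.mulVec_mulVec, Matrix.sub_mulVec, Matrix.one_mulVec, hPp t ht, sub_self,
        add_zero]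
    · rw [Matrix.add_mulVec, ← Matrix.mulVec_mulVec, Matrix.sub_mulVec, Matrix.one_mulVec, hPm t ht,
        Matrix.mulVec_zero, sub_zero, zero_add]
  have hcomm : ∀ v : GL (α × β) F, ζ * v = v * ζ → ∀ t, (ζ : Mn) *ᵥ t = t →
      (ζ : Mn) *ᵥ ((v : Mn) *ᵥ t) = (v : Mn) *ᵥ t := fun v hv t ht => by
    rw [Matrix.mulVec_mulVec, ← Units.val_mul, hv, Units.val_mul, ← Matrix.mulVec_mulVec, ht]
  have key : ∀ v v' : GL (α × β) F, v * v' = 1 → ζ * v' = v' * ζ →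
      ((v : Mn) * P + (1 - P)) * ((v' : Mn) * P + (1 - P)) = 1 := fun v v' hvv hc' => by
    refine ext_pm h2 hζ (fun t ht => ?_) (fun t ht => ?_)
    · rw [← Matrix.mulVec_mulVec, (hval v').1 t ht, (hval v).1 _ (hcomm v' hc' t ht), Matrix.mulVec_mulVec,
        ← Units.val_mul, hvv, Units.val_one]
    · rw [← Matrix.mulVec_mulVec, (hval v').2 t ht, (hval v).2 t ht, Matrix.one_mulVec]
  have hc' : ζ * w⁻¹ = w⁻¹ * ζ := (Commute.inv_right (hc : Commute ζ w)).eq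
  exact ⟨⟨_, _, key w w⁻¹ (mul_inv_cancel w) hc', key w⁻¹ w (inv_mul_cancel w) hc⟩, (hval w).1, (hval w).2⟩

/-- Central elements are `1` and `-1`. -/
theorem center_val {m : Matrix.SpecialLinearGroup (Fin 2) F} (hm : m ∈ Subgroup.center (Matrix.SpecialLinearGroup (Fin 2) F)) :
    ∃ r : F, (r = 1 ∨ r = -1) ∧ m.1 = r • (1 : Matrix (Fin 2) (Fin 2) F) := by
  obtain ⟨r, hr, hrm⟩ := Matrix.SpecialLinearGroup.mem_center_iff.1 hm
  rw [Fintype.card_fin, pow_two] at hr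
  exact ⟨r, mul_self_eq_one_iff.1 hr, by rw [← hrm, Matrix.scalar_apply, ← Matrix.smul_one_eq_diagonal]⟩

/-- The trace of a product of two transvections. -/
theorem tr_up_low (x y : F) : SL2.tr (RingSL.up x * RingSL.low y : SLF) = 2 + x * y := by
  simp only [SL2.tr, Matrix.SpecialLinearGroup.coe_mul, Matrix.mul_apply, Fin.sum_univ_two, RingSL.coe_up,
    RingSL.coe_low, Matrix.of_apply, Matrix.cons_val', Matrix.cons_val_zero, Matrix.cons_val_one,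
    Matrix.cons_val_fin_one]
  ring

variable {e : F} {fA : (α → F) → (α → F) → F} {h : (β → F) → (β → F) → F}
  {f : (α × β → F) → (α × β → F) → F} {M L : Subgroup (GL (α × β) F)}

variable (hS : SC e fA h f M) (hL : Tgt fA h M L)
include hS hL

/-- A coefficient of the negated space everywhere: inside the target. -/
theorem SC.plane_top (hk : Fintype.card β = 2) (hq : 4 ≤ Fintype.card F) {g X d ζ : GL (α × β) F}
    {z u : β → F} (hg : g ∈ M) (hu : h u z = 1) (hX : IsRoot h X z (1 : F)) (hd : d = g * X * g⁻¹)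
    {y : (α → F) →ₗ[F] (α → F)} {W : Submodule F (α → F)} {S : W →ₗ[F] W} {B : Module.End F W}
    {G : Subgroup (GL (α × β) F)} (hG : G ≤ M) (hXs : Xsub hS.hh z ≤ G) (hFr : Frm h fA G X d ζ z u y W S B)
    (hall : ∀ m : SLF, ∃ w ∈ G, Rep (Algebra.ofId F (Module.End F W)) z u S w m) (hW : W = ⊤) : g ∈ L := by
  classical
  have hh := hS.hh
  have hz0 : z ≠ 0 := fun e0 => one_ne_zero (α := F) (by rw [← hu, e0, hh.toSesq.zero_right])
  have hρF : ∀ (a : F) (x : W), Algebra.ofId F (Module.End F W) a x = a • x := fun a x => by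
    rw [Algebra.ofId_apply, Module.algebraMap_end_apply]
  obtain ⟨p, hp⟩ := CharP.exists F
  haveI := hp
  haveI : Fact p.Prime := ⟨CharP.char_is_prime F p⟩
  obtain ⟨a, ha0, ha1⟩ := exists_sq_ne_one hq
  obtain ⟨g₀, hg₀, hg₀r⟩ := hall (RingSL.dia (Units.mk0 a ha0))
  have hXr : Rep (Algebra.ofId F (Module.End F W)) z u S X (RingSL.up (1 : F)) := fun ⟨b, c⟩ => by
    rw [act_up, hρF, hFr.hX X 1 hX]
  obtain ⟨p₀, hp₀⟩ : ∃ p₀, p₀ = g₀ * X * g₀⁻¹ := ⟨_, rfl⟩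
  have hxr : Rep (Algebra.ofId F (Module.End F W)) z u S p₀ (RingSL.up (a * a)) := by
    have h1 := hg₀r.conj hXr
    rw [← hp₀] at h1
    convert h1 using 1
    rw [RingSL.conj_up_of_zero _ (by simp)]
    simp
  have hXG : X ∈ G := hXs ⟨1, hX⟩
  have hXH : Xsub hS.hh z ≤ upRep (Algebra.ofId F (Module.End F W)) z u S G := by
    rintro Y ⟨r, hY⟩
    refine ⟨hXs ⟨r, hY⟩, r, fun ⟨v, w⟩ => ?_⟩
    rw [act_up, hρF, hFr.hX Y r hY]
  obtain ⟨w, ⟨hwG, r, hw⟩, hwL⟩ := hS.conj_to_L hL (p := p) (H := upRep (Algebra.ofId F (Module.End F W)) z u S G)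
    (fun x hx => hG hx.1) hz0 hXH (x := p₀) ⟨hp₀ ▸ mul_mem (mul_mem hg₀ hXG) (inv_mem hg₀), _, hxr⟩ (k := 1) (by
      rw [pow_one, hp₀, conj_pow]
      have h1 : X ^ p = 1 := Units.ext (Matrix.ext_iff_mulVec.2 fun t => by
        rw [hX.pow hh p, CharP.cast_eq_zero, zero_mul, zero_smul, add_zero, Units.val_one, Matrix.one_mulVec])
      rw [h1, mul_one, mul_inv_cancel])
  have hqL : w * g₀ ∈ L := by
    refine hL.conj (mul_mem (hG hwG) (hG hg₀)) hz0 hX ?_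
    rw [show w * g₀ * X * (w * g₀)⁻¹ = w * p₀ * w⁻¹ by rw [hp₀]; group]
    exact hwL
  obtain ⟨κ₁, κ₂, hκ⟩ := hS.upper_L hL hu hk hFr.nd hFr.ne hqL (hw.mul hg₀r) (by
    simp [Matrix.SpecialLinearGroup.coe_mul, Matrix.mul_apply, Fin.sum_univ_two])
  obtain ⟨s, hs⟩ : ∃ s, s = (r * a⁻¹ - κ₂ * a) / (a - a⁻¹) := ⟨_, rfl⟩
  have hane : a - a⁻¹ ≠ 0 := fun e0 => ha1 (by
    have := congrArg (· * a) e0
    simp only [sub_mul, inv_mul_cancel₀ ha0, zero_mul] at this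
    exact sub_eq_zero.1 this)
  have hSs : ∀ c : W, S c = s • c := fun c => by
    have h' := (hκ c).2
    simp only [Matrix.SpecialLinearGroup.coe_mul, Matrix.mul_apply, Fin.sum_univ_two, RingSL.coe_up, RingSL.coe_dia,
      Units.val_mk0, Units.val_inv_eq_inv_val, Matrix.of_apply, Matrix.cons_val', Matrix.cons_val_zero,
      Matrix.cons_val_one, Matrix.cons_val_fin_one, one_mul, zero_mul, mul_zero, add_zero, zero_add, hρF,
      map_smul] at h'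
    have e1 : (a - a⁻¹) • S c = (a - a⁻¹) • s • c := by
      rw [smul_smul, hs, mul_div_cancel₀ _ hane]
      linear_combination (norm := module) h'
    exact smul_right_injective _ hane e1
  refine hL.kron g hg (hS.line_kron hg hz0 (v := s • z + u) fun x => ?_)
  obtain ⟨t, ht⟩ : ∃ t, (d : Mn) *ᵥ t - t = (g : Mn) *ᵥ tmul x z := ⟨(g : Mn) *ᵥ tmul x u, by
    rw [hd, Units.val_mul, Units.val_mul, ← Matrix.mulVec_mulVec, ← Matrix.mulVec_mulVec, inv_mulVec_cancel, hX,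
      Matrix.mulVec_add, sl_tmul' hh, hu, one_smul, one_smul, add_sub_cancel_left]⟩
  obtain ⟨c, hc⟩ : ∃ c : W, (c : α → F) = sl h z t := ⟨⟨_, by rw [hW]; trivial⟩, rfl⟩
  obtain ⟨b, hb⟩ : ∃ b : W, ((b + S c : W) : α → F) = -sl h u t :=
    ⟨⟨-sl h u t, by rw [hW]; trivial⟩ - S c, by rw [sub_add_cancel]⟩
  have htb : t = pJ z u S (b, c) := by rw [pJ_apply, hb, hc]; exact tensor_dec2 hh hk hu t
  refine ⟨((B b : W) : α → F), ?_⟩
  rw [← ht, htb, hFr.hd, pJ_apply, pJ_apply, map_add, hSs, hSs]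
  simp only [Submodule.coe_add, Submodule.coe_smul, tmul_add_right, tmul_smul_right, tmul_add_left, tmul_smul_left]
  abel

/-- Odd characteristic, factors of dimension two over at least four elements: inside the target. -/
theorem SC.all_mem_plane (hk : Fintype.card β = 2) (hq : 4 ≤ Fintype.card F) {g : GL (α × β) F} (hg : g ∈ M) :
    g ∈ L := by
  classical
  by_contra hgk
  have hh := hS.hh
  obtain ⟨z, hz0⟩ := hS.toPr.exists_ne
  obtain ⟨u, hu, -⟩ := hh.partner hz0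
  obtain ⟨X, hXM, hX, -⟩ := hS.exists_root z (1 : F)
  obtain ⟨d, hd⟩ : ∃ d, d = g * X * g⁻¹ := ⟨_, rfl⟩
  have hdM : d ∈ M := hd ▸ mul_mem (mul_mem hg hXM) (inv_mem hg)
  have hdk : d ∉ L := fun h' => hgk (hL.conj hg hz0 hX (hd ▸ h'))
  obtain ⟨G, hGdef⟩ : ∃ G, G = gPair h g z := ⟨_, rfl⟩
  have hG : G ≤ M := by
    rw [hGdef, gPair, Subgroup.closure_le]
    rintro w ⟨a, ha | ha⟩
    · exact (hS.root_kron ha).1
    · have h1 := mul_mem (mul_mem hg (hS.root_kron ha).1) (inv_mem hg)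
      rwa [show g * (g⁻¹ * w * g) * g⁻¹ = w by group] at h1
  have hXs : Xsub hS.hh z ≤ G := by
    rintro Y ⟨a, hY⟩
    rw [hGdef]
    exact Subgroup.subset_closure ⟨a, Or.inl hY⟩
  have hXG : X ∈ G := hXs ⟨1, hX⟩
  have hdG : d ∈ G := by
    rw [hGdef]
    exact Subgroup.subset_closure ⟨1, Or.inr (by rw [hd, show g⁻¹ * (g * X * g⁻¹) * g = X by group]; exact hX)⟩
  have hdt : ∀ t, (d : Mn) *ᵥ t - t =
      (g : Mn) *ᵥ tmul (sl h z (((g⁻¹ : GL (α × β) F) : Mn) *ᵥ t)) z := fun t => by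
    rw [hd, Units.val_mul, Units.val_mul, ← Matrix.mulVec_mulVec, ← Matrix.mulVec_mulVec, hX, Matrix.mulVec_add,
      mulVec_inv_cancel, add_sub_cancel_left, one_smul]
  have hdsq : ((d : Mn) - 1) * ((d : Mn) - 1) = 0 := Matrix.ext_iff_mulVec.2 fun t => by
    simp only [← Matrix.mulVec_mulVec, Matrix.sub_mulVec, Matrix.one_mulVec, Matrix.zero_mulVec]
    rw [hdt ((d : Mn) *ᵥ t - t), hdt t, inv_mulVec_cancel, sl_tmul' hh, hh.self, zero_smul, tmul_zero_left,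
      Matrix.mulVec_zero]
  have hconj : ∀ (w : GL (α × β) F) (a : F), IsRoot h (g⁻¹ * w * g) z a →
      ∀ t, (w : Mn) *ᵥ t = t + a • ((d : Mn) *ᵥ t - t) := fun w a ha t => by
    have h1 := ha (((g⁻¹ : GL (α × β) F) : Mn) *ᵥ t)
    rw [Units.val_mul, Units.val_mul, ← Matrix.mulVec_mulVec, ← Matrix.mulVec_mulVec, mulVec_inv_cancel] at h1
    have h2 := congrArg (fun v => (g : Mn) *ᵥ v) h1
    simp only [mulVec_inv_cancel, Matrix.mulVec_add, Matrix.mulVec_smul] at h2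
    rw [h2, hdt]
  have hrootX : ∀ (w : GL (α × β) F) (a : F), IsRoot h w z a → ∀ t, (w : Mn) *ᵥ t = t + a • ((X : Mn) *ᵥ t - t) :=
    fun w a ha t => by rw [ha, hX, add_sub_cancel_left, one_smul]
  have hda : ∀ a : F, ∃ w ∈ G, ∀ t, (w : Mn) *ᵥ t = t + a • ((d : Mn) *ᵥ t - t) := fun a => by
    obtain ⟨Y, -, hY, -⟩ := hS.exists_root z a
    have e1 : g⁻¹ * (g * Y * g⁻¹) * g = Y := by group
    refine ⟨g * Y * g⁻¹, ?_, hconj _ a (by rw [e1]; exact hY)⟩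
    rw [hGdef]
    exact Subgroup.subset_closure ⟨a, Or.inr (by rw [e1]; exact hY)⟩
  have hfix : ∀ t, (X : Mn) *ᵥ t = t → (d : Mn) *ᵥ t = t → ∀ w ∈ G, (w : Mn) *ᵥ t = t := fun t h1 h2 w hw => by
    rw [hGdef] at hw
    refine fix_closure ?_ hw
    rintro w' ⟨a, ha | ha⟩
    · rw [hrootX w' a ha, h1, sub_self, smul_zero, add_zero]
    · rw [hconj w' a ha, h2, sub_self, smul_zero, add_zero]
  have hcentral : ∀ ζ : GL (α × β) F, ζ * X = X * ζ → ζ * d = d * ζ → ∀ w ∈ G, ζ * w = w * ζ := by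
    intro ζ h1 h2 w hw
    rw [hGdef] at hw
    have hle : gPair h g z ≤ Subgroup.centralizer {ζ} := by
      rw [gPair, Subgroup.closure_le]
      rintro w' ⟨a, ha | ha⟩
      · exact Subgroup.mem_centralizer_singleton_iff.2 (comm_of_scaled (hrootX w' a ha) h1).symm
      · exact Subgroup.mem_centralizer_singleton_iff.2 (comm_of_scaled (hconj w' a ha) h2).symm
    exact (Subgroup.mem_centralizer_singleton_iff.1 (hle hw)).symm
  obtain ⟨ζ₀, hζ₀⟩ : ∃ ζ, IsInv G ζ := by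
    obtain ⟨ζ, hζc, hζ1, hζ2, hζX, hζd⟩ := hS.exists_invol hL hz0 hX hdM hdk hdsq
    exact ⟨ζ, (Subgroup.closure_le _).2 (by rintro _ (rfl | rfl); exacts [hXG, hdG]) hζc, hζ1, hζ2,
      hcentral ζ hζX hζd⟩
  obtain ⟨ζ, hζ, hmax⟩ := Set.exists_max_image {ζ : GL (α × β) F | IsInv G ζ}
    (fun ζ => finrank F (Em ζ)) (Set.toFinite _) ⟨ζ₀, hζ₀⟩
  obtain ⟨y, W, S, B, hFr⟩ := hS.frame hk hG hu hX hXG hdG hdsq hfix hζ
  obtain ⟨b, hb0, hB⟩ := hS.frame_scalar hL hk hq hu hFr hG hXs hda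
  have hall := fun m => hS.frame_all hFr hXs hda hb0 hB m
  by_cases hW : W = ⊤
  · exact hgk (hS.plane_top hL hk hq hg hu hX hd hG hXs hFr hall hW)
  obtain ⟨hζG, hζ1, hζ2, hζc⟩ := hζ
  let ρ := Algebra.ofId F (Module.End F W)
  have hρF : ∀ (a : F) (x : W), ρ a x = a • x := fun a x => by
    show Algebra.ofId F (Module.End F W) a x = _
    rw [Algebra.ofId_apply, Module.algebraMap_end_apply]
  let K : Subgroup (GL (α × β) F) :=
    { carrier := {w | w ∈ G ∧ ∀ t, (ζ : Mn) *ᵥ t = t → (w : Mn) *ᵥ t = t}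
      mul_mem' := fun {a b} ha hb => ⟨mul_mem ha.1 hb.1, fun t ht => by
        rw [Units.val_mul, ← Matrix.mulVec_mulVec, hb.2 t ht, ha.2 t ht]⟩
      one_mem' := ⟨one_mem _, fun t _ => by simp⟩
      inv_mem' := fun {a} ha => ⟨inv_mem ha.1, fun t ht => by
        conv_lhs => rw [← ha.2 t ht]
        rw [inv_mulVec_cancel]⟩ }
  let N : Subgroup SLF := repSub ρ z u S K
  haveI : N.Normal := ⟨fun n hn m => by
    obtain ⟨k, ⟨hkG, hkt⟩, hk'⟩ := hn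
    obtain ⟨w, hwG, hw⟩ := hall m
    refine ⟨w * k * w⁻¹, ⟨mul_mem (mul_mem hwG hkG) (inv_mem hwG), fun t ht => ?_⟩, hw.conj hk'⟩
    have hc' : ζ * w⁻¹ = w⁻¹ * ζ := hζc _ (inv_mem hwG)
    have e1 := hkt (((w⁻¹ : GL (α × β) F) : Mn) *ᵥ t) (by
      rw [Matrix.mulVec_mulVec, ← Units.val_mul, hc', Units.val_mul, ← Matrix.mulVec_mulVec, ht])
    rw [Units.val_mul, Units.val_mul, ← Matrix.mulVec_mulVec, ← Matrix.mulVec_mulVec, e1, mulVec_inv_cancel]⟩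
  by_cases hN : N ≤ Subgroup.center SLF
  swap
  · have hPSL := PSL_isSimple (F := F) (n := 2) le_rfl (fun _ => hq)
    have htop : N = ⊤ := SL_normal_eq_top
      (SL_commutator_eq_top (fun _ => exists_sq_ne_one_field hq)) N hN
    obtain ⟨k, ⟨hkG, hkt⟩, hk'⟩ : RingSL.up (1 : F) ∈ N := htop ▸ Subgroup.mem_top _
    obtain ⟨P, hP⟩ : ∃ P : (α → F) →ₗ[F] (α → F), P = (2 : F)⁻¹ • (LinearMap.id - y) := ⟨_, rfl⟩
    have hin : In M (rM h z P) := by
      refine ⟨k, hG hkG, fun t => ?_⟩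
      have hsl0 : ∀ s, (ζ : Mn) *ᵥ s = s → P (sl h z s) = 0 := fun s hs => by
        rw [hP, LinearMap.smul_apply, LinearMap.sub_apply, LinearMap.id_apply, ← hFr.sl_inv, hs, sub_self, smul_zero]
      have hsl1 : ∀ s ∈ Em ζ, P (sl h z s) = sl h z s := fun s hs => by
        rw [hP, LinearMap.smul_apply, LinearMap.sub_apply, LinearMap.id_apply, ← hFr.sl_inv, mem_Em.1 hs, map_neg,
          sub_neg_eq_add, ← two_smul F (sl h z s), smul_smul, inv_mul_cancel₀ hS.h2, one_smul]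
      have key : (k : Mn) = 1 + LinearMap.toMatrix' (rM h z P) := by
        refine ext_pm hS.h2 hζ2 (fun s hs => ?_) (fun s hs => ?_)
        · rw [Matrix.add_mulVec, Matrix.one_mulVec, LinearMap.toMatrix'_mulVec, hkt s hs, rM, rootMap_apply,
            show slice (fn h z) s = sl h z s from rfl, hsl0 s hs, tmul_zero_left, add_zero]
        · obtain ⟨⟨v, c⟩, rfl⟩ := (hFr.onto s).1 hs
          rw [Matrix.add_mulVec, Matrix.one_mulVec, LinearMap.toMatrix'_mulVec, hk', rM, rootMap_apply,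
            show slice (fn h z) (pJ z u S (v, c)) = sl h z (pJ z u S (v, c)) from rfl, hsl1 _ hs, act_up, hρF,
            one_smul, pJ_apply, pJ_apply, map_add, sl_tmul' hh, sl_tmul' hh, hh.self, hu, zero_smul, zero_add,
            one_smul, add_right_comm v c]
          simp only [Submodule.coe_add, tmul_add_left]
          abel
      rw [key, Matrix.add_mulVec, Matrix.one_mulVec, LinearMap.toMatrix'_mulVec]
    obtain ⟨μ, hμ⟩ := hS.scal P (hS.toPr.uc_of hz0 hin)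
    obtain ⟨x₀, hx₀, hx₀0⟩ := Submodule.exists_mem_ne_zero_of_ne_bot hFr.ne
    have hμ1 : μ = 1 := by
      have h1 := hμ x₀
      rw [hP, LinearMap.smul_apply, LinearMap.sub_apply, LinearMap.id_apply, (hFr.mem _).1 hx₀, sub_neg_eq_add,
        ← two_smul F x₀, smul_smul, inv_mul_cancel₀ hS.h2, one_smul] at h1
      refine (smul_left_injective F hx₀0 ?_).symm
      show (1 : F) • x₀ = μ • x₀
      rw [one_smul, ← h1]
    refine hW (Submodule.eq_top_iff'.2 fun x => (hFr.mem x).2 ?_)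
    have h1 := hμ x
    rw [hP, LinearMap.smul_apply, LinearMap.sub_apply, LinearMap.id_apply, hμ1, one_smul] at h1
    have h3 := congrArg (fun v => (2 : F) • v) h1
    simp only [smul_smul, mul_inv_cancel₀ hS.h2, one_smul] at h3
    linear_combination (norm := module) -h3
  have hKc : ∀ k ∈ G, (∀ t, (ζ : Mn) *ᵥ t = t → (k : Mn) *ᵥ t = t) → ∀ m : SLF, Rep ρ z u S k m →
      ∃ r : F, (r = 1 ∨ r = -1) ∧ m.1 = r • (1 : Matrix (Fin 2) (Fin 2) F) :=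
    fun k hkG hkt m hm => center_val (hN ⟨k, ⟨hkG, hkt⟩, hm⟩)
  have hrepX : Rep ρ z u S X (RingSL.up (1 : F)) := fun ⟨v, c⟩ => by
    rw [act_up, hρF, hFr.hX X 1 hX]
  have hrepd : Rep ρ z u S d (RingSL.low b) := fun ⟨v, c⟩ => by
    rw [act_low, hρF, hFr.hd, hB]
  obtain ⟨X', hX'p, hX'm⟩ := exists_psi hS.h2 hζ2 (hζc X hXG)
  obtain ⟨d', hd'p, hd'm⟩ := exists_psi hS.h2 hζ2 (hζc d hdG)
  have hpre : ∀ w' ∈ Subgroup.closure ({X', d'} : Set (GL (α × β) F)),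
      ∃ w ∈ Subgroup.closure ({X, d} : Set (GL (α × β) F)),
        (∀ t, (ζ : Mn) *ᵥ t = t → (w' : Mn) *ᵥ t = (w : Mn) *ᵥ t) ∧ ∀ t ∈ Em ζ, (w' : Mn) *ᵥ t = t := by
    have hclG : Subgroup.closure ({X, d} : Set (GL (α × β) F)) ≤ G :=
      (Subgroup.closure_le _).2 (by rintro _ (rfl | rfl); exacts [hXG, hdG])
    have hpl : ∀ w ∈ G, ∀ t, (ζ : Mn) *ᵥ t = t → (ζ : Mn) *ᵥ ((w : Mn) *ᵥ t) = (w : Mn) *ᵥ t := fun w hw t ht => by
      rw [Matrix.mulVec_mulVec, ← Units.val_mul, hζc w hw, Units.val_mul, ← Matrix.mulVec_mulVec, ht]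
    intro w' hw'
    induction hw' using Subgroup.closure_induction with
    | mem w' hw' =>
      rcases hw' with rfl | rfl
      · exact ⟨X, Subgroup.subset_closure (by simp), hX'p, hX'm⟩
      · exact ⟨d, Subgroup.subset_closure (by simp), hd'p, hd'm⟩
    | one => exact ⟨1, one_mem _, fun t _ => rfl, fun t _ => by simp⟩
    | mul w₁ w₂ _ _ h₁ h₂ =>
      obtain ⟨v₁, hv₁, p₁, m₁⟩ := h₁
      obtain ⟨v₂, hv₂, p₂, m₂⟩ := h₂
      refine ⟨v₁ * v₂, mul_mem hv₁ hv₂, fun t ht => ?_, fun t ht => ?_⟩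
      · rw [Units.val_mul, Units.val_mul, ← Matrix.mulVec_mulVec, ← Matrix.mulVec_mulVec, p₂ t ht,
          p₁ _ (hpl v₂ (hclG hv₂) t ht)]
      · rw [Units.val_mul, ← Matrix.mulVec_mulVec, m₂ t ht, m₁ t ht]
    | inv w₁ _ h₁ =>
      obtain ⟨v₁, hv₁, p₁, m₁⟩ := h₁
      refine ⟨v₁⁻¹, inv_mem hv₁, fun t ht => gl_mulVec_injective w₁ ?_, fun t ht => gl_mulVec_injective w₁ ?_⟩
      · show (w₁ : Mn) *ᵥ _ = (w₁ : Mn) *ᵥ _
        rw [mulVec_inv_cancel, p₁ _ (hpl _ (inv_mem (hclG hv₁)) t ht), mulVec_inv_cancel]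
      · show (w₁ : Mn) *ᵥ _ = (w₁ : Mn) *ᵥ _
        rw [mulVec_inv_cancel, m₁ t ht]
  have hiso : ∀ w' w : GL (α × β) F, w ∈ M → ζ * w = w * ζ →
      (∀ t, (ζ : Mn) *ᵥ t = t → (w' : Mn) *ᵥ t = (w : Mn) *ᵥ t) → (∀ t ∈ Em ζ, (w' : Mn) *ᵥ t = t) →
      ∀ s t, f ((w' : Mn) *ᵥ s) ((w' : Mn) *ᵥ t) = f s t := by
    intro w' w hwM hwc hp' hm' s t
    have horth : ∀ p m : V, (ζ : Mn) *ᵥ p = p → (ζ : Mn) *ᵥ m = -m → f p m = 0 ∧ f m p = 0 := fun p m hp hm => by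
      have h1 := hS.iso (hG hζG) p m
      rw [hp, hm, ← neg_one_smul F m, hS.hV.smul_right, RingEquiv.refl_apply, neg_one_mul] at h1
      have h3 : f p m = 0 := (mul_eq_zero.1 (show (2 : F) * f p m = 0 by linear_combination -h1)).resolve_left hS.h2
      exact ⟨h3, hS.hV.refl _ _ h3⟩
    have hdec : ∀ s : V, ∃ p m : V, (ζ : Mn) *ᵥ p = p ∧ (ζ : Mn) *ᵥ m = -m ∧ s = p + m := fun s => by
      have hζζ : (ζ : Mn) *ᵥ ((ζ : Mn) *ᵥ s) = s := by
        rw [Matrix.mulVec_mulVec, ← Units.val_mul, hζ2, Units.val_one, Matrix.one_mulVec]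
      refine ⟨(2 : F)⁻¹ • (s + (ζ : Mn) *ᵥ s), (2 : F)⁻¹ • (s - (ζ : Mn) *ᵥ s), ?_, ?_, ?_⟩
      · rw [Matrix.mulVec_smul, Matrix.mulVec_add, hζζ, add_comm]
      · rw [Matrix.mulVec_smul, Matrix.mulVec_sub, hζζ, ← smul_neg, neg_sub]
      · rw [← smul_add, add_add_sub_cancel, ← two_smul F s, smul_smul, inv_mul_cancel₀ hS.h2, one_smul]
    obtain ⟨p, m, hp, hm, rfl⟩ := hdec s
    obtain ⟨q, n, hq', hn, rfl⟩ := hdec t
    have hpl : ∀ t, (ζ : Mn) *ᵥ t = t → (ζ : Mn) *ᵥ ((w : Mn) *ᵥ t) = (w : Mn) *ᵥ t := fun t ht => by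
      rw [Matrix.mulVec_mulVec, ← Units.val_mul, hwc, Units.val_mul, ← Matrix.mulVec_mulVec, ht]
    rw [Matrix.mulVec_add, Matrix.mulVec_add, hp' p hp, hm' m (mem_Em.2 hm), hp' q hq', hm' n (mem_Em.2 hn)]
    simp only [hS.hV.add_left, hS.hV.add_right, (horth p n hp hn).1, (horth q m hq' hm).2,
      (horth _ n (hpl p hp) hn).1, (horth _ m (hpl q hq') hm).2, hS.iso hwM]
  have hsq : ∀ w' w : GL (α × β) F, ((w : Mn) - 1) * ((w : Mn) - 1) = 0 → ζ * w = w * ζ →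
      (∀ t, (ζ : Mn) *ᵥ t = t → (w' : Mn) *ᵥ t = (w : Mn) *ᵥ t) → (∀ t ∈ Em ζ, (w' : Mn) *ᵥ t = t) →
      ((w' : Mn) - 1) * ((w' : Mn) - 1) = 0 := fun w' w hw2 hwc hp' hm' => by
    refine ext_pm hS.h2 hζ2 (fun t ht => ?_) (fun t ht => ?_)
    · have e1 := congrArg (fun A : Mn => A *ᵥ t) hw2
      simp only [← Matrix.mulVec_mulVec, Matrix.sub_mulVec, Matrix.one_mulVec, Matrix.zero_mulVec] at e1 ⊢
      rw [hp' t ht, hp' _ (by
        rw [Matrix.mulVec_sub, ht, Matrix.mulVec_mulVec, ← Units.val_mul, hwc, Units.val_mul, ← Matrix.mulVec_mulVec,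
          ht])]
      exact e1
    · simp only [← Matrix.mulVec_mulVec, Matrix.sub_mulVec, Matrix.one_mulVec, Matrix.zero_mulVec]
      rw [hm' t ht, sub_self, Matrix.mulVec_zero, sub_self]
  obtain ⟨p, hp⟩ := CharP.exists F
  haveI := hp
  haveI : Fact p.Prime := ⟨CharP.char_is_prime F p⟩
  have hpodd : p ≠ 2 := by
    rintro rfl
    exact hS.h2 (by exact_mod_cast CharP.cast_eq_zero F 2)
  obtain ⟨i₀⟩ : Nonempty α := Fintype.card_pos_iff.1 (by have := hS.ha; omega)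
  obtain ⟨j₀⟩ := hS.toPr.nonempty_b
  haveI : Nonempty (α × β) := ⟨(i₀, j₀)⟩
  let Wf : V →+ V →+ F := AddMonoidHom.mk' (fun x => AddMonoidHom.mk' (fun y => f x y) (fun a b => hS.hV.add_right x a b))
    (fun a b => AddMonoidHom.ext fun y => hS.hV.add_left a b y)
  have hP : QuadPair.Pair Wf X' d' :=
    { two := hS.h2
      nd := fun x hx => hS.hV.eq_zero x fun y => hS.hV.refl _ _ (hx y)
      symm := fun x y h' => hS.hV.refl x y h'
      iso := hiso X' X hXM (hζc X hXG) hX'p hX'm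
      iso' := hiso d' d hdM (hζc d hdG) hd'p hd'm
      sq := hsq X' X (hX.sq hh) (hζc X hXG) hX'p hX'm
      sq' := hsq d' d hdsq (hζc d hdG) hd'p hd'm }
  rcases hP.dichotomy (p := p) with ⟨z', hz'c, hz'1, hz'2, hz'X, hz'd⟩ | hpg
  swap
  · have htr : ∀ (w w' : GL (α × β) F) (m : SLF), w ∈ G → Rep ρ z u S w m →
        (∀ t, (ζ : Mn) *ᵥ t = t → (w' : Mn) *ᵥ t = (w : Mn) *ᵥ t) →
        w' ∈ Subgroup.closure ({X', d'} : Set (GL (α × β) F)) → SL2.tr m = 2 ∨ SL2.tr m = -2 := by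
      intro w w' m hwG hm hp' hw'
      obtain ⟨k, hk'⟩ := hpg ⟨w', hw'⟩
      have hk1 : w' ^ p ^ k = 1 := congrArg Subtype.val hk'
      have hpow : ∀ (n : ℕ) (t : V), (ζ : Mn) *ᵥ t = t →
          ((w' ^ n : GL (α × β) F) : Mn) *ᵥ t = ((w ^ n : GL (α × β) F) : Mn) *ᵥ t := by
        intro n
        induction n with
        | zero => intro t _; simp
        | succ n ih =>
          intro t ht
          rw [pow_succ, pow_succ, Units.val_mul, Units.val_mul, ← Matrix.mulVec_mulVec, ← Matrix.mulVec_mulVec,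
            hp' t ht, ih]
          rw [Matrix.mulVec_mulVec, ← Units.val_mul, hζc w hwG, Units.val_mul, ← Matrix.mulVec_mulVec, ht]
      obtain ⟨r, hr, hm'⟩ := hKc (w ^ p ^ k) (pow_mem hwG _) (fun t ht => by
        rw [← hpow _ t ht, hk1, Units.val_one, Matrix.one_mulVec]) _ (hm.pow _)
      rw [Matrix.SpecialLinearGroup.coe_pow] at hm'
      have := SL2.tr_eq_two_of_pow p r hr hpodd hm'
      rcases hr with rfl | rfl
      · exact Or.inl (by rw [this, mul_one])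
      · exact Or.inr (by rw [this]; ring)
    have t1 := htr (X * d) (X' * d') _ (mul_mem hXG hdG) (hrepX.mul hrepd) (fun t ht => by
      rw [Units.val_mul, Units.val_mul, ← Matrix.mulVec_mulVec, ← Matrix.mulVec_mulVec, hd'p t ht, hX'p]
      rw [Matrix.mulVec_mulVec, ← Units.val_mul, hζc d hdG, Units.val_mul, ← Matrix.mulVec_mulVec, ht])
      (mul_mem (Subgroup.subset_closure (by simp)) (Subgroup.subset_closure (by simp)))
    have t2 := htr (X * (X * d)) (X' * (X' * d')) _ (mul_mem hXG (mul_mem hXG hdG))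
      (hrepX.mul (hrepX.mul hrepd)) (fun t ht => by
      have e1 : (ζ : Mn) *ᵥ ((d : Mn) *ᵥ t) = (d : Mn) *ᵥ t := by
        rw [Matrix.mulVec_mulVec, ← Units.val_mul, hζc d hdG, Units.val_mul, ← Matrix.mulVec_mulVec, ht]
      rw [Units.val_mul, Units.val_mul, Units.val_mul, Units.val_mul, ← Matrix.mulVec_mulVec, ← Matrix.mulVec_mulVec,
        ← Matrix.mulVec_mulVec, ← Matrix.mulVec_mulVec, hd'p t ht, hX'p _ e1, hX'p]
      rw [Matrix.mulVec_mulVec, ← Units.val_mul, hζc X hXG, Units.val_mul, ← Matrix.mulVec_mulVec, e1])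
      (mul_mem (Subgroup.subset_closure (by simp)) (mul_mem (Subgroup.subset_closure (by simp))
        (Subgroup.subset_closure (by simp))))
    rw [tr_up_low, one_mul] at t1
    rw [← mul_assoc, RingSL.up_mul, tr_up_low] at t2
    have h4 : (4 : F) ≠ 0 := by
      rw [show (4 : F) = 2 * 2 by norm_num]; exact mul_ne_zero hS.h2 hS.h2
    rcases t1 with t1 | t1
    · exact hb0 (by linear_combination t1)
    rcases t2 with t2 | t2
    · exact hb0 ((mul_eq_zero.1 (show (2 : F) * b = 0 by linear_combination t2)).resolve_left hS.h2)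
    · exact h4 (by linear_combination 2 * t1 - t2)
  obtain ⟨g₁, hg₁c, hp₁, hm₁⟩ := hpre z' hz'c
  have hclG : Subgroup.closure ({X, d} : Set (GL (α × β) F)) ≤ G :=
    (Subgroup.closure_le _).2 (by rintro _ (rfl | rfl); exacts [hXG, hdG])
  have hg₁G : g₁ ∈ G := hclG hg₁c
  have hrep : ∀ w ∈ Subgroup.closure ({X, d} : Set (GL (α × β) F)), ∃ m : SLF, Rep ρ z u S w m := by
    intro w hw
    induction hw using Subgroup.closure_induction with
    | mem w hw =>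
      rcases hw with rfl | rfl
      · exact ⟨_, hrepX⟩
      · exact ⟨_, hrepd⟩
    | one => exact ⟨1, Rep.one⟩
    | mul w₁ w₂ _ _ h₁ h₂ => obtain ⟨m₁, e₁⟩ := h₁; obtain ⟨m₂, e₂⟩ := h₂; exact ⟨_, e₁.mul e₂⟩
    | inv w₁ _ h₁ => obtain ⟨m₁, e₁⟩ := h₁; exact ⟨_, e₁.inv⟩
  obtain ⟨m₁, hm1⟩ := hrep g₁ hg₁c
  have hpl : ∀ w ∈ G, ∀ t, (ζ : Mn) *ᵥ t = t → (ζ : Mn) *ᵥ ((w : Mn) *ᵥ t) = (w : Mn) *ᵥ t := fun w hw t ht => by
    rw [Matrix.mulVec_mulVec, ← Units.val_mul, hζc w hw, Units.val_mul, ← Matrix.mulVec_mulVec, ht]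
  have hplus : ∀ (w : GL (α × β) F), w ∈ G → ∀ (w' : GL (α × β) F),
      (∀ t, (ζ : Mn) *ᵥ t = t → (w' : Mn) *ᵥ t = (w : Mn) *ᵥ t) → z' * w' = w' * z' →
      ∀ t, (ζ : Mn) *ᵥ t = t → ((g₁ * w : GL (α × β) F) : Mn) *ᵥ t = ((w * g₁ : GL (α × β) F) : Mn) *ᵥ t := by
    intro w hwG w' hw' hcom t ht
    have h1 := congrArg (fun v : GL (α × β) F => (v : Mn) *ᵥ t) hcom
    simp only [Units.val_mul, ← Matrix.mulVec_mulVec, hp₁ t ht, hw' t ht] at h1 ⊢
    rwa [hp₁ _ (hpl w hwG t ht), hw' _ (hpl g₁ hg₁G t ht)] at h1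
  have hcomX := hplus X hXG X' hX'p hz'X
  have hcomd := hplus d hdG d' hd'p hz'd
  have hcomm : ∀ (w : GL (α × β) F) (m : SLF), w ∈ G → Rep ρ z u S w m → SL2.tr m = 2 →
      (∀ t, (ζ : Mn) *ᵥ t = t → ((g₁ * w : GL (α × β) F) : Mn) *ᵥ t = ((w * g₁ : GL (α × β) F) : Mn) *ᵥ t) →
      m₁ * m = m * m₁ := by
    intro w m hwG hm htr hcom
    obtain ⟨r, hr, hr'⟩ := hKc (w⁻¹ * (g₁ * w * g₁⁻¹)) (mul_mem (inv_mem hwG) (mul_mem (mul_mem hg₁G hwG) (inv_mem hg₁G)))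
      (fun t ht => by
        have e1 := hcom (((g₁⁻¹ : GL (α × β) F) : Mn) *ᵥ t) (hpl _ (inv_mem hg₁G) t ht)
        simp only [Units.val_mul, ← Matrix.mulVec_mulVec] at e1 ⊢
        rw [e1, inv_mulVec_cancel, mulVec_inv_cancel]) _ (hm.inv.mul (hm1.conj hm))
    have e2 : (m₁ * m * m₁⁻¹).1 = r • m.1 := by
      have e3 : m₁ * m * m₁⁻¹ = m * (m⁻¹ * (m₁ * m * m₁⁻¹)) := by group
      rw [e3, Matrix.SpecialLinearGroup.coe_mul, hr', mul_smul_comm, mul_one]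
    have e4 : SL2.tr (m₁ * m * m₁⁻¹) = r * SL2.tr m := by
      simp only [SL2.tr, e2, Matrix.smul_apply, smul_eq_mul]; ring
    rw [SL2.tr_conj, htr] at e4
    have hr1 : r = 1 := by
      have : (r - 1) * 2 = 0 := by linear_combination -e4
      exact sub_eq_zero.1 ((mul_eq_zero.1 this).resolve_right hS.h2)
    exact mul_inv_eq_iff_eq_mul.1 (Subtype.ext (by rw [e2, hr1, one_smul]))
  have hc1 := hcomm X _ hXG hrepX (by simp [SL2.tr, RingSL.coe_up]; norm_num) hcomX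
  have hc2 := hcomm d _ hdG hrepd (by simp [SL2.tr, RingSL.coe_low]; norm_num) hcomd
  have f1 := congrArg (fun m : SLF => m.1 0 0) hc1
  have f2 := congrArg (fun m : SLF => m.1 0 1) hc1
  have f3 := congrArg (fun m : SLF => m.1 0 0) hc2
  simp [Matrix.SpecialLinearGroup.coe_mul, Matrix.mul_apply, Fin.sum_univ_two, RingSL.coe_up,
    RingSL.coe_low] at f1 f2 f3
  have h10 : m₁.1 1 0 = 0 := by linear_combination f1
  have h01 : m₁.1 0 1 = 0 := (f3.resolve_right hb0)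
  obtain ⟨r, hr, hm1r⟩ : ∃ r : F, (r = 1 ∨ r = -1) ∧ m₁.1 = r • (1 : Matrix (Fin 2) (Fin 2) F) := by
    have hd2 := SL2.det_eq m₁
    have h00 : m₁.1 0 0 = m₁.1 1 1 := by linear_combination f2
    rw [h10, h00, mul_zero, sub_zero] at hd2
    refine ⟨m₁.1 1 1, mul_self_eq_one_iff.1 hd2, ?_⟩
    ext i j
    fin_cases i <;> fin_cases j <;> simp [h10, h01, h00]
  have hg₁m : ∀ t ∈ Em ζ, (g₁ : Mn) *ᵥ t = r • t := fun t ht => by
    obtain ⟨⟨v, c⟩, rfl⟩ := (hFr.onto t).1 ht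
    rw [hm1, ← map_smul]
    congr 1
    simp [act, hm1r, hρF]
  obtain ⟨ξ, hξp, hξm, hξG, hξc⟩ : ∃ ξ : GL (α × β) F, (∀ t, (ζ : Mn) *ᵥ t = t → (ξ : Mn) *ᵥ t = (g₁ : Mn) *ᵥ t) ∧
      (∀ t ∈ Em ζ, (ξ : Mn) *ᵥ t = -t) ∧ ξ ∈ G ∧ ∀ t ∈ Em ζ, (g₁ : Mn) *ᵥ t = r • t := by
    rcases hr with rfl | rfl
    · refine ⟨g₁ * ζ, fun t ht => by rw [Units.val_mul, ← Matrix.mulVec_mulVec, ht], fun t ht => ?_,
        mul_mem hg₁G hζG, hg₁m⟩
      rw [Units.val_mul, ← Matrix.mulVec_mulVec, mem_Em.1 ht, Matrix.mulVec_neg, hg₁m t ht, one_smul]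
    · exact ⟨g₁, fun t _ => rfl, fun t ht => by rw [hg₁m t ht, neg_one_smul], hg₁G, hg₁m⟩
  have hg₁p2 : ∀ t, (ζ : Mn) *ᵥ t = t → (g₁ : Mn) *ᵥ ((g₁ : Mn) *ᵥ t) = t := fun t ht => by
    have h1 := congrArg (fun v : GL (α × β) F => (v : Mn) *ᵥ t) hz'2
    simp only [Units.val_mul, ← Matrix.mulVec_mulVec, hp₁ t ht, Units.val_one, Matrix.one_mulVec] at h1
    rwa [hp₁ _ (hpl g₁ hg₁G t ht)] at h1
  have hξ2 : ξ * ξ = 1 := Units.ext (ext_pm hS.h2 hζ2 (fun t ht => by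
    rw [Units.val_mul, ← Matrix.mulVec_mulVec, hξp t ht, hξp _ (hpl g₁ hg₁G t ht), hg₁p2 t ht, Units.val_one,
      Matrix.one_mulVec]) (fun t ht => by
    rw [Units.val_mul, ← Matrix.mulVec_mulVec, hξm t ht, Matrix.mulVec_neg, hξm t ht, neg_neg, Units.val_one,
      Matrix.one_mulVec]))
  have hξcom : ∀ w : GL (α × β) F, w ∈ G →
      (∀ t, (ζ : Mn) *ᵥ t = t → ((g₁ * w : GL (α × β) F) : Mn) *ᵥ t = ((w * g₁ : GL (α × β) F) : Mn) *ᵥ t) →
      ξ * w = w * ξ := fun w hwG hcom => Units.ext (ext_pm hS.h2 hζ2 (fun t ht => by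
    have e1 := hcom t ht
    simp only [Units.val_mul, ← Matrix.mulVec_mulVec] at e1 ⊢
    rw [hξp _ (hpl w hwG t ht), hξp t ht, e1]) (fun t ht => by
    have e1 : (w : Mn) *ᵥ t ∈ Em ζ := mem_Em.2 (by
      rw [Matrix.mulVec_mulVec, ← Units.val_mul, hζc w hwG, Units.val_mul, ← Matrix.mulVec_mulVec, mem_Em.1 ht,
        Matrix.mulVec_neg])
    simp only [Units.val_mul, ← Matrix.mulVec_mulVec]
    rw [hξm _ e1, hξm t ht, Matrix.mulVec_neg]))
  obtain ⟨t₀, ht₀, ht₀'⟩ : ∃ t, (ζ : Mn) *ᵥ t = t ∧ (g₁ : Mn) *ᵥ t ≠ t := by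
    by_contra hc
    push Not at hc
    exact hz'1 (Units.ext (ext_pm hS.h2 hζ2 (fun t ht => by rw [hp₁ t ht, hc t ht, Units.val_one, Matrix.one_mulVec])
      (fun t ht => by rw [hm₁ t ht, Units.val_one, Matrix.one_mulVec])))
  obtain ⟨t₁, ht₁⟩ : ∃ t₁, t₁ = (g₁ : Mn) *ᵥ t₀ - t₀ := ⟨_, rfl⟩
  have ht₁p : (ζ : Mn) *ᵥ t₁ = t₁ := by rw [ht₁, Matrix.mulVec_sub, hpl g₁ hg₁G t₀ ht₀, ht₀]
  have ht₁ξ : t₁ ∈ Em ξ := mem_Em.2 (by
    rw [hξp t₁ ht₁p, ht₁, Matrix.mulVec_sub, hg₁p2 t₀ ht₀, neg_sub])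
  have ht₁ζ : t₁ ∉ Em ζ := fun h' => by
    have h1 := mem_Em.1 h'
    rw [ht₁p] at h1
    have h3 : (2 : F) • t₁ = 0 := by rw [two_smul]; nth_rw 2 [h1]; exact add_neg_cancel t₁
    exact ht₀' (sub_eq_zero.1 (ht₁ ▸ (smul_eq_zero.1 h3).resolve_left hS.h2))
  have hξ1 : ξ ≠ 1 := fun e0 => by
    have h1 := mem_Em.1 ht₁ξ
    rw [e0, Units.val_one, Matrix.one_mulVec] at h1
    exact ht₁ζ (mem_Em.2 (by rw [ht₁p]; exact h1))
  have hlt : Em ζ < Em ξ := lt_of_le_of_ne (fun t ht => mem_Em.2 (hξm t ht)) fun e0 => ht₁ζ (e0 ▸ ht₁ξ)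
  exact absurd (hmax ξ ⟨hξG, hξ1, hξ2, hcentral ξ (hξcom X hXG hcomX) (hξcom d hdG hcomd)⟩)
    (not_le.2 (Submodule.finrank_lt_finrank_of_lt hlt))

/-- Odd characteristic: inside the target. -/
theorem SC.all_mem (h : 3 ≤ Fintype.card β ∨ (Fintype.card β = 2 ∧ 4 ≤ Fintype.card F)) {g : GL (α × β) F}
    (hg : g ∈ M) : g ∈ L := by
  rcases h with h3 | ⟨h2, hq⟩
  · exact hS.all_mem_big hL h3 hg
  · exact hS.all_mem_plane hL h2 hq hg

end Cfsg.Agent.Classical.TensorSymp
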