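import Cfsg.Agent.Lib.Classical.TensorPowSymp.Kron
import Cfsg.Agent.Lib.Classical.TensorPowSymp.PlaneMain

/-!
A proper overgroup in odd characteristic lies in the stabiliser.
-/

set_option autoImplicit false
set_option linter.unusedSectionVars false
set_option linter.unusedSimpArgs false
set_option linter.style.haveILetI false

open scoped Kronecker

namespace Cfsg.Agent.Classical.TensorSymp

open Matrix Module MaxTv TensorMax TensorPow Overfield

variable {F : Type*} [Field F] [Fintype F] {κ β : Type} [Fintype κ] [DecidableEq κ] [Fintype β] [DecidableEq β]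

local notation "X" => (κ → β)
local notation "V" => ((κ → β) → F)
local notation "Mn" => Matrix (κ → β) (κ → β) F
local notation "Mb" => Matrix β β F

variable {c : F} {h : (β → F) → (β → F) → F} {M : Subgroup (GL (κ → β) F)}

/-- Lines of a factor are totally isotropic. -/
theorem SData.line_isotropic (hT : SData c h) (j : κ) (w : β → F) {x x' : V} (hx : x ∈ line j w)
    (hx' : x' ∈ line j w) : tf c h x x' = 0 := by
  obtain ⟨r, hr⟩ := mem_line_iff.1 hx
  obtain ⟨r', hr'⟩ := mem_line_iff.1 hx'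
  rw [← LinearEquiv.symm_apply_apply (spV j) x, ← LinearEquiv.symm_apply_apply (spV j) x', hr, hr']
  show tfs c h j (tmul r w) (tmul r' w) = 0
  rw [hT.tfs_tmul, hT.hh.self, mul_zero]

namespace Px

variable (hM : Px c h M)
include hM

/-- The stabiliser seen at a factor is a target. -/
theorem tgt (i : κ) : Tgt (tf (κ := Rst i) c h) h (Mi M i) ((Wr F κ β).map (sp (F := F) i).toMonoidHom) where
  kron := by
    rintro _ ⟨g, hg, rfl⟩ hk
    exact ⟨g, hM.kron_mem' hg hk, rfl⟩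
  conj {g X' z} hg hz0 hX hL := by
    obtain ⟨g₀, hg₀, rfl⟩ := hg
    obtain ⟨y, hy, hye⟩ := hL
    have hh := hM.data.hh
    obtain ⟨B, -, hBm, -, hBx⟩ := hh.exists_tv z 1
    rw [one_smul, vN] at hBm
    have hX' : X' = sp i (pe i B) := Units.ext (Matrix.ext_iff_mulVec.2 fun t => by
      rw [hX, sp_pe]
      refine (LinearMap.congr_fun (f := Matrix.toLin' (k2 (1 : GL (Rst i → β) F) B : Matrix _ _ F))
        (g := LinearMap.id + (1 : F) • (fac z).comp (sl h z)) (ext_tmul fun x w => ?_) t).symm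
      simp only [Matrix.toLin'_apply, k2_mulVec, hBx, Units.val_one, Matrix.one_mulVec, LinearMap.add_apply,
        LinearMap.id_apply, LinearMap.smul_apply, LinearMap.comp_apply, fac_apply, sl_tmul' hh, tmul_add_right,
        tmul_smul_right, tmul_smul_left, smul_smul])
    rw [hX'] at hye
    have he : y = g₀ * pe i B * g₀⁻¹ := (sp i).injective (hye.trans (by simp [map_mul, map_inv]))
    have hfn : fn h z ≠ 0 := fun e0 => hz0 (hh.eq_zero z fun x => by rw [← fn_dot hh.toSesq, e0, zero_dotProduct])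
    have hfv : fn h z ⬝ᵥ z = 0 := by rw [fn_dot hh.toSesq, hh.self]
    obtain ⟨hq, hr⟩ := isTv_quad (κ := κ) (i := i) ⟨z, fn h z, B, hz0, hfn, hfv, hBm, rfl⟩
    obtain ⟨j, w, ψ, C, hw, hψ, -, hC, hz⟩ := classify2 hM.hb hM.h2 (by have := hM.ht; omega) (he ▸ hy)
      ((quad_conj g₀ _).1 hq) ((quad_conj g₀ _).2.trans hr)
    refine ⟨g₀, hM.line_to_line (i := i) hg₀ hz0 hw (map_line_eq_of_le (i := i) (j := j) hz0 hw ?_), rfl⟩
    rw [← pe_tv_range hfn hBm, ← pe_tv_range hψ hC, ← hz]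
    rintro _ ⟨_, ⟨s, rfl⟩, rfl⟩
    refine ⟨(g₀ : Mn) *ᵥ s, ?_⟩
    simp only [Matrix.toLin'_apply, Units.val_mul, Matrix.sub_mulVec, Matrix.one_mulVec, ← Matrix.mulVec_mulVec,
      inv_mulVec_cancel, Matrix.mulVec_sub]
  line g hg z hz0 := by
    obtain ⟨g₀, hg₀, rfl⟩ := hg
    obtain ⟨π, gs, rfl⟩ := hg₀
    by_cases hπ : π i = i
    · exact Or.inl ⟨_, _, sp_wgl π hπ gs⟩
    have hji : π⁻¹ i ≠ i := fun e0 => hπ (by
      conv_lhs => rw [← e0]
      exact perm_apply_inv π i)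
    refine Or.inr ⟨line (⟨π⁻¹ i, hji⟩ : Rst i) ((gs (π⁻¹ i) : Mb) *ᵥ z), fun x hx x' hx' => ?_, fun x x' hxx' => ?_⟩
    · exact hM.data.line_isotropic (κ := Rst i) _ _ hx hx'
    · obtain ⟨φ, hφ⟩ := exists_dual hz0
      have h1 : (wgl π gs : Mn) *ᵥ (spV i).symm (tmul x' z) ∈ line (π⁻¹ i) ((gs (π⁻¹ i) : Mb) *ᵥ z) := by
        rw [← wgl_line' π gs i hz0]
        exact ⟨_, mem_line_iff.2 ⟨x', LinearEquiv.apply_symm_apply _ _⟩, rfl⟩
      have h2 := slice_mem_line (i := i) (j := ⟨π⁻¹ i, hji⟩) h1 φ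
      rw [← sp_mulVec, LinearEquiv.apply_symm_apply] at h2
      have e2 : slice φ ((sp i (wgl π gs) : Matrix _ _ F) *ᵥ tmul x' z) = x := by
        rw [show (sp i (wgl π gs) : Matrix _ _ F) *ᵥ tmul x' z = tmul x z from hxx', slice_tmul, hφ, one_smul]
      rwa [e2] at h2

/-- Odd characteristic: the overgroup is in the stabiliser. -/
theorem le_of_odd : M ≤ Wr F κ β := fun g hg => by
  obtain ⟨i⟩ : Nonempty κ := Fintype.card_pos_iff.1 (by have := hM.ht; omega)
  have hq : 3 ≤ Fintype.card β ∨ (Fintype.card β = 2 ∧ 4 ≤ Fintype.card F) := by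
    rcases hM.hk with ⟨h2, -⟩ | h4
    · refine Or.inr ⟨h2, ?_⟩
      rcases hM.big with h | ⟨h, -⟩ | h
      all_goals omega
    · exact Or.inl (by omega)
  obtain ⟨y, hy, hye⟩ := (hM.toOCx.sc (hM.scal i)).all_mem (hM.tgt i) hq (mem_Mi.2 hg)
  exact (sp i).injective hye ▸ hy

end Px

end Cfsg.Agent.Classical.TensorSymp
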