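import Cfsg.Agent.Lib.Classical.TensorPow.Fusion
import Cfsg.Agent.Lib.Classical.TensorPowSymp.Slot
import Cfsg.Agent.Lib.Classical.TensorPowSymp.Classify

/-!
Similitudes of a product of two planes permute the lines of the factors; a transvection at a factor conjugated into
the stabiliser moves a line to a line.
-/

set_option autoImplicit false
set_option linter.unusedSectionVars false
set_option linter.unusedSimpArgs false
set_option linter.style.haveILetI false

namespace Cfsg.Agent.Classical.TensorSymp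

open Matrix Module MaxTv TensorMax TensorPow

variable {F : Type*} [Field F] [Fintype F] {κ β : Type} [Fintype κ] [DecidableEq κ] [Fintype β] [DecidableEq β]

local notation "X" => (κ → β)
local notation "V" => ((κ → β) → F)
local notation "Mn" => Matrix (κ → β) (κ → β) F
local notation "Mb" => Matrix β β F

/-- A transvection at a factor conjugated into the stabiliser: a line to a line. -/
theorem line_of_roots {h : (β → F) → (β → F) → F} (hh : Symp h) (hb : 2 ≤ Fintype.card β) (h2 : (2 : F) ≠ 0)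
    (ht : 1 ≤ Fintype.card κ) {g : GL X F} {i : κ} {v : β → F} (hv : v ≠ 0)
    (hall : ∀ B : GL β F, B ∈ Iso h → g * pe i B * g⁻¹ ∈ Wr F κ β) :
    ∃ (j : κ) (w : β → F), w ≠ 0 ∧ (line i v).map (Matrix.toLin' (g : Mn)) = line j w := by
  classical
  obtain ⟨A, hA, hAm, -, -⟩ := hh.exists_tv v 1
  rw [one_smul, vN] at hAm
  have hfn : fn h v ≠ 0 := fun e => hv (hh.eq_zero v fun x => by rw [← fn_dot hh.toSesq, e, zero_dotProduct])
  have hfv : fn h v ⬝ᵥ v = 0 := by rw [fn_dot hh.toSesq, hh.self]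
  obtain ⟨hq, hr⟩ := isTv_quad (κ := κ) (i := i) ⟨v, fn h v, A, hv, hfn, hfv, hAm, rfl⟩
  obtain ⟨j, w, ψ, B, hw, hψ, -, hB, hz⟩ :=
    classify2 hb h2 ht (hall A hA) ((quad_conj g _).1 hq) ((quad_conj g _).2.trans hr)
  refine ⟨j, w, hw, map_line_eq_of_le (i := i) (j := j) hv hw ?_⟩
  rw [← pe_tv_range hfn hAm, ← pe_tv_range hψ hB, ← hz]
  rintro _ ⟨_, ⟨s, rfl⟩, rfl⟩
  refine ⟨(g : Mn) *ᵥ s, ?_⟩
  simp only [Matrix.toLin'_apply, Units.val_mul, Matrix.sub_mulVec, Matrix.one_mulVec, ← Matrix.mulVec_mulVec,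
    inv_mulVec_cancel, Matrix.mulVec_sub]

variable {c : F} {h : (β → F) → (β → F) → F} (hT : SData c h)
include hT

/-- An element of product shape at a factor has a similitude on the other factors. -/
theorem SData.exists_simil (hb : 2 ≤ Fintype.card β) {i : κ} {g : GL X F}
    (hg : g ∈ Iso (tf c h)) {A : GL (Rst i → β) F} {B : GL β F} (hAB : sp i g = k2 A B) :
    ∃ μ : F, μ ≠ 0 ∧ ∀ x x', tf c h ((A : Matrix (Rst i → β) (Rst i → β) F) *ᵥ x)
      ((A : Matrix (Rst i → β) (Rst i → β) F) *ᵥ x') = μ * tf c h x x' := by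
  obtain ⟨b₀⟩ : Nonempty β := Fintype.card_pos_iff.1 (by omega)
  obtain ⟨u, hu⟩ := hT.hh.toSesq.exists_one (v := Pi.single b₀ (1 : F)) (by simp)
  have h1 : ∀ x x', tf c h ((A : Matrix (Rst i → β) (Rst i → β) F) *ᵥ x)
      ((A : Matrix (Rst i → β) (Rst i → β) F) *ᵥ x') * h ((B : Mb) *ᵥ u) ((B : Mb) *ᵥ Pi.single b₀ 1) =
        tf c h x x' := fun x x' => by
    have h1 := (hT.sp_Iso i).2 hg (tmul x u) (tmul x' (Pi.single b₀ 1))
    rwa [hAB, k2_mulVec, k2_mulVec, hT.tfs_tmul, hT.tfs_tmul, hu, mul_one] at h1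
  have hne : h ((B : Mb) *ᵥ u) ((B : Mb) *ᵥ Pi.single b₀ 1) ≠ 0 := fun e => by
    have hv : (ptens fun _ : Rst i => (Pi.single b₀ (1 : F) : β → F)) ≠ 0 := ptens_ne_zero fun _ => by simp
    obtain ⟨w, hw⟩ := (hT.sesq (κ := Rst i)).exists_one hv
    exact one_ne_zero (by rw [← hw, ← h1, e, mul_zero] : (1 : F) = 0)
  refine ⟨_, inv_ne_zero hne, fun x x' => ?_⟩
  rw [← h1 x x']
  field_simp

/-- The pure tensors are the singular ones, for two planes. -/
theorem SData.pure_of_singular (h2 : (2 : F) ≠ 0) (hk : Fintype.card β = 2) (hκ : Fintype.card κ = 2) (j : κ)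
    {t : V} (ht : tf c h t t = 0) :
    ∃ (r : (Rst j → β) → F) (w : β → F), spV j t = tmul r w := by
  classical
  have hh := hT.hh
  have hr1 : Fintype.card (Rst j) = 1 := by have := card_rst_one j; omega
  haveI : Nonempty (Rst j) := Fintype.card_pos_iff.1 (by omega)
  obtain ⟨b₀⟩ : Nonempty β := Fintype.card_pos_iff.1 (by omega)
  obtain ⟨u, hu, hzu⟩ := hh.partner (z := Pi.single b₀ (1 : F)) (by simp)
  set z : β → F := Pi.single b₀ 1 with hz
  have hdec : ∀ y : β → F, y = h y z • u - h y u • z := fun y => by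
    have e1 : h (y - h y z • u + h y u • z) z = 0 := by
      rw [hh.add_left, hh.toSesq.sub_left, hh.smul_left, hh.smul_left, hu, hh.self]; ring
    have e2 : h (y - h y z • u + h y u • z) u = 0 := by
      rw [hh.add_left, hh.toSesq.sub_left, hh.smul_left, hh.smul_left, hzu, hh.self]; ring
    by_contra hne
    have hy0 : y - h y z • u + h y u • z ≠ 0 := fun e => hne (by
      rw [← sub_eq_zero]; rw [← e]; abel)
    have := three_le_of_pair hh hy0 (fun r er => by
      have : (1 : F) = 0 := by rw [← hu, er, hh.toSesq.smul_right, hh.toSesq.refl _ _ e2]; simp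
      exact one_ne_zero this) e1
    omega
  obtain ⟨r1, r2, hd⟩ : ∃ r1 r2, spV j t = tmul r1 z + tmul r2 u := by
    refine ⟨-sl h u (spV j t), sl h z (spV j t), ?_⟩
    refine LinearMap.congr_fun (f := LinearMap.id) (g := (fac z).comp (-sl h u) + (fac u).comp (sl h z))
      (ext_tmul fun x y => ?_) (spV j t)
    simp only [LinearMap.id_apply, LinearMap.add_apply, LinearMap.comp_apply, LinearMap.neg_apply, fac_apply,
      sl_tmul' hh]
    conv_lhs => rw [hdec y, tmul_sub_right, tmul_smul_right, tmul_smul_right]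
    rw [← neg_smul, tmul_smul_left, tmul_smul_left]
    module
  have hS : Symp (tf (κ := Rst j) c h) := hT.symp_tf h2 (by rw [hr1]; exact odd_one)
  have hz0 : tf c h r1 r2 = 0 := by
    have h1 : tfs c h j (spV j t) (spV j t) = 0 := by rw [tfs, LinearEquiv.symm_apply_apply, ht]
    rw [hd, (hT.sesq_tfs j).add_left, (hT.sesq_tfs j).add_right, (hT.sesq_tfs j).add_right, hT.tfs_tmul,
      hT.tfs_tmul, hT.tfs_tmul, hT.tfs_tmul, hh.self, hh.self, hu, hzu, hS.skew r1 r2] at h1
    exact (mul_eq_zero.1 (show (2 : F) * tf c h r1 r2 = 0 by linear_combination -h1)).resolve_left h2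
  rcases eq_or_ne r1 0 with e | hne
  · exact ⟨r2, u, by rw [hd, e, tmul_zero_left, zero_add]⟩
  · by_cases hp : ∀ r : F, r2 ≠ r • r1
    · have := three_le_of_pair hS hne hp hz0
      rw [Fintype.card_fun, hr1, hk] at this
      omega
    · push Not at hp
      obtain ⟨r, hr⟩ := hp
      exact ⟨r1, z + r • u, by rw [hd, hr, tmul_add_right, tmul_smul_right, tmul_smul_left]⟩

/-- Similitudes of two planes. -/
theorem SData.simil_two_Wr (h2 : (2 : F) ≠ 0) (hk : Fintype.card β = 2) (hκ : Fintype.card κ = 2) {A : GL X F} {μ : F}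
    (hA : ∀ x x', tf c h ((A : Mn) *ᵥ x) ((A : Mn) *ᵥ x') = μ * tf c h x x') : A ∈ Wr F κ β := by
  classical
  have hh := hT.hh
  haveI : Nonempty κ := Fintype.card_pos_iff.1 (by omega)
  haveI : Nontrivial β := Fintype.one_lt_card_iff_nontrivial.1 (by omega)
  refine mem_Wr_of_lines _ κ rfl A fun j v hv => ?_
  have hr1 : Fintype.card (Rst j) = 1 := by have := card_rst_one j; omega
  haveI : Nonempty (Rst j) := Fintype.card_pos_iff.1 (by omega)
  obtain ⟨l₀, hl₀⟩ := Fintype.card_eq_one_iff.1 hr1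
  set S := (line j v).map (Matrix.toLin' (A : Mn)) with hSdef
  have horth : ∀ s ∈ S, ∀ s' ∈ S, tf c h s s' = 0 := by
    rintro _ ⟨x, hx, rfl⟩ _ ⟨x', hx', rfl⟩
    obtain ⟨r, hr⟩ := mem_line_iff.1 hx
    obtain ⟨r', hr'⟩ := mem_line_iff.1 hx'
    rw [Matrix.toLin'_apply, Matrix.toLin'_apply, hA, ← LinearEquiv.symm_apply_apply (spV j) x,
      ← LinearEquiv.symm_apply_apply (spV j) x', hr, hr']
    show μ * tfs c h j (tmul r v) (tmul r' v) = 0
    rw [hT.tfs_tmul, hh.self, mul_zero, mul_zero]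
  obtain ⟨t₀, ht₀, ht₀n⟩ : ∃ t₀ ∈ S, t₀ ≠ 0 := by
    have h0 : ptens (Function.update (fun _ => v) j v) ≠ 0 := ptens_ne_zero fun l => by
      by_cases e : l = j <;> simp [e, hv]
    exact ⟨_, ⟨_, ptens_mem_line _, rfl⟩, by rw [Matrix.toLin'_apply]; exact gl_mulVec_ne_zero A h0⟩
  obtain ⟨r₀, w₀, ht₀e⟩ := hT.pure_of_singular h2 hk hκ j (horth _ ht₀ _ ht₀)
  have hw₀ : w₀ ≠ 0 := fun e => ht₀n ((spV j).injective (by rw [ht₀e, e, tmul_zero_right, map_zero]))
  have hr₀ : r₀ ≠ 0 := fun e => ht₀n ((spV j).injective (by rw [ht₀e, e, tmul_zero_left, map_zero]))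
  have hS' : Symp (tf (κ := Rst j) c h) := hT.symp_tf h2 (by rw [hr1]; exact odd_one)
  set x₀ : β → F := fun b => r₀ fun _ => b with hx₀
  have hr₀e : r₀ = ptens (Function.update (fun _ : Rst j => x₀) l₀ x₀) := funext fun a => by
    show r₀ a = ∏ l, Function.update (fun _ : Rst j => x₀) l₀ x₀ l (a l)
    rw [Fintype.prod_eq_single l₀ (fun l hl => absurd (hl₀ l) hl), Function.update_self, hx₀]
    show r₀ a = r₀ _
    congr 1
    exact funext fun l => by rw [hl₀ l]
  have hx₀0 : x₀ ≠ 0 := fun e => hr₀ (funext fun a => by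
    show r₀ a = 0
    have := congrFun e (a l₀)
    rw [hx₀] at this
    rw [show a = fun _ => a l₀ from funext fun l => by rw [hl₀ l]]
    exact this)
  have hone : ∀ t ∈ S, t ∈ line j w₀ ∨ t ∈ line l₀.1 x₀ := by
    intro t ht
    obtain ⟨r, w, hte⟩ := hT.pure_of_singular h2 hk hκ j (horth _ ht _ ht)
    have h1 : tfs c h j (spV j t) (spV j t₀) = 0 := by
      rw [tfs, LinearEquiv.symm_apply_apply, LinearEquiv.symm_apply_apply, horth _ ht _ ht₀]
    rw [hte, ht₀e, hT.tfs_tmul, mul_eq_zero] at h1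
    rcases h1 with h1 | h1
    · right
      by_cases hp : ∀ a : F, r ≠ a • r₀
      · have := three_le_of_pair hS' hr₀ hp (hS'.toSesq.refl _ _ h1)
        rw [Fintype.card_fun, hr1, hk] at this
        omega
      · push Not at hp
        obtain ⟨a, ha⟩ := hp
        rw [← LinearEquiv.symm_apply_apply (spV j) t, hte]
        exact tmul_mem_line (by rw [ha, hr₀e]; exact Submodule.smul_mem _ _ (ptens_mem_line _)) w
    · left
      by_cases hp : ∀ a : F, w ≠ a • w₀
      · have := three_le_of_pair hh hw₀ hp (hh.toSesq.refl _ _ h1)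
        omega
      · push Not at hp
        obtain ⟨a, ha⟩ := hp
        exact mem_line_iff.2 ⟨a • r, by rw [hte, ha, tmul_smul_right, tmul_smul_left]⟩
  by_cases hL : S ≤ line j w₀
  · exact ⟨j, w₀, hw₀, map_line_eq_of_le hv hw₀ hL⟩
  · obtain ⟨x, hxS, hx⟩ := SetLike.not_le_iff_exists.1 hL
    refine ⟨l₀.1, x₀, hx₀0, map_line_eq_of_le hv hx₀0 fun y hy => ?_⟩
    rcases hone y hy with h1 | h1
    · rcases hone (x + y) (S.add_mem hxS hy) with h3 | h3
      · exact absurd ((Submodule.add_mem_iff_left _ h1).1 h3) hx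
      · exact (Submodule.add_mem_iff_right _ ((hone x hxS).resolve_left hx)).1 h3
    · exact h1

end Cfsg.Agent.Classical.TensorSymp
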