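import Cfsg.Agent.Lib.Classical.TensorPowSymp.Unip
import Cfsg.Agent.Lib.Classical.TensorPowSymp.Lines

/-!
A proper overgroup in odd characteristic: elements of product shape and elements mapping a line of a factor to a
line lie in the stabiliser.
-/

set_option autoImplicit false
set_option linter.unusedSectionVars false
set_option linter.unusedSimpArgs false
set_option linter.style.haveILetI false

open scoped Kronecker

namespace Cfsg.Agent.Classical.TensorSymp

open Matrix Module MaxTv TensorMax TensorPow Overfield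

variable {F : Type*} [Field F] [Fintype F] {κ β : Type} [Fintype κ] [DecidableEq κ] [Fintype β] [DecidableEq β]

local notation "X" => (κ → β)
local notation "V" => ((κ → β) → F)
local notation "Mn" => Matrix (κ → β) (κ → β) F
local notation "Mb" => Matrix β β F

/-- Proper overgroups of the stabiliser stabilise the decomposition. -/
def MaxAt (c : F) (h : (β → F) → (β → F) → F) (κ : Type) [Fintype κ] [DecidableEq κ] : Prop :=
  ∀ M : Subgroup (GL (κ → β) F), M ≤ Iso (tf (κ := κ) c h) → Wr F κ β ⊓ GT (κ := κ) c h ≤ M →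
    ¬ GT (κ := κ) c h ≤ M → M ≤ Wr F κ β

/-- An overgroup with scalar coefficients at each factor, with the induction hypothesis. -/
structure Px (c : F) (h : (β → F) → (β → F) → F) (M : Subgroup (GL (κ → β) F)) : Prop extends OCx c h M where
  scal : ∀ i, Scal h (Mi M i)
  ih : ∀ i : κ, 2 ≤ Fintype.card (Rst i) → ¬ (Fintype.card β = 2 ∧ Fintype.card (Rst i) = 2) → MaxAt c h (Rst i)

variable {c : F} {h : (β → F) → (β → F) → F} {M : Subgroup (GL (κ → β) F)}

namespace Px

variable (hM : Px c h M)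
include hM

/-- The other factors give a proper overgroup of their stabiliser. -/
theorem not_all_rest {i : κ} (hR : 2 ≤ Fintype.card (Rst i))
    (hne2 : ¬ (Fintype.card β = 2 ∧ Fintype.card (Rst i) = 2)) :
    ∃ T ∈ GT (κ := Rst i) c h, emb i T ∉ M := by
  classical
  have hh := hM.data.hh
  have hb := hM.hb
  obtain ⟨b₀⟩ : Nonempty β := Fintype.card_pos_iff.1 (by omega)
  have hz0 : (Pi.single b₀ 1 : β → F) ≠ 0 := by simp
  generalize (Pi.single b₀ 1 : β → F) = z at hz0
  obtain ⟨u, huz, hzu⟩ := hh.partner hz0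
  haveI : ∀ l : Rst i, Nonempty (Rst l) := fun l => nonempty_rst hR l
  have hN2 : vN h z * vN h z = 0 := vN_mul_self hh z
  have hNn : vN h z ≠ 0 := vN_ne_zero hh hz0
  have hNadj : ∀ x y, h (vN h z *ᵥ x) y = -1 * h x (vN h z *ᵥ y) := fun x y => by
    rw [vN_mulVec hh, vN_mulVec hh, hh.smul_left, hh.smul_r, hh.skew y z]
    ring
  have h1n : (1 : Mb) ≠ 0 := by
    haveI : Nonempty β := ⟨b₀⟩
    exact one_ne_zero
  obtain ⟨gs, j, k, r, T, hkj, hgj, hgk, hgn, hr, hT, hTm⟩ : ∃ (gs : Rst i → Mb) (j k : Rst i) (r : F)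
      (T : GL (Rst i → β) F), k ≠ j ∧ gs j = vN h z ∧ gs k * gs k = 0 ∧ (∀ l, gs l ≠ 0) ∧ r ≠ 0 ∧
        T ∈ GT c h ∧ (T : Matrix (Rst i → β) (Rst i → β) F) = 1 + r • wm 1 gs := by
    obtain ⟨j⟩ : Nonempty (Rst i) := Fintype.card_pos_iff.1 (by omega)
    obtain ⟨k, hk⟩ := Fintype.exists_ne_of_one_lt_card (show 1 < Fintype.card (Rst i) by omega) j
    rcases Nat.even_or_odd (Fintype.card (Rst i)) with hev | ho
    swap
    · -- odd
      obtain ⟨T, hTi, hTm⟩ := hM.data.exists_unip (κ := Rst i) (gs := fun _ => vN h z) (ε := fun _ => -1)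
        (fun _ => hNadj) (by rw [Finset.prod_const, Finset.card_univ, ho.neg_one_pow]) (k := j) hN2 1
      refine ⟨_, j, k, 1, T, hk, rfl, hN2, fun _ => hNn, one_ne_zero, ?_, hTm⟩
      refine hM.data.Iso_le_GT hM.h2 ho ?_ hTi
      have h3 : 3 ≤ Fintype.card (Rst i) := by
        obtain ⟨s, hs⟩ := ho
        omega
      rw [Fintype.card_fun]
      calc 5 ≤ 2 ^ 3 := by norm_num
        _ ≤ 2 ^ Fintype.card (Rst i) := Nat.pow_le_pow_right (by norm_num) h3
        _ ≤ Fintype.card β ^ Fintype.card (Rst i) := Nat.pow_le_pow_left hb _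
    have hprod : ∏ l : Rst i, Function.update (fun _ => (-1 : F)) k 1 l = -1 := by
      rw [← Finset.mul_prod_erase _ _ (Finset.mem_univ k), Function.update_self, one_mul,
        Finset.prod_congr rfl (fun l hl => Function.update_of_ne (Finset.ne_of_mem_erase hl) _ _), Finset.prod_const,
        Finset.card_erase_of_mem (Finset.mem_univ k), Finset.card_univ]
      exact (Nat.Even.sub_odd (by omega) hev odd_one).neg_one_pow
    rcases hM.hk with ⟨hk2, -⟩ | h4
    · -- planes, at least four factors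
      obtain ⟨a, ha, ha1⟩ := hM.toOCx.big_sq.resolve_left (by omega)
      obtain ⟨B, hB, hBz, -, -⟩ := hh.exists_torus huz ha
      obtain ⟨l, hlj, hlk⟩ : ∃ l : Rst i, l ≠ j ∧ l ≠ k := by
        by_contra hc
        push Not at hc
        have h1 := Finset.card_le_card (fun l _ => by
          simp only [Finset.mem_insert, Finset.mem_singleton]
          by_cases e : l = j
          exacts [Or.inl e, Or.inr (hc l e)] : (Finset.univ : Finset (Rst i)) ⊆ {j, k})
        rw [Finset.card_univ, Finset.card_pair hk.symm] at h1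
        exact hne2 ⟨hk2, by omega⟩
      obtain ⟨T, hT, r, hr, hTm⟩ := hM.data.exists_unip_GT hM.h2 (κ := Rst i)
        (gs := Function.update (fun _ => vN h z) k 1) (ε := Function.update (fun _ => -1) k 1)
        (fun l x y => by
          by_cases e : l = k
          · subst e; simp
          · simp only [Function.update_of_ne e]; exact hNadj x y) hprod
        (k := l) (by rw [Function.update_of_ne hlk]; exact hN2) (j := j) hB (μ := a * a) ha1 (by
          rw [Function.update_of_ne hk.symm, vN, hh.conj_vmv hB, hBz, hh.fn_smul', Matrix.smul_vecMulVec,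
            Matrix.vecMulVec_smul, smul_smul])
      refine ⟨_, j, l, r, T, hlj, Function.update_of_ne hk.symm _ _, by rw [Function.update_of_ne hlk]; exact hN2,
        fun m => ?_, hr, hT, hTm⟩
      by_cases e : m = k
      · subst e; rw [Function.update_self]; exact h1n
      · rw [Function.update_of_ne e]; exact hNn
    · obtain ⟨φ, hφ, hφz, hφu⟩ := exists_perp2 (show 3 ≤ Fintype.card β by omega) z u
      obtain ⟨z', rfl⟩ := fn_surjective hh.toSesq φ
      rw [fn_dot hh.toSesq] at hφz hφu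
      have hz'n : ∀ r : F, z' ≠ r • z := fun r e => by
        rw [e, hh.smul_r, huz, mul_one] at hφu
        exact hφ (by rw [e, hφu, zero_smul, fn_zero hh.toSesq])
      have hK : Ty h 1 (vL h z z') := Or.inr ⟨rfl, z, z', hz0, hz'n, hφz, rfl⟩
      obtain ⟨B, hB, hBz, -, hBfix⟩ := hh.exists_torus huz (a := -1) (neg_ne_zero.2 one_ne_zero)
      have hBz' : (B : Mb) *ᵥ z' = z' := hBfix z' (hh.toSesq.refl _ _ hφz) (hh.toSesq.refl _ _ hφu)
      obtain ⟨T, hT, r, hr, hTm⟩ := hM.data.exists_unip_GT hM.h2 (κ := Rst i)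
        (gs := Function.update (fun _ => vN h z) k (vL h z z')) (ε := Function.update (fun _ => -1) k 1)
        (fun l x y => by
          by_cases e : l = k
          · subst e; simp only [Function.update_self]; exact hK.adj hh x y
          · simp only [Function.update_of_ne e]; exact hNadj x y) hprod
        (k := k) (by rw [Function.update_self]; exact hK.sq hh) (j := k) hB (μ := -1)
        (fun e => hM.h2 (by linear_combination -e)) (by
          rw [Function.update_self, vL, Matrix.mul_sub, Matrix.sub_mul, hh.conj_vmv hB, hh.conj_vmv hB, hBz, hBz',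
            hh.fn_smul', Matrix.smul_vecMulVec, Matrix.vecMulVec_smul, smul_sub])
      refine ⟨_, j, k, r, T, hk, Function.update_of_ne hk.symm _ _, by rw [Function.update_self]; exact hK.sq hh,
        fun m => ?_, hr, hT, hTm⟩
      by_cases e : m = k
      · subst e; rw [Function.update_self]; exact hK.ne_zero hh
      · rw [Function.update_of_ne e]; exact hNn
  refine ⟨T, hT, fun hin => ?_⟩
  let gs₀ : κ → Mb := fun l => if hl : l = i then 1 else gs ⟨l, hl⟩
  have hj : gs₀ j.1 = vN h z := by simp only [gs₀, dif_neg j.2]; exact hgj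
  have hg'v : ((emb i T : GL X F) : Mn) = 1 + r • wm 1 gs₀ := by
    apply (Matrix.reindex (spE i) (spE i)).injective
    rw [← sp_val, sp_emb, k2_val, hTm, Matrix.add_kronecker, Units.val_one, Matrix.one_kronecker_one,
      Matrix.smul_kronecker, show Matrix.reindex (spE i) (spE i) ((1 : Mn) + r • wm 1 gs₀) =
        1 + r • Matrix.reindex (spE i) (spE i) (wm 1 gs₀) by ext a b; simp [Matrix.one_apply], tmul_mulVec_wm]
    simp only [gs₀, dite_true]
    congr 3
    exact wm_congr rfl fun l => by rw [dif_neg l.2]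
  set gs' : Rst j.1 → Mb := fun l => gs₀ l.1 with hgs'
  have huc : UC h (Mi M j.1) (r • Matrix.toLin' (wm 1 gs')) :=
    (hM.toCx.pr j.1).uc_of hz0 ⟨sp j.1 (emb i T), mem_Mi.2 hin, fun t => by
      have e : (sp j.1 (emb i T) : Matrix _ _ F) = 1 + r • (wm 1 gs' ⊗ₖ vN h z) := by
        rw [sp_val, hg'v, show Matrix.reindex (spE j.1) (spE j.1) ((1 : Mn) + r • wm 1 gs₀) =
          1 + r • Matrix.reindex (spE j.1) (spE j.1) (wm 1 gs₀) by ext a b; simp [Matrix.one_apply], tmul_mulVec_wm, hj]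
      rw [e, Matrix.add_mulVec, Matrix.one_mulVec]
      congr 1
      refine LinearMap.congr_fun (f := Matrix.toLin' (r • (wm 1 gs' ⊗ₖ vN h z)))
        (g := rM h z (r • Matrix.toLin' (wm 1 gs'))) (ext_tmul fun x y => ?_) t
      rw [Matrix.toLin'_apply, Matrix.smul_mulVec, kronecker_mulVec, rM_tmul hh, LinearMap.smul_apply,
        Matrix.toLin'_apply, vN_mulVec hh, tmul_smul_left, tmul_smul_right, smul_comm]⟩
  obtain ⟨ν, hν⟩ := hM.scal j.1 _ huc
  have hkj' : k.1 ≠ j.1 := fun e => hkj (Subtype.ext e)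
  have hsq : wm (1 : Equiv.Perm (Rst j.1)) gs' * wm 1 gs' = 0 := by
    rw [wm1_mul]
    refine wm_zero_of _ (l := ⟨k.1, hkj'⟩) ?_
    simp only [Pi.mul_apply, gs', gs₀, dif_neg k.2]
    exact hgk
  have hne : wm (1 : Equiv.Perm (Rst j.1)) gs' ≠ 0 := wm_eq_zero_iff _ fun l => by
    simp only [gs', gs₀]
    split_ifs
    exacts [h1n, hgn _]
  have hM' : wm (1 : Equiv.Perm (Rst j.1)) gs' = (ν / r) • 1 := by
    refine Matrix.toLin'.injective (LinearMap.ext fun x => ?_)
    have h1 := hν x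
    rw [LinearMap.smul_apply] at h1
    rw [map_smul, Matrix.toLin'_one, LinearMap.smul_apply, LinearMap.id_apply, div_eq_inv_mul, mul_smul, ← h1,
      smul_smul, inv_mul_cancel₀ hr, one_smul]
  rw [hM', Matrix.smul_mul, one_mul, smul_smul, smul_eq_zero] at hsq
  haveI : Nonempty β := ⟨b₀⟩
  have hc0 : ν / r = 0 := mul_self_eq_zero.1 (hsq.resolve_right one_ne_zero)
  exact hne (by rw [hM', hc0, zero_smul])

/-- The elements of product shape at a factor. -/
theorem kron_mem {i : κ} {g : GL X F} (hg : g ∈ M) {A : GL (Rst i → β) F} {B : GL β F}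
    (hAB : sp i g = k2 A B) : g ∈ Wr F κ β := by
  classical
  have hb := hM.hb
  have hh := hM.data.hh
  haveI : Nontrivial β := Fintype.one_lt_card_iff_nontrivial.1 (by omega)
  by_cases h3 : Fintype.card κ ≤ 2
  · exact kron_mem_Wr_two h3 hAB
  have hR2 : 2 ≤ Fintype.card (Rst i) := by have := card_rst_one i; omega
  haveI : Nonempty (Rst i) := Fintype.card_pos_iff.1 (by omega)
  obtain ⟨μ, hμ0, hμ⟩ := hM.data.exists_simil hb (hM.le hg) hAB
  by_cases hsp : Fintype.card β = 2 ∧ Fintype.card (Rst i) = 2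
  · exact mem_Wr_of_sp hAB (hM.data.simil_two_Wr hM.h2 hsp.1 hsp.2 hμ)
  obtain ⟨T, hT, hTn⟩ := hM.not_all_rest hR2 hsp
  have hQle : M.comap (emb i) ⊓ Iso (tf (κ := Rst i) c h) ≤ Wr F (Rst i) β := by
    refine hM.ih i hR2 hsp _ inf_le_right ?_ fun hall => hTn (hall hT).1
    rintro A' ⟨hA', hd⟩
    exact ⟨hM.mem ⟨mem_Wr_of_sp (sp_emb i A') hA', hM.data.emb_GT hd⟩, GT_le_Iso hd⟩
  refine mem_Wr_of_sp hAB (mem_Wr_of_lines _ (Rst i) rfl A fun j v hv => ?_)
  refine line_of_roots hh hb hM.h2 (by omega) hv fun B' hB' => hQle ⟨?_, ?_⟩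
  · show emb i (A * pe j B' * A⁻¹) ∈ M
    rw [← mem_Mi (i := i), sp_emb]
    have e : k2 (A * pe j B' * A⁻¹) (1 : GL β F) = sp i g * k2 (pe j B') 1 * (sp i g)⁻¹ := by
      rw [hAB, eq_mul_inv_iff_mul_eq, k2_mul, k2_mul, inv_mul_cancel_right, one_mul, mul_one]
    rw [e]
    exact mul_mem (mul_mem (mem_Mi.2 hg) (hM.toCx.kA_mem j hB')) (inv_mem (mem_Mi.2 hg))
  · haveI := nonempty_rst hR2 j
    exact conj_Iso hμ (hM.data.pe_KT j hB').1

theorem kron_mem' {i : κ} {g : GL X F} (hg : g ∈ M) (hk : ∃ A B, sp i g = k2 A B) : g ∈ Wr F κ β := by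
  obtain ⟨A, B, hAB⟩ := hk
  exact hM.kron_mem hg hAB

/-- Stabilisers of lines. -/
theorem keep_mem {j : κ} {w : β → F} (hw0 : w ≠ 0) {f : GL X F} (hf : f ∈ M)
    (hline : (line j w).map (Matrix.toLin' (f : Mn)) ≤ line j w) : f ∈ Wr F κ β := by
  refine hM.kron_mem' hf ((hM.toOCx.sc (hM.scal j)).stab_kron (mem_Mi.2 hf) hw0 fun x => ?_)
  obtain ⟨r, hr⟩ := mem_line_iff.1 (hline (Submodule.mem_map_of_mem
    (mem_line_iff.2 ⟨x, LinearEquiv.apply_symm_apply (spV j) (tmul x w)⟩)))
  refine ⟨r, ?_⟩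
  rw [← LinearEquiv.apply_symm_apply (spV j) (tmul x w), sp_mulVec, ← hr]
  rfl

/-- A line mapped to a line: in the stabiliser. -/
theorem line_to_line {g : GL X F} (hg : g ∈ M) {i j : κ} {v w : β → F} (hv0 : v ≠ 0)
    (hw0 : w ≠ 0) (hgv : (line i v).map (Matrix.toLin' (g : Mn)) = line j w) : g ∈ Wr F κ β := by
  classical
  have hh := hM.data.hh
  have hb := hM.hb
  haveI : Nonempty κ := ⟨i⟩
  haveI : Nontrivial β := Fintype.one_lt_card_iff_nontrivial.1 (by omega)
  have step : ∀ (i' j' l : κ) (v' w' u : β → F), v' ≠ 0 → w' ≠ 0 →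
      (line i' v').map (Matrix.toLin' (g : Mn)) = line j' w' → l ≠ i' → u ≠ 0 →
      ∃ (m : κ) (z : β → F), z ≠ 0 ∧ (line l u).map (Matrix.toLin' (g : Mn)) = line m z := by
    intro i' j' l v' w' u hv'0 hw'0 hm hli hu0
    refine line_of_roots hh hb hM.h2 (by have := hM.ht; omega) hu0 fun B hB => ?_
    have hfM : g * pe l B * g⁻¹ ∈ M := mul_mem (mul_mem hg (hM.toCx.pe_mem l hB)) (inv_mem hg)
    refine hM.keep_mem (j := j') hw'0 hfM (le_of_eq ?_)
    rw [← hm, map_mul_line, map_mul_line, ← map_mul_line g⁻¹ g, inv_mul_cancel, Units.val_one, Matrix.toLin'_one,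
      Submodule.map_id, map_line_of_kron (sp_pe_ne hli B) hv'0, Units.val_one, Matrix.one_mulVec]
  obtain ⟨l₀, hl₀⟩ := Fintype.exists_ne_of_one_lt_card (show 1 < Fintype.card κ by have := hM.ht; omega) i
  refine mem_Wr_of_lines _ κ rfl g fun l u hu0 => ?_
  rcases eq_or_ne l i with rfl | hli
  · obtain ⟨m, z, hz0, hm⟩ := step l j l₀ v w v hv0 hw0 hgv hl₀ hv0
    exact step l₀ m l v z u hv0 hz0 hm (Ne.symm hl₀) hu0
  · exact step i j l v w u hv0 hw0 hgv hli hu0

end Px

end Cfsg.Agent.Classical.TensorSymp
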