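import Cfsg.Agent.Lib.Classical.TensorPowSymp.Algebra

/-!
Enlarging the support of product members up to all factors, or all but one.
-/

set_option autoImplicit false
set_option linter.unusedSectionVars false
set_option linter.unusedSimpArgs false
set_option linter.style.haveILetI false

namespace Cfsg.Agent.Classical.TensorSymp

open Matrix Module MaxTv TensorMax TensorPow

variable {F : Type*} [Field F] [Fintype F] {κ β : Type} [Fintype κ] [DecidableEq κ] [Fintype β] [DecidableEq β]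

local notation "Mn" => Matrix (κ → β) (κ → β) F
local notation "Mb" => Matrix β β F

theorem wm_smul_prod (r : κ → F) (gs : κ → Mb) :
    wm (1 : Equiv.Perm κ) (fun l => r l • gs l) = (∏ l, r l) • wm 1 gs := by
  ext x y
  simp only [wm, Matrix.of_apply, Matrix.smul_apply, smul_eq_mul, Finset.prod_mul_distrib]

theorem wm_zero_of (gs : κ → Mb) {l : κ} (hl : gs l = 0) : wm (1 : Equiv.Perm κ) gs = 0 := by
  ext x y
  simp only [wm, Matrix.of_apply]
  exact Finset.prod_eq_zero (Finset.mem_univ l) (by rw [hl]; rfl)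

variable {c : F} {h : (β → F) → (β → F) → F} {P : Matrix (κ → β) (κ → β) F → Prop}

theorem St.congr {J : Finset κ} {ε ε' : κ → F} (H : St h P J ε) (he : ∀ l ∈ J, ε l = ε' l) : St h P J ε' :=
  ⟨fun l hl => he l hl ▸ H.ex l hl, fun gs hg h1 => H.all gs (fun l hl => (he l hl).symm ▸ hg l hl) h1⟩

theorem St.perm {J : Finset κ} {ε : κ → F} (H : St h P J ε) (σ : Equiv.Perm κ)
    (hσ : ∀ gs : κ → Mb, P (wm 1 gs) → P (wm 1 (gs ∘ σ))) :
    St h P (Finset.univ.filter fun x => σ x ∈ J) (ε ∘ σ) := by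
  refine ⟨fun l hl => H.ex _ (Finset.mem_filter.1 hl).2, fun gs hg h1 => ?_⟩
  have := hσ _ (H.all (gs ∘ σ.symm) (fun l hl => ?_) fun l hl => h1 _ fun e => hl ?_)
  · rwa [Function.comp_assoc, Equiv.symm_comp_self, Function.comp_id] at this
  · have := hg (σ.symm l) (Finset.mem_filter.2 ⟨Finset.mem_univ _, by rwa [Equiv.apply_symm_apply]⟩)
    rwa [Function.comp_apply, Equiv.apply_symm_apply] at this
  · simpa using (Finset.mem_filter.1 e).2

variable (hP : SAlg c h P)
include hP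

theorem SAlg.sgn {J : Finset κ} {ε : κ → F} (H : St h P J ε) {l : κ} (hl : l ∈ J) : ε l * ε l = 1 :=
  (H.ex l hl).choose_spec.sgn_sq hP.data.hh

/-- Sandwiching at the factors of a set. -/
theorem SAlg.squeeze {R : Mn} (hR : P R) (us : κ → β → F) (S : Finset κ) :
    P (wm 1 (fun l => if l ∈ S then vN h (us l) else 1) * R * wm 1 (fun l => if l ∈ S then vN h (us l) else 1)) := by
  induction S using Finset.induction_on with
  | empty =>
    simp only [Finset.notMem_empty, if_false]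
    rwa [show (fun _ : κ => (1 : Mb)) = 1 from rfl, wm1_one, one_mul, mul_one]
  | insert a S ha ih =>
    have k := (hP.sand ih a (us a)).1
    obtain ⟨g, hg⟩ : ∃ g, g = fun l => if l ∈ S then vN h (us l) else (1 : Mb) := ⟨_, rfl⟩
    have hga : g a = 1 := by rw [hg]; exact if_neg ha
    have e : (fun l => if l ∈ insert a S then vN h (us l) else 1) = Function.update g a (vN h (us a)) := by
      funext l
      by_cases el : l = a
      · subst el; simp
      · simp [el, hg]
    rw [e]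
    rw [← hg] at k
    rwa [← mul_assoc, ← mul_assoc, mul_assoc _ (wm 1 g) (et a _), ← wm_update_ne g hga, wm_update g hga] at k

/-- Two members meeting at the factors of a set. -/
theorem SAlg.meet {J J' : Finset κ} {ε ε' : κ → F} (H : St h P J ε) (H' : St h P J' ε') (hne : J.Nonempty)
    {S : Finset κ} (hS : ∀ x ∈ S, x ∈ J ∧ x ∈ J') :
    ∃ us : κ → β → F, (∀ x ∈ S, us x ≠ 0) ∧ ∀ gs gs' : κ → Mb, (∀ l ∈ J, l ∉ S → Ty h (ε l) (gs l)) →
      (∀ l ∈ J', l ∉ S → Ty h (ε' l) (gs' l)) → (∀ l, l ∉ J → gs l = 1) → (∀ l, l ∉ J' → gs' l = 1) →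
      P (wm 1 (fun l => if l ∈ S then vN h (us l) else gs l * gs' l) +
        (∏ x ∈ S, -(ε x * ε' x)) • wm 1 (fun l => if l ∈ S then vN h (us l) else gs' l * gs l)) := by
  classical
  have hh := hP.data.hh
  have key : ∀ x, ∃ (A A' : Mb) (u : β → F), x ∈ S → Ty h (ε x) A ∧ Ty h (ε' x) A' ∧ u ≠ 0 ∧
      h ((A * A') *ᵥ u) u ≠ 0 := fun x => by
    by_cases hx : x ∈ S
    · obtain ⟨A₀, hA₀⟩ := H.ex x (hS x hx).1
      obtain ⟨A₁, hA₁⟩ := H'.ex x (hS x hx).2
      obtain ⟨A, A', u, h1, h2, h3, h4⟩ := hA₀.exists_meet hh hA₁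
      exact ⟨A, A', u, fun _ => ⟨h1, h2, h3, h4⟩⟩
    · exact ⟨1, 1, 0, fun e => absurd e hx⟩
  choose A A' us key using key
  refine ⟨us, fun x hx => (key x hx).2.2.1, fun gs gs' hg hg' h1 h1' => ?_⟩
  obtain ⟨a, ha⟩ : ∃ a, a = fun l => if l ∈ S then A l else gs l := ⟨_, rfl⟩
  obtain ⟨b, hb⟩ : ∃ b, b = fun l => if l ∈ S then A' l else gs' l := ⟨_, rfl⟩
  have hTa : ∀ l ∈ J, Ty h (ε l) (a l) := fun l hl => by
    by_cases e : l ∈ S
    · simpa [ha, e] using (key l e).1
    · simpa [ha, e] using hg l hl e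
  have ka := H.all a hTa fun l hl => by
    have e : l ∉ S := fun e => hl (hS l e).1
    simpa [ha, e] using h1 l hl
  have kb := H'.all b (fun l hl => by
    by_cases e : l ∈ S
    · simpa [hb, e] using (key l e).2.1
    · simpa [hb, e] using hg' l hl e) fun l hl => by
    have e : l ∉ S := fun e => hl (hS l e).2
    simpa [hb, e] using h1' l hl
  obtain ⟨l₀, hl₀⟩ := hne
  have hsq : wm (1 : Equiv.Perm κ) a * wm 1 a = 0 := by
    rw [wm1_mul]
    exact wm_zero_of _ (l := l₀) ((hTa l₀ hl₀).sq hh)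
  have k := hP.squeeze (hP.anti hsq ka kb) us S
  rw [wm1_mul, wm1_mul, mul_add, add_mul, wm1_mul, wm1_mul, wm1_mul, wm1_mul] at k
  obtain ⟨φ, hφ⟩ : ∃ φ : κ → F, φ = fun l => if l ∈ S then h ((A l * A' l) *ᵥ us l) (us l) else 1 := ⟨_, rfl⟩
  obtain ⟨ψ, hψ⟩ : ∃ ψ : κ → F, ψ = fun l => if l ∈ S then -(ε l * ε' l) else 1 := ⟨_, rfl⟩
  obtain ⟨G, hG⟩ : ∃ G : κ → Mb, G = fun l => if l ∈ S then vN h (us l) else 1 := ⟨_, rfl⟩
  have hsand : ∀ (X : Mb) (u : β → F), vN h u * X * vN h u = h (X *ᵥ u) u • vN h u := fun X u =>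
    Matrix.ext_iff_mulVec.2 fun x => by
      rw [← Matrix.mulVec_mulVec, ← Matrix.mulVec_mulVec, vN_mulVec hh, vN_mulVec hh, Matrix.smul_mulVec,
        vN_mulVec hh, Matrix.mulVec_smul, hh.smul_left, smul_smul, mul_comm]
  have e1 : G * (a * b) * G = fun l => φ l • (if l ∈ S then vN h (us l) else gs l * gs' l) := funext fun l => by
    by_cases e : l ∈ S
    · simp only [Pi.mul_apply, hG, ha, hb, hφ, if_pos e, hsand]
    · simp [hG, ha, hb, hφ, e]
  have e2 : G * (b * a) * G = fun l => (ψ l * φ l) • (if l ∈ S then vN h (us l) else gs' l * gs l) := funext fun l => by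
    by_cases e : l ∈ S
    · obtain ⟨k1, k2, -, -⟩ := key l e
      simp only [Pi.mul_apply, hG, ha, hb, hφ, hψ, if_pos e, hsand]
      congr 1
      rw [← Matrix.mulVec_mulVec, k2.adj hh, k1.adj hh, Matrix.mulVec_mulVec, hh.skew ((A l * A' l) *ᵥ us l) (us l)]
      ring
    · simp [hG, ha, hb, hφ, hψ, e]
  rw [← hG, e1, e2, wm_smul_prod, wm_smul_prod, Finset.prod_mul_distrib] at k
  have hφ0 : ∏ l, φ l ≠ 0 := Finset.prod_ne_zero_iff.2 fun l _ => by
    rw [hφ]
    by_cases e : l ∈ S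
    · simpa [e] using (key l e).2.2.2
    · simp [e]
  have hψp : ∏ l, ψ l = ∏ x ∈ S, -(ε x * ε' x) := by
    rw [hψ, Finset.prod_ite_mem, Finset.univ_inter]
  have := hP.smul (∏ l, φ l)⁻¹ k
  rw [smul_add, smul_smul, smul_smul, inv_mul_cancel₀ hφ0, one_smul, mul_left_comm, inv_mul_cancel₀ hφ0, mul_one,
    hψp] at this
  exact this

/-- Joining two members. -/
theorem SAlg.join {J J' : Finset κ} {ε ε' : κ → F} (H : St h P J ε) (H' : St h P J' ε') (hne : J.Nonempty)
    (hs : ∏ x ∈ J ∩ J', -(ε x * ε' x) = 1) :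
    St h P (J ∪ J') (fun l => if l ∈ J ∩ J' then -1 else if l ∈ J then ε l else ε' l) := by
  classical
  obtain ⟨us, hus, k⟩ := hP.meet H H' hne (S := J ∩ J') fun x hx => Finset.mem_inter.1 hx
  have ex : ∀ l, ∃ A A' : Mb, (l ∈ J → Ty h (ε l) A) ∧ (l ∈ J' → Ty h (ε' l) A') ∧ (l ∉ J → A = 1) ∧
      (l ∉ J' → A' = 1) := fun l => by
    refine ⟨if hl : l ∈ J then (H.ex l hl).choose else 1, if hl : l ∈ J' then (H'.ex l hl).choose else 1,
      fun hl => ?_, fun hl => ?_, fun hl => dif_neg hl, fun hl => dif_neg hl⟩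
    · rw [dif_pos hl]; exact (H.ex l hl).choose_spec
    · rw [dif_pos hl]; exact (H'.ex l hl).choose_spec
  choose gs gs' hg hg' h1 h1' using ex
  have k' := k gs gs' (fun l hl _ => hg l hl) (fun l hl _ => hg' l hl) h1 h1'
  rw [hs, one_smul] at k'
  obtain ⟨g, hgd⟩ : ∃ g, g = fun l => if l ∈ J ∩ J' then vN h (us l) else gs l * gs' l := ⟨_, rfl⟩
  have e : (fun l => if l ∈ J ∩ J' then vN h (us l) else gs' l * gs l) = g := funext fun l => by
    rw [hgd]
    by_cases e : l ∈ J ∩ J'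
    · simp [e]
    · simp only [if_neg e]
      rcases not_and_or.1 (fun a => e (Finset.mem_inter.2 a)) with hl | hl
      · rw [h1 l hl, one_mul, mul_one]
      · rw [h1' l hl, one_mul, mul_one]
  rw [e, ← hgd, ← two_smul F (wm 1 g)] at k'
  have k'' := hP.smul (2 : F)⁻¹ k'
  rw [smul_smul, inv_mul_cancel₀ hP.h2, one_smul] at k''
  refine hP.st_of (gs := g) (fun l hl => ?_) (fun l hl => ?_) k''
  · rw [hgd]
    by_cases e : l ∈ J ∩ J'
    · simp only [if_pos e]
      exact Or.inl ⟨rfl, us l, hus l e, rfl⟩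
    · simp only [if_neg e]
      by_cases hJ : l ∈ J
      · rw [if_pos hJ, h1' l fun x => e (Finset.mem_inter.2 ⟨hJ, x⟩), mul_one]
        exact hg l hJ
      · rw [if_neg hJ, h1 l hJ, one_mul]
        exact hg' l ((Finset.mem_union.1 hl).resolve_left hJ)
  · rw [Finset.mem_union, not_or] at hl
    rw [hgd]
    simp only [if_neg (fun e => hl.1 (Finset.mem_inter.1 e).1), h1 l hl.1, h1' l hl.2, mul_one]

/-- An even set carries factors of rank one. -/
theorem SAlg.even_all {J : Finset κ} {ε : κ → F} (H : St h P J ε) (hne : J.Nonempty) (hev : Even J.card) :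
    St h P J (fun _ => -1) := by
  have k := hP.join H H hne (by
    rw [Finset.inter_self, Finset.prod_congr rfl fun x hx => by rw [hP.sgn H hx], Finset.prod_const,
      hev.neg_one_pow])
  rw [Finset.union_self] at k
  exact k.congr fun l hl => by simp [hl]

/-- The signs multiply to one. -/
theorem SAlg.prod_sgn {J : Finset κ} {ε : κ → F} (H : St h P J ε) : ∏ l ∈ J, ε l = 1 := by
  classical
  have hh := hP.data.hh
  have hex : ∀ l, ∃ A : Mb, (l ∈ J → Ty h (ε l) A) ∧ (l ∉ J → A = 1) ∧ A ≠ 0 := fun l => by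
    by_cases hl : l ∈ J
    · exact ⟨_, fun _ => (H.ex l hl).choose_spec, fun e => absurd hl e, (H.ex l hl).choose_spec.ne_zero hh⟩
    · obtain ⟨b⟩ : Nonempty β := Fintype.card_pos_iff.1 (by have := hP.hk; omega)
      exact ⟨1, fun e => absurd e hl, fun _ => rfl, fun e => one_ne_zero (α := F) (by
        simpa using congrFun (congrFun e b) b)⟩
  choose gs hg h1 hne using hex
  have hxy : ∀ l, ∃ x y, h (gs l *ᵥ x) y ≠ 0 := fun l => by
    by_contra hc
    push Not at hc
    exact hne l (Matrix.ext_iff_mulVec.2 fun x => by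
      rw [Matrix.zero_mulVec]
      exact hh.toSesq.eq_zero _ fun y => hh.toSesq.refl _ _ (hc x y))
  choose x y hxy using hxy
  have k := hP.adj (H.all gs hg h1) (ptens x) (ptens y)
  simp only [wm_mulVec, hP.data.tf_ptens, Equiv.Perm.coe_one, id_eq] at k
  have e : ∀ l, h (gs l *ᵥ x l) (y l) = (if l ∈ J then ε l else 1) * h (x l) (gs l *ᵥ y l) := fun l => by
    by_cases hl : l ∈ J
    · rw [if_pos hl, (hg l hl).adj hh]
    · rw [if_neg hl, h1 l hl, Matrix.one_mulVec, Matrix.one_mulVec, one_mul]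
  rw [Finset.prod_congr rfl fun l _ => e l, Finset.prod_mul_distrib, Finset.prod_ite_mem, Finset.univ_inter] at k
  have h0 : ∏ l, h (x l) (gs l *ᵥ y l) ≠ 0 := Finset.prod_ne_zero_iff.2 fun l _ e0 => hxy l (by
    rw [e l, e0, mul_zero])
  have hc := hP.data.hc
  field_simp at k
  exact k

/-- One more factor, from an odd set. -/
theorem SAlg.grow {J : Finset κ} {ε : κ → F} (H : St h P J ε) (hodd : Odd J.card) (σ : Equiv.Perm κ)
    (hσ : ∀ gs : κ → Mb, P (wm 1 gs) → P (wm 1 (gs ∘ σ))) {l m : κ} (hl : l ∉ J) (hm : m ∈ J)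
    (hset : ∀ x, σ x ∈ J ↔ (x = l ∨ x ∈ J.erase m)) (he : ε (σ l) = ε m) :
    ∃ ε', St h P (insert l J) ε' := by
  classical
  have H' := H.perm σ hσ
  obtain ⟨C, hC⟩ : ∃ C, C = J.erase m := ⟨_, rfl⟩
  have hlC : l ∉ C := fun e => hl (Finset.mem_of_mem_erase (hC ▸ e))
  have eJ' : (Finset.univ.filter fun x => σ x ∈ J) = insert l C := by
    ext x; simp [hset, hC]
  rw [eJ'] at H'
  have hi : J ∩ insert l C = C := by
    ext x
    simp only [Finset.mem_inter, Finset.mem_insert, hC, Finset.mem_erase]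
    constructor
    · rintro ⟨hx, rfl | hx'⟩
      · exact absurd hx hl
      · exact hx'
    · exact fun hx => ⟨hx.2, Or.inr hx⟩
  have hsq : ∀ x ∈ C, ε x * ε x = 1 := fun x hx => hP.sgn H (Finset.mem_of_mem_erase (hC ▸ hx))
  have hprod : ∏ x ∈ C, ε (σ x) = ∏ x ∈ C, ε x := by
    have h1 : ∏ x ∈ insert l C, ε (σ x) = ∏ x ∈ J, ε x :=
      Finset.prod_equiv σ (fun x => by rw [hset, Finset.mem_insert, hC]) fun x _ => rfl
    rw [Finset.prod_insert hlC, he, ← Finset.mul_prod_erase J ε hm, ← hC] at h1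
    exact mul_left_cancel₀ (fun e => by simpa [e] using hP.sgn H hm) h1
  have hev : Even C.card := by
    rw [hC, Finset.card_erase_of_mem hm]
    obtain ⟨r, hr⟩ := hodd
    exact ⟨r, by omega⟩
  have k := hP.join H H' ⟨m, hm⟩ (by
    rw [hi, Finset.prod_neg, Finset.prod_mul_distrib, hev.neg_one_pow, one_mul,
      show ∏ x ∈ C, (ε ∘ σ) x = ∏ x ∈ C, ε (σ x) from rfl, hprod, ← Finset.prod_mul_distrib,
      Finset.prod_eq_one hsq])
  refine ⟨fun x => if x ∈ J ∩ insert l C then -1 else if x ∈ J then ε x else (ε ∘ σ) x, ?_⟩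
  convert k using 1
  rw [hC]
  ext x
  simp only [Finset.mem_insert, Finset.mem_union, Finset.mem_erase]
  tauto

/-- A self-adjoint factor becomes one of rank two. -/
theorem SAlg.single {gs : κ → Mb} {m : κ} (hgs : P (wm 1 gs))
    (hadj : ∀ x y, h (gs m *ᵥ x) y = h x (gs m *ᵥ y)) (hns : ∀ r : F, gs m ≠ r • (1 : Mb)) :
    ∃ L, Ty h 1 L ∧ P (wm 1 (Function.update gs m L)) := by
  have hh := hP.data.hh
  obtain ⟨p, q, hp, hpq, hpq0, hX⟩ := hh.exists_orth_pair hP.h2 hadj hns
  refine ⟨vL h p q, Or.inr ⟨rfl, p, q, hp, hpq, hpq0, rfl⟩, ?_⟩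
  have k := hP.lam hgs m hpq0
  have e : vN h p * gs m * vN h q + vN h q * gs m * vN h p = h (gs m *ᵥ q) p • vL h p q :=
    Matrix.ext_iff_mulVec.2 fun x => by
      simp only [Matrix.add_mulVec, ← Matrix.mulVec_mulVec, vN_mulVec hh, Matrix.mulVec_smul, Matrix.smul_mulVec,
        vL_mulVec hh, hh.smul_left]
      rw [show h (gs m *ᵥ p) q = -h (gs m *ᵥ q) p by rw [hadj, hh.skew]]
      module
  obtain ⟨g, hg⟩ : ∃ g, g = Function.update gs m 1 := ⟨_, rfl⟩
  have hgm : g m = 1 := by rw [hg, Function.update_self]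
  have egs : wm (1 : Equiv.Perm κ) gs = wm 1 g * et m (gs m) := by
    rw [hg, ← wm_split, Function.update_eq_self]
  have k2 : P (wm 1 g * et m (vN h p * gs m * vN h q + vN h q * gs m * vN h p)) := by
    convert k using 1
    rw [egs, et_add, mul_add]
    congr 1 <;>
      rw [← mul_assoc, ← wm_update_ne g hgm, mul_assoc (wm 1 g), et_mul, mul_assoc (wm 1 g), et_mul]
  rw [e, et_smul, Matrix.mul_smul, hg, ← wm_split] at k2
  have := hP.smul (h (gs m *ᵥ q) p)⁻¹ k2
  rwa [smul_smul, inv_mul_cancel₀ hX, one_smul] at this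

/-- An anticommutator of factors of one kind at the place, rank one at the others. -/
theorem SAlg.mid {J J' : Finset κ} {ε ε' : κ → F} (H : St h P J ε) (H' : St h P J' ε') (hne : J.Nonempty)
    {m : κ} (hm : m ∈ J ∩ J') (hs : ∏ x ∈ (J ∩ J').erase m, -(ε x * ε' x) = 1) {A A' : Mb}
    (hA : Ty h (ε m) A) (hA' : Ty h (ε' m) A') :
    ∃ gs : κ → Mb, P (wm 1 gs) ∧ gs m = A * A' + A' * A ∧
      (∀ l ∈ J ∪ J', l ≠ m → Ty h (if l ∈ J ∩ J' then -1 else if l ∈ J then ε l else ε' l) (gs l)) ∧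
      ∀ l, l ∉ J ∪ J' → gs l = 1 := by
  classical
  obtain ⟨us, hus, k⟩ := hP.meet H H' hne (S := (J ∩ J').erase m)
    fun x hx => Finset.mem_inter.1 (Finset.mem_of_mem_erase hx)
  have ex : ∀ l, ∃ B B' : Mb, (l ∈ J → Ty h (ε l) B) ∧ (l ∈ J' → Ty h (ε' l) B') ∧ (l ∉ J → B = 1) ∧
      (l ∉ J' → B' = 1) := fun l => by
    refine ⟨if hl : l ∈ J then (H.ex l hl).choose else 1, if hl : l ∈ J' then (H'.ex l hl).choose else 1,
      fun hl => ?_, fun hl => ?_, fun hl => dif_neg hl, fun hl => dif_neg hl⟩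
    · rw [dif_pos hl]; exact (H.ex l hl).choose_spec
    · rw [dif_pos hl]; exact (H'.ex l hl).choose_spec
  choose b b' hg hg' h1 h1' using ex
  obtain ⟨hmJ, hmJ'⟩ := Finset.mem_inter.1 hm
  have k' := k (Function.update b m A) (Function.update b' m A')
    (fun l hl _ => by by_cases e : l = m <;> [(subst e; rwa [Function.update_self]); (rw [Function.update_of_ne e]; exact hg l hl)])
    (fun l hl _ => by by_cases e : l = m <;> [(subst e; rwa [Function.update_self]); (rw [Function.update_of_ne e]; exact hg' l hl)])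
    (fun l hl => by rw [Function.update_of_ne (show l ≠ m from fun e => hl (by rw [e]; exact hmJ))]; exact h1 l hl)
    (fun l hl => by rw [Function.update_of_ne (show l ≠ m from fun e => hl (by rw [e]; exact hmJ'))]; exact h1' l hl)
  rw [hs, one_smul] at k'
  obtain ⟨g, hgd⟩ : ∃ g, g = fun l => if l ∈ J ∩ J' then vN h (us l) else b l * b' l := ⟨_, rfl⟩
  have hcomm : ∀ l, l ∉ J ∩ J' → b' l * b l = b l * b' l := fun l e => by
    rcases not_and_or.1 (fun a => e (Finset.mem_inter.2 a)) with hl | hl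
    · rw [h1 l hl, one_mul, mul_one]
    · rw [h1' l hl, one_mul, mul_one]
  have e1 : ∀ B B' : Mb, (fun l => if l ∈ (J ∩ J').erase m then vN h (us l)
      else Function.update b m B l * Function.update b' m B' l) = Function.update g m (B * B') :=
    fun B B' => funext fun l => by
      by_cases e : l = m
      · subst e; simp
      · have e' : l ∈ (J ∩ J').erase m ↔ l ∈ J ∩ J' := by rw [Finset.mem_erase]; exact and_iff_right e
        simp only [e', Function.update_of_ne e, hgd]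
  have e2 : (fun l => if l ∈ (J ∩ J').erase m then vN h (us l)
      else Function.update b' m A' l * Function.update b m A l) = Function.update g m (A' * A) := funext fun l => by
    by_cases e : l = m
    · subst e; simp
    · have e₁ : l ∈ (J ∩ J').erase m ↔ l ∈ J ∩ J' := by rw [Finset.mem_erase]; exact and_iff_right e
      by_cases e' : l ∈ J ∩ J'
      · simp only [e₁, if_pos e', Function.update_of_ne e, hgd]
      · simp only [e₁, if_neg e', Function.update_of_ne e, hgd, hcomm l e']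
  rw [e1, e2, ← wm_update_add] at k'
  refine ⟨_, k', Function.update_self _ _ _, fun l hl hlm => ?_, fun l hl => ?_⟩
  · rw [Function.update_of_ne hlm, hgd]
    by_cases e : l ∈ J ∩ J'
    · simp only [if_pos e]
      exact Or.inl ⟨rfl, us l, hus l (Finset.mem_erase.2 ⟨hlm, e⟩), rfl⟩
    · simp only [if_neg e]
      by_cases hJ : l ∈ J
      · rw [if_pos hJ, h1' l fun x => e (Finset.mem_inter.2 ⟨hJ, x⟩), mul_one]
        exact hg l hJ
      · rw [if_neg hJ, h1 l hJ, one_mul]
        exact hg' l ((Finset.mem_union.1 hl).resolve_left hJ)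
  · rw [Finset.mem_union, not_or] at hl
    rw [Function.update_of_ne (show l ≠ m from fun e => hl.1 (by rw [e]; exact hmJ)), hgd]
    simp only [if_neg (fun e => hl.1 (Finset.mem_inter.1 e).1), h1 l hl.1, h1' l hl.2, mul_one]

end Cfsg.Agent.Classical.TensorSymp
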