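import Cfsg.Agent.Lib.Classical.TensorPowSymp.Fusion
import Cfsg.Agent.Lib.Classical.TensorPow.Main
import Cfsg.Agent.Lib.Classical.MaxTransvection

/-!
Stabilisers of tensor powers of symplectic spaces in odd characteristic: maximality and properness in coordinates,
and the transport to an ambient space.
-/

set_option autoImplicit false
set_option linter.unusedSectionVars false
set_option linter.unusedSimpArgs false
set_option linter.style.haveILetI false

namespace Cfsg.Agent.Classical.TensorSymp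

open Matrix Module MaxTv TensorMax TensorPow

variable {F : Type*} [Field F] [Fintype F]

section

variable {κ β : Type} [Fintype κ] [DecidableEq κ] [Fintype β] [DecidableEq β]

local notation "X" => (κ → β)
local notation "V" => ((κ → β) → F)
local notation "Mn" => Matrix (κ → β) (κ → β) F
local notation "Mb" => Matrix β β F

/-- A unipotent moving a pure tensor off the pure tensors is not in the stabiliser. -/
theorem not_mem_Wr_of_unip {T : GL X F} {gs : κ → Mb} {r : F} (hr : r ≠ 0) (hT : (T : Mn) = 1 + r • wm 1 gs)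
    (a ξ ξ' : κ → β → F) (h1 : ∀ l, ξ l ⬝ᵥ a l = 1) (h2 : ∀ l, ξ' l ⬝ᵥ (gs l *ᵥ a l) = 1) {j k : κ} (hjk : j ≠ k)
    (hj : ξ j ⬝ᵥ (gs j *ᵥ a j) = 0) (hj' : ξ' j ⬝ᵥ a j = 0) (hk' : ξ' k ⬝ᵥ a k = 0) : T ∉ Wr F κ β := by
  classical
  rintro ⟨π, ws, hTw⟩
  have h0 := congrArg (fun g : GL X F => (g : Mn) *ᵥ ptens a) hTw
  simp only [wgl_mulVec, hT, Matrix.add_mulVec, Matrix.one_mulVec, Matrix.smul_mulVec, wm_mulVec,
    Equiv.Perm.coe_one, id_eq] at h0
  set w : κ → β → F := fun l => (ws l : Mb) *ᵥ a (π l)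
  have key : ∀ η : κ → β → F, ∏ l, η l ⬝ᵥ w l = (∏ l, η l ⬝ᵥ a l) + r * ∏ l, η l ⬝ᵥ (gs l *ᵥ a l) := fun η => by
    have h3 := congrArg (ptens η ⬝ᵥ ·) h0
    simp only [dotProduct_add, dotProduct_smul, dot_ptens, smul_eq_mul] at h3
    exact h3.symm
  have hA : ∏ l, ξ l ⬝ᵥ w l = 1 := by
    rw [key, Finset.prod_eq_one fun l _ => h1 l, Finset.prod_eq_zero (Finset.mem_univ j) hj, mul_zero, add_zero]
  have hB : ∏ l, ξ' l ⬝ᵥ w l = r := by
    rw [key, Finset.prod_eq_one (f := fun l => ξ' l ⬝ᵥ (gs l *ᵥ a l)) fun l _ => h2 l,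
      Finset.prod_eq_zero (Finset.mem_univ j) hj', zero_add, mul_one]
  have hm : ∏ l, Function.update ξ' j (ξ j) l ⬝ᵥ w l = 0 := by
    rw [key, Finset.prod_eq_zero (Finset.mem_univ k) (by rw [Function.update_of_ne hjk.symm, hk']),
      Finset.prod_eq_zero (Finset.mem_univ j) (by rw [Function.update_self, hj]), mul_zero, add_zero]
  obtain ⟨l, -, hl⟩ := Finset.prod_eq_zero_iff.1 hm
  rcases eq_or_ne l j with rfl | e
  · rw [Function.update_self] at hl
    exact one_ne_zero (hA.symm.trans (Finset.prod_eq_zero (Finset.mem_univ l) hl))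
  · rw [Function.update_of_ne e] at hl
    exact hr (hB.symm.trans (Finset.prod_eq_zero (Finset.mem_univ l) hl))

variable {c : F} {h : (β → F) → (β → F) → F}

theorem Symp.card_even (hh : Symp h) : Even (Fintype.card β) := by
  obtain ⟨k, -, -, hk, -⟩ := hh.exists_model
  exact ⟨k, by omega⟩

/-- The derived group does not stabilise the decomposition. -/
theorem SData.gt_not_le_Wr (hT : SData c h) (h2 : (2 : F) ≠ 0) (hb : 2 ≤ Fintype.card β) (hbig : Big F β)
    (hκ : 2 ≤ Fintype.card κ) (hne : ¬ (Fintype.card β = 2 ∧ Fintype.card κ = 2)) :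
    ¬ GT (κ := κ) c h ≤ Wr F κ β := by
  classical
  intro hle
  have hh := hT.hh
  obtain ⟨b₀⟩ : Nonempty β := Fintype.card_pos_iff.1 (by omega)
  have hz0 : (Pi.single b₀ 1 : β → F) ≠ 0 := by simp
  generalize (Pi.single b₀ 1 : β → F) = z at hz0
  obtain ⟨u, huz, hzu⟩ := hh.partner hz0
  haveI : ∀ l : κ, Nonempty (Rst l) := fun l => nonempty_rst hκ l
  have hNadj : ∀ x y, h (vN h z *ᵥ x) y = -1 * h x (vN h z *ᵥ y) := fun x y => by
    rw [vN_mulVec hh, vN_mulVec hh, hh.smul_left, hh.smul_r, hh.skew y z]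
    ring
  have hN2 : vN h z * vN h z = 0 := vN_mul_self hh z
  have hNu : vN h z *ᵥ u = z := by rw [vN_mulVec hh, huz, one_smul]
  have d1 : fn h z ⬝ᵥ u = 1 := by rw [fn_dot hh.toSesq, huz]
  have d2 : fn h z ⬝ᵥ z = 0 := by rw [fn_dot hh.toSesq, hh.self]
  have d3 : fn h (-u) ⬝ᵥ u = 0 := by rw [fn_dot hh.toSesq, hh.neg_right, hh.self, neg_zero]
  have d4 : fn h (-u) ⬝ᵥ z = 1 := by rw [fn_dot hh.toSesq, hh.neg_right, hzu, neg_neg]
  obtain ⟨j, k, hjk⟩ := Fintype.exists_pair_of_one_lt_card (show 1 < Fintype.card κ by omega)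
  rcases Nat.even_or_odd (Fintype.card κ) with hev | ho
  swap
  · obtain ⟨T, hTi, hTm⟩ := hT.exists_unip (κ := κ) (gs := fun _ => vN h z) (ε := fun _ => -1)
      (fun _ => hNadj) (by rw [Finset.prod_const, Finset.card_univ, ho.neg_one_pow]) (k := j) hN2 1
    have h3 : 3 ≤ Fintype.card κ := by
      obtain ⟨s, hs⟩ := ho
      omega
    have h5 : 5 ≤ Fintype.card (κ → β) := by
      rw [Fintype.card_fun]
      calc 5 ≤ 2 ^ 3 := by norm_num
        _ ≤ 2 ^ Fintype.card κ := Nat.pow_le_pow_right (by norm_num) h3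
        _ ≤ Fintype.card β ^ Fintype.card κ := Nat.pow_le_pow_left hb _
    exact not_mem_Wr_of_unip one_ne_zero hTm (fun _ => u) (fun _ => fn h z) (fun _ => fn h (-u))
      (fun _ => d1) (fun _ => by rw [hNu]; exact d4) hjk (by rw [hNu]; exact d2) d3 d3
      (hle (hT.Iso_le_GT h2 ho h5 hTi))
  have hprod : ∀ m : κ, ∏ l, Function.update (fun _ => (-1 : F)) m 1 l = -1 := fun m => by
    rw [← Finset.mul_prod_erase _ _ (Finset.mem_univ m), Function.update_self, one_mul,
      Finset.prod_congr rfl (fun l hl => Function.update_of_ne (Finset.ne_of_mem_erase hl) _ _), Finset.prod_const,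
      Finset.card_erase_of_mem (Finset.mem_univ m), Finset.card_univ]
    exact (Nat.Even.sub_odd (by omega) hev odd_one).neg_one_pow
  obtain ⟨r₀, hr₀⟩ := hh.card_even
  by_cases hk2 : Fintype.card β = 2
  · have hq : 4 ≤ Fintype.card F := by
      rcases hbig with h | ⟨h, -⟩ | h
      all_goals omega
    obtain ⟨a, ha, ha1⟩ := exists_sq_ne_one hq
    obtain ⟨B, hB, hBz, -, -⟩ := hh.exists_torus huz ha
    obtain ⟨m, hmj, hmk⟩ : ∃ m : κ, m ≠ j ∧ m ≠ k := by
      by_contra hc
      push Not at hc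
      have h1 := Finset.card_le_card (fun l _ => by
        simp only [Finset.mem_insert, Finset.mem_singleton]
        by_cases e : l = j
        exacts [Or.inl e, Or.inr (hc l e)] : (Finset.univ : Finset κ) ⊆ {j, k})
      rw [Finset.card_univ, Finset.card_pair hjk] at h1
      exact hne ⟨hk2, by omega⟩
    obtain ⟨T, hTG, r, hr, hTm⟩ := hT.exists_unip_GT h2
      (gs := Function.update (fun _ => vN h z) m 1) (ε := Function.update (fun _ => -1) m 1)
      (fun l x y => by
        by_cases e : l = m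
        · subst e; simp
        · simp only [Function.update_of_ne e]; exact hNadj x y) (hprod m)
      (k := k) (by rw [Function.update_of_ne hmk.symm]; exact hN2) (j := j) hB (μ := a * a) ha1 (by
        rw [Function.update_of_ne hmj.symm, vN, hh.conj_vmv hB, hBz, hh.fn_smul', Matrix.smul_vecMulVec,
          Matrix.vecMulVec_smul, smul_smul])
    refine not_mem_Wr_of_unip hr hTm (fun _ => u) (fun _ => fn h z)
      (Function.update (fun _ => fn h (-u)) m (fn h z)) (fun _ => d1) (fun l => ?_) hjk ?_ ?_ ?_ (hle hTG)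
    · by_cases e : l = m
      · subst e; rw [Function.update_self, Function.update_self, Matrix.one_mulVec]; exact d1
      · rw [Function.update_of_ne e, Function.update_of_ne e, hNu]; exact d4
    · rw [Function.update_of_ne hmj.symm, hNu]; exact d2
    · rw [Function.update_of_ne hmj.symm]; exact d3
    · rw [Function.update_of_ne hmk.symm]; exact d3
  · obtain ⟨φ, hφ, hφz, hφu⟩ := exists_perp2 (show 3 ≤ Fintype.card β by omega) z u
    obtain ⟨z', rfl⟩ := fn_surjective hh.toSesq φ
    rw [fn_dot hh.toSesq] at hφz hφu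
    have hz'n : ∀ r : F, z' ≠ r • z := fun r e => by
      rw [e, hh.smul_r, huz, mul_one] at hφu
      exact hφ (by rw [e, hφu, zero_smul, fn_zero hh.toSesq])
    have hK : Ty h 1 (vL h z z') := Or.inr ⟨rfl, z, z', hz0, hz'n, hφz, rfl⟩
    obtain ⟨B, hB, hBz, -, hBfix⟩ := hh.exists_torus huz (a := -1) (neg_ne_zero.2 one_ne_zero)
    have hBz' : (B : Mb) *ᵥ z' = z' := hBfix z' (hh.toSesq.refl _ _ hφz) (hh.toSesq.refl _ _ hφu)
    obtain ⟨T, hTG, r, hr, hTm⟩ := hT.exists_unip_GT h2
      (gs := Function.update (fun _ => vN h z) j (vL h z z')) (ε := Function.update (fun _ => -1) j 1)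
      (fun l x y => by
        by_cases e : l = j
        · subst e; simp only [Function.update_self]; exact hK.adj hh x y
        · simp only [Function.update_of_ne e]; exact hNadj x y) (hprod j)
      (k := j) (by rw [Function.update_self]; exact hK.sq hh) (j := j) hB (μ := -1)
      (fun e => h2 (by linear_combination -e)) (by
        rw [Function.update_self, vL, Matrix.mul_sub, Matrix.sub_mul, hh.conj_vmv hB, hh.conj_vmv hB, hBz, hBz',
          hh.fn_smul', Matrix.smul_vecMulVec, Matrix.vecMulVec_smul, smul_sub])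
    have hLu : vL h z z' *ᵥ u = -z' := by rw [vL_mulVec hh, hφu, huz, zero_smul, one_smul, zero_sub]
    have hnm : -z' ∉ (F ∙ u) := fun hm => by
      obtain ⟨s, hs⟩ := Submodule.mem_span_singleton.1 hm
      have h1 := congrArg (fun v => h v z) hs
      simp only [hh.smul_left, huz, mul_one, hh.neg_left, hh.toSesq.refl _ _ hφz, neg_zero] at h1
      rw [h1, zero_smul] at hs
      exact hz'n 0 (by rw [zero_smul]; exact neg_eq_zero.1 hs.symm)
    obtain ⟨ψ, hψ1, hψ0⟩ := exists_dot_one hnm
    refine not_mem_Wr_of_unip hr hTm (fun _ => u) (fun _ => fn h z)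
      (Function.update (fun _ => fn h (-u)) j ψ) (fun _ => d1) (fun l => ?_) hjk ?_ ?_ ?_ (hle hTG)
    · by_cases e : l = j
      · subst e; rw [Function.update_self, Function.update_self, hLu]; exact hψ1
      · rw [Function.update_of_ne e, Function.update_of_ne e, hNu]; exact d4
    · rw [Function.update_self, hLu, fn_dot hh.toSesq, hh.neg_left, hh.toSesq.refl _ _ hφz, neg_zero]
    · rw [Function.update_self]; exact hψ0 u (Submodule.mem_span_singleton_self u)
    · rw [Function.update_of_ne hjk.symm]; exact d3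

end

variable {β : Type} [Fintype β] [DecidableEq β] {c : F} {h : (β → F) → (β → F) → F}

/-- Maximality in coordinates. -/
theorem SData.maxAt (hT : SData c h) (h2 : (2 : F) ≠ 0) (hb : 2 ≤ Fintype.card β) (hbig : Big F β) :
    ∀ (t : ℕ) (κ : Type) [Fintype κ] [DecidableEq κ] [Nonempty κ], Fintype.card κ = t →
      ¬ (Fintype.card β = 2 ∧ t = 2) → MaxAt c h κ := by
  intro t
  induction t using Nat.strong_induction_on with
  | _ t ih =>
    intro κ _ _ _ hcard hne M hle hH hns g hg
    classical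
    obtain ⟨i⟩ := ‹Nonempty κ›
    by_cases hsub : ∀ l : κ, l = i
    · exact one_of_subsingleton hsub g
    push Not at hsub
    obtain ⟨l₀, hl₀⟩ := hsub
    have ht : 2 ≤ Fintype.card κ := Fintype.one_lt_card_iff.2 ⟨l₀, i, hl₀⟩
    have hk : (Fintype.card β = 2 ∧ 3 ≤ Fintype.card κ) ∨ 4 ≤ Fintype.card β := by
      obtain ⟨r, hr⟩ := hT.hh.card_even
      by_cases h : Fintype.card β = 2
      · refine Or.inl ⟨h, ?_⟩
        rcases Nat.lt_or_ge (Fintype.card κ) 3 with h3 | h3
        · exact absurd ⟨h, by omega⟩ hne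
        · exact h3
      · exact Or.inr (by omega)
    have hO : OCx c h M := ⟨⟨hT, hle, hH, hb, ht, hbig⟩, h2, hk⟩
    have hM : Px c h M := ⟨hO, hO.scal_of_proper hns, fun j hj2 hjne => by
      haveI : Nonempty (Rst j) := Fintype.card_pos_iff.1 (by omega)
      exact ih _ (hcard ▸ Fintype.card_subtype_lt (x := j) (by simp)) (Rst j) rfl hjne⟩
    exact hM.le_of_odd hg

end Cfsg.Agent.Classical.TensorSymp
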