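import Cfsg.Agent.Lib.Classical.TensorPowSymp.App
import Cfsg.Agent.Lib.Classical.QuadBasic

/-!
Quadratic forms whose polar form is a tensor power of a symplectic form: the derived group of the isometries in
coordinates, and maximality of the stabilisers in odd characteristic.
-/

set_option autoImplicit false
set_option linter.unusedSectionVars false
set_option linter.unusedSimpArgs false
set_option linter.style.haveILetI false

namespace Cfsg.Agent.Classical.TensorSymp

open Matrix Module MaxTv TensorMax TensorPow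

variable {F : Type*} [Field F] [Fintype F] {ι : Type} [Fintype ι] [DecidableEq ι] {k t : ℕ}
  {Q : (ι → F) → F} {f₁ : (Fin k → F) → (Fin k → F) → F} {c : F} {e : ι ≃ (Fin t → Fin k)} {P : GL ι F}

local notation "X" => (Fin t → Fin k)
local notation "Mn" => Matrix (Fin t → Fin k) (Fin t → Fin k) F

/-- The isometries in coordinates. -/
theorem SData.mem_KT_iff (hD : SData c f₁) (ht : 1 ≤ t) (hQ : Geo.IsNondegenerateQuadraticForm Q)
    (hpol : ∀ x y, QuadraticMap.polar Q (powE e P x) (powE e P y) = tf (κ := Fin t) c f₁ x y)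
    (hpure : ∀ xs : Fin t → Fin k → F, Q (powE e P (ptens xs)) = 0) (g : GL X F) :
    powΦ e P g ∈ isometryGroup F Q ↔ g ∈ KT c f₁ := by
  classical
  haveI : Nonempty (Fin t) := ⟨⟨0, by omega⟩⟩
  have hqc : (2 : F) = 0 → ∀ x, Q (powE e P x) = qc c f₁ x := fun h2 x => by
    refine hD.qc_unique h2 (Q := fun x => Q (powE e P x)) (fun x y => ?_) (fun r x => ?_) (fun a => ?_) x
    · rw [← hpol, QuadraticMap.polar, map_add]
      ring
    · rw [map_smul, hQ.smul]; ring
    · rw [← ptens_single]; exact hpure _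
  have hself : ∀ x, tf (κ := Fin t) c f₁ x x = 2 * Q (powE e P x) := fun x => by
    rw [← hpol, QuadraticMap.polar, ← two_smul F (powE e P x), hQ.smul]
    ring
  rw [mem_isometryGroup]
  refine ⟨fun h => ⟨fun x y => ?_, fun h2 x => ?_⟩, fun h v => ?_⟩
  · rw [← hpol, ← hpol, ← powΦ_mulVec, ← powΦ_mulVec, QuadraticMap.polar, QuadraticMap.polar, ← Matrix.mulVec_add,
      h, h, h]
  · rw [← hqc h2, ← hqc h2, ← powΦ_mulVec, h]
  · obtain ⟨x, rfl⟩ := (powE e P).surjective v
    rw [powΦ_mulVec]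
    by_cases h2 : (2 : F) = 0
    · rw [hqc h2, hqc h2, h.2 h2]
    · have := h.1 x x
      rw [hself, hself] at this
      exact mul_left_cancel₀ h2 this

/-- The derived group in coordinates. -/
theorem SData.mem_GT_iff (hD : SData c f₁) (ht : 1 ≤ t) (hQ : Geo.IsNondegenerateQuadraticForm Q)
    (hpol : ∀ x y, QuadraticMap.polar Q (powE e P x) (powE e P y) = tf (κ := Fin t) c f₁ x y)
    (hpure : ∀ xs : Fin t → Fin k → F, Q (powE e P (ptens xs)) = 0) (g : GL X F) :
    powΦ e P g ∈ Geo.omegaGL Q ↔ g ∈ GT c f₁ := by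
  have hmap : (KT (κ := Fin t) c f₁).map (powΦ e P).toMonoidHom = isometryGroup F Q := by
    ext y
    refine ⟨?_, fun hy => ⟨(powΦ e P).symm y, ?_, (powΦ e P).apply_symm_apply y⟩⟩
    · rintro ⟨x, hx, rfl⟩
      exact (hD.mem_KT_iff ht hQ hpol hpure x).2 hx
    · exact (hD.mem_KT_iff ht hQ hpol hpure _).1 (by rwa [MulEquiv.apply_symm_apply])
  have he : Geo.omegaGL Q = (GT (κ := Fin t) c f₁).map (powΦ e P).toMonoidHom := by
    rw [Geo.omegaGL, show Omega F Q = commutator _ from rfl, commutator_def, Subgroup.map_commutator,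
      ← MonoidHom.range_eq_map, Subgroup.range_subtype, GT, Subgroup.map_commutator, hmap]
  rw [he]
  exact Subgroup.mem_map_iff_mem (powΦ e P).injective

/-- Maximality in the derived group from maximality in coordinates. -/
theorem SData.orth_maximal_of (hD : SData c f₁) (ht : 1 ≤ t) (hQ : Geo.IsNondegenerateQuadraticForm Q)
    (hpol : ∀ x y, QuadraticMap.polar Q (powE e P x) (powE e P y) = tf (κ := Fin t) c f₁ x y)
    (hpure : ∀ xs : Fin t → Fin k → F, Q (powE e P (ptens xs)) = 0)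
    (hns : ¬ GT (κ := Fin t) c f₁ ≤ Wr F (Fin t) (Fin k))
    (hmax : ∀ M : Subgroup (GL X F), M ≤ GT c f₁ → Wr F (Fin t) (Fin k) ⊓ GT c f₁ ≤ M → ¬ GT c f₁ ≤ M →
      M ≤ Wr F (Fin t) (Fin k)) :
    Geo.IsMaximalIn (Geo.omegaGL Q) (Geo.tensorWreathSubgroup k t e P ⊓ Geo.omegaGL Q) := by
  have hK := hD.mem_GT_iff (e := e) (P := P) ht hQ hpol hpure
  have hW : ∀ g, powΦ e P g ∈ Geo.tensorWreathSubgroup k t e P ↔ g ∈ Wr F (Fin t) (Fin k) := mem_wreath e P
  refine isMaximalIn_intro inf_le_right (fun h => ?_) fun M hHM hMK g hg hgH => ?_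
  · exact hns fun a ha => (hW a).1 (h ((hK a).2 ha)).1
  intro z hz
  obtain ⟨a, rfl⟩ := (powΦ e P).surjective z
  obtain ⟨b, rfl⟩ := (powΦ e P).surjective g
  have hb' : b ∉ Wr F (Fin t) (Fin k) := fun h => hgH ⟨(hW b).2 h, hMK hg⟩
  by_contra hzM
  exact hb' (hmax (M.comap (powΦ e P).toMonoidHom) (fun x hx => (hK x).1 (hMK hx))
    (fun x hx => hHM ⟨(hW x).2 hx.1, (hK x).2 hx.2⟩) (fun h => hzM (h ((hK a).1 hz))) hg)

/-- Maximality in odd characteristic. -/
theorem SData.orth_maximal_odd (hD : SData c f₁) (h2 : (2 : F) ≠ 0) (hn : 13 ≤ Fintype.card ι) (ht : 2 ≤ t)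
    (hex : ¬ (Fintype.card F = 3 ∧ k = 2)) (hQ : Geo.IsNondegenerateQuadraticForm Q)
    (hpol : ∀ x y, QuadraticMap.polar Q (powE e P x) (powE e P y) = tf (κ := Fin t) c f₁ x y)
    (hpure : ∀ xs : Fin t → Fin k → F, Q (powE e P (ptens xs)) = 0) :
    Geo.IsMaximalIn (Geo.omegaGL Q) (Geo.tensorWreathSubgroup k t e P ⊓ Geo.omegaGL Q) := by
  have hcard : Fintype.card ι = k ^ t := by
    rw [Fintype.card_congr e, Fintype.card_fun, Fintype.card_fin, Fintype.card_fin]
  have hk : 2 ≤ k := by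
    by_contra hlt
    have h1 : k ^ t ≤ 1 ^ t := Nat.pow_le_pow_left (by omega) t
    rw [one_pow] at h1
    omega
  have hne : ¬ (Fintype.card (Fin k) = 2 ∧ t = 2) := fun h => by
    rw [Fintype.card_fin] at h
    rw [h.1, h.2] at hcard
    omega
  have hF3 : 3 ≤ Fintype.card F := by
    by_contra hlt
    have h1 : Fintype.card F = 2 := le_antisymm (by omega) (Fintype.one_lt_card (α := F))
    have h3 := Nat.cast_card_eq_zero F
    rw [h1] at h3
    exact h2 (by exact_mod_cast h3)
  have hbig : Big F (Fin k) := by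
    obtain ⟨r, hr⟩ := hD.hh.card_even
    rw [Fintype.card_fin] at hr
    rw [Big, Fintype.card_fin]
    rcases eq_or_ne k 2 with rfl | hk2
    · exact Or.inr (Or.inr (by
        rcases eq_or_ne (Fintype.card F) 3 with h3 | h3
        · exact absurd ⟨h3, rfl⟩ hex
        · omega))
    · exact Or.inr (Or.inl ⟨by omega, hF3⟩)
  have hb : 2 ≤ Fintype.card (Fin k) := by rw [Fintype.card_fin]; exact hk
  haveI : Nonempty (Fin t) := ⟨⟨0, by omega⟩⟩
  exact hD.orth_maximal_of (by omega) hQ hpol hpure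
    (hD.gt_not_le_Wr (κ := Fin t) h2 hb hbig (by rw [Fintype.card_fin]; exact ht) (by rwa [Fintype.card_fin t]))
    fun M hle hH hns => hD.maxAt h2 hb hbig t (Fin t) (Fintype.card_fin t) hne M
      (fun x hx => GT_le_Iso (hle hx)) hH hns

end Cfsg.Agent.Classical.TensorSymp
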