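import Cfsg.Agent.Lib.Classical.TensorPowSymp.Stab
import Cfsg.Agent.Lib.Classical.QuadraticPairEven
import Mathlib.GroupTheory.Nilpotent

/-!
A root element and a conjugate of one in a proper overgroup: a target containing the elements of product shape
contains the p-groups through a root element, and an involution commuting with the pair is of product shape.
-/

set_option autoImplicit false
set_option linter.unusedSectionVars false
set_option linter.unusedSimpArgs false
set_option linter.style.haveILetI false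

namespace Cfsg.Agent.Classical.TensorSymp

open Matrix Module MaxTv TensorMax Overfield
open Cfsg.Agent.Classical.TensorPow (k2 k2_val k2_mulVec k2_mul k2_one)

variable {F : Type*} [Field F] [Fintype F] {α β : Type} [Fintype α] [DecidableEq α] [Fintype β] [DecidableEq β]

local notation "V" => (α × β → F)
local notation "Mn" => Matrix (α × β) (α × β) F
local notation "Ma" => Matrix α α F
local notation "Mb" => Matrix β β F
local notation "Ea" => ((α → F) →ₗ[F] (α → F))

/-- A root element of the second factor at a vector, with its scalar. -/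
def IsRoot (h : (β → F) → (β → F) → F) (X : GL (α × β) F) (z : β → F) (a : F) : Prop :=
  ∀ t, (X : Matrix (α × β) (α × β) F) *ᵥ t = t + a • tmul (sl h z t) z

/-- The fixed space of the negative of an element. -/
def Em (ζ : GL (α × β) F) : Submodule F (α × β → F) :=
  LinearMap.ker (Matrix.toLin' (ζ : Matrix (α × β) (α × β) F) + LinearMap.id)

theorem mem_Em {ζ : GL (α × β) F} {t : V} : t ∈ Em ζ ↔ (ζ : Mn) *ᵥ t = -t := by
  rw [Em, LinearMap.mem_ker, LinearMap.add_apply, Matrix.toLin'_apply, LinearMap.id_apply, add_eq_zero_iff_eq_neg]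

theorem tmul_neg_left' (x : α → F) (w : β → F) : tmul (-x) w = -tmul x w := (fac w).map_neg x

theorem tmul_neg_right' (x : α → F) (w : β → F) : tmul x (-w) = -tmul x w := by
  rw [← neg_one_smul F w, tmul_smul_right, neg_one_smul]

/-- A subgroup containing the elements of product shape, closed under the fusion of root elements, whose elements
move a line of the second factor to a line or meet it in a totally isotropic part. -/
structure Tgt (fA : (α → F) → (α → F) → F) (h : (β → F) → (β → F) → F) (M L : Subgroup (GL (α × β) F)) : Prop where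
  kron : ∀ g ∈ M, (∃ A B, g = k2 A B) → g ∈ L
  conj : ∀ {g X : GL (α × β) F} {z : β → F}, g ∈ M → z ≠ 0 → IsRoot h X z (1 : F) → g * X * g⁻¹ ∈ L → g ∈ L
  line : ∀ g ∈ L, ∀ z : β → F, z ≠ 0 → (∃ A B, g = k2 A B) ∨ ∃ Y : Submodule F (α → F),
    (∀ x ∈ Y, ∀ x' ∈ Y, fA x x' = 0) ∧ ∀ x x', (g : Matrix (α × β) (α × β) F) *ᵥ tmul x' z = tmul x z → x ∈ Y

variable {e : F} {fA : (α → F) → (α → F) → F} {h : (β → F) → (β → F) → F}
  {f : (α × β → F) → (α × β → F) → F} {M L : Subgroup (GL (α × β) F)}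

namespace IsRoot

variable {X : GL (α × β) F} {z : β → F} {a : F}

theorem fix (hh : Symp h) (hX : IsRoot h X z a) {t : V} (ht : sl h z t = 0) : (X : Mn) *ᵥ t = t := by
  rw [hX, ht, tmul_zero_left, smul_zero, add_zero]

theorem fix_z (hh : Symp h) (hX : IsRoot h X z a) (x : α → F) : (X : Mn) *ᵥ tmul x z = tmul x z :=
  hX.fix hh (by rw [sl_tmul' hh, hh.self, zero_smul])

theorem sq (hh : Symp h) (hX : IsRoot h X z a) : ((X : Mn) - 1) * ((X : Mn) - 1) = 0 :=
  Matrix.ext_iff_mulVec.2 fun t => by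
    rw [← Matrix.mulVec_mulVec, Matrix.sub_mulVec, Matrix.one_mulVec, Matrix.sub_mulVec, Matrix.one_mulVec,
      hX t, add_sub_cancel_left, Matrix.mulVec_smul, hX.fix_z hh, sub_self, Matrix.zero_mulVec]

theorem fixed_iff (hh : Symp h) (hz : z ≠ 0) (ha : a ≠ 0) (hX : IsRoot h X z a) {t : V} :
    (X : Mn) *ᵥ t = t ↔ sl h z t = 0 := by
  refine ⟨fun ht => ?_, hX.fix hh⟩
  rw [hX, add_eq_left, smul_eq_zero] at ht
  exact fac_injective hz ((ht.resolve_left ha).trans (tmul_zero_left z).symm)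

end IsRoot

variable (hS : SC e fA h f M)
include hS

/-- Root elements lie in the group and are of product shape. -/
theorem SC.exists_root (z : β → F) (a : F) : ∃ X ∈ M, IsRoot h X z a ∧ ∃ A B, X = k2 A B := by
  obtain ⟨B, hB, -, -, hBx⟩ := hS.hh.exists_tv z a
  refine ⟨_, hS.kB hB, fun t => ?_, 1, B, rfl⟩
  refine LinearMap.congr_fun (f := Matrix.toLin' (k2 (1 : GL α F) B : Mn))
    (g := LinearMap.id + a • (fac z).comp (sl h z)) (ext_tmul fun x y => ?_) t
  simp only [Matrix.toLin'_apply, hS.toPr.inner_apply, hBx, LinearMap.add_apply, LinearMap.id_apply,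
    LinearMap.smul_apply, LinearMap.comp_apply, fac_apply, sl_tmul' hS.hh, tmul_add_right, tmul_smul_right,
    tmul_smul_left, smul_smul]

theorem SC.root_kron {X : GL (α × β) F} {z : β → F} {a : F} (hX : IsRoot h X z a) :
    X ∈ M ∧ ∃ A B, X = k2 A B := by
  obtain ⟨X', hX', hr, hk⟩ := hS.exists_root z a
  obtain rfl : X = X' := Units.ext (Matrix.ext_iff_mulVec.2 fun t => by rw [hX, hr])
  exact ⟨hX', hk⟩

variable (hL : Tgt fA h M L)
include hL

/-- Groups of prime power order through a root element. -/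
theorem SC.pgroup_le {p : ℕ} [Fact p.Prime] {Q : Subgroup (GL (α × β) F)} (hQ : Q ≤ M) (hp : IsPGroup p Q)
    {X : GL (α × β) F} {z : β → F} (hz : z ≠ 0) (hX : IsRoot h X z (1 : F)) (hXQ : X ∈ Q) : Q ≤ L := by
  haveI : Group.IsNilpotent Q := hp.isNilpotent
  by_contra hne
  let L' : Subgroup Q := L.comap Q.subtype
  have hL' : L' < ⊤ := lt_top_iff_ne_top.2 fun h' => hne fun x hx =>
    (h' ▸ Subgroup.mem_top (⟨x, hx⟩ : Q) : (⟨x, hx⟩ : Q) ∈ L')
  obtain ⟨n, hnN, hnL⟩ := SetLike.exists_of_lt (normalizerCondition_of_isNilpotent L' hL')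
  exact hnL (hL.conj (hQ n.2) hz hX
    (((Subgroup.mem_normalizer_iff.1 hnN) ⟨X, hXQ⟩).1 (hL.kron _ (hS.root_kron hX).1 (hS.root_kron hX).2)))

omit hL

/-- An involution commuting with a root element. -/
theorem SC.invol_form {X ζ : GL (α × β) F} {z u : β → F} (hu : h u z = 1) (hX : IsRoot h X z (1 : F))
    (hζ : ζ ∈ M) (hζ2 : ζ * ζ = 1) (hζX : ζ * X = X * ζ) :
    ∃ (y : Ea) (T : (β → F) →ₗ[F] (β → F)), (∀ x w, (ζ : Mn) *ᵥ tmul x w = tmul (y x) (T w)) ∧
      (∀ x, y (y x) = x) ∧ (∀ w, T (T w) = w) ∧ T z = z ∧ h (T u) z = 1 ∧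
      (∀ t, sl h z ((ζ : Mn) *ᵥ t) = y (sl h z t)) ∧ ∀ x x', fA (y x) (y x') = fA x x' := by
  have hh := hS.hh
  have hz0 : z ≠ 0 := fun e0 => one_ne_zero (α := F) (by rw [← hu, e0, hh.toSesq.zero_right])
  obtain ⟨A₀, B₀, hAB⟩ := hS.comm_kron hζ hz0 (one_ne_zero (α := F)) hX hζX
  have hζap : ∀ x w, (ζ : Mn) *ᵥ tmul x w = tmul ((A₀ : Ma) *ᵥ x) ((B₀ : Mb) *ᵥ w) := fun x w => by
    rw [hAB, k2_mulVec]
  have hζz : ∀ x, (ζ : Mn) *ᵥ tmul x z = tmul (sl h z ((ζ : Mn) *ᵥ tmul x u)) z := fun x => by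
    have h' := congrArg (fun w : GL (α × β) F => (w : Mn) *ᵥ tmul x u) hζX
    simp only [Units.val_mul, ← Matrix.mulVec_mulVec, hX _, Matrix.mulVec_add, Matrix.mulVec_smul, sl_tmul' hh, hu,
      one_smul] at h'
    exact add_left_cancel h'
  obtain ⟨i₀⟩ : Nonempty α := Fintype.card_pos_iff.1 (by have := hS.ha; omega)
  have hx0 : (Pi.single i₀ 1 : α → F) ≠ 0 := by simp
  obtain ⟨ξ₁, hξ₁⟩ := exists_dual (TensorPow.gl_mulVec_ne_zero A₀ hx0)
  obtain ⟨θ, hθ⟩ : ∃ θ, (B₀ : Mb) *ᵥ z = θ • z := by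
    have h' := congrArg (lslice ξ₁) (hζz (Pi.single i₀ 1))
    rw [hζap, lslice_tmul, lslice_tmul, hξ₁, one_smul] at h'
    exact ⟨_, h'⟩
  have hθ0 : θ ≠ 0 := fun e0 => TensorPow.gl_mulVec_ne_zero B₀ hz0 (by rw [hθ, e0, zero_smul])
  obtain ⟨y, hy⟩ : ∃ y : Ea, y = θ • Matrix.toLin' (A₀ : Ma) := ⟨_, rfl⟩
  obtain ⟨T, hT⟩ : ∃ T : (β → F) →ₗ[F] (β → F), T = θ⁻¹ • Matrix.toLin' (B₀ : Mb) := ⟨_, rfl⟩
  have hap : ∀ x w, (ζ : Mn) *ᵥ tmul x w = tmul (y x) (T w) := fun x w => by
    rw [hζap, hy, hT, LinearMap.smul_apply, LinearMap.smul_apply, Matrix.toLin'_apply, Matrix.toLin'_apply,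
      tmul_smul_left, tmul_smul_right, smul_smul, mul_inv_cancel₀ hθ0, one_smul]
  have hTz : T z = z := by
    rw [hT, LinearMap.smul_apply, Matrix.toLin'_apply, hθ, smul_smul, inv_mul_cancel₀ hθ0, one_smul]
  obtain ⟨ψ, hψ⟩ := exists_dual hz0
  have hyy : ∀ x, y (y x) = x := fun x => by
    have := congrArg (fun w : GL (α × β) F => slice ψ ((w : Mn) *ᵥ tmul x z)) hζ2
    simp only [Units.val_mul, ← Matrix.mulVec_mulVec, hap, hTz, Units.val_one, Matrix.one_mulVec, slice_tmul, hψ,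
      one_smul] at this
    exact this
  obtain ⟨ξ, hξ⟩ := exists_dual hx0
  have hTT : ∀ w, T (T w) = w := fun w => by
    have := congrArg (fun v : GL (α × β) F => lslice ξ ((v : Mn) *ᵥ tmul (Pi.single i₀ 1) w)) hζ2
    simp only [Units.val_mul, ← Matrix.mulVec_mulVec, hap, hyy, Units.val_one, Matrix.one_mulVec, lslice_tmul, hξ,
      one_smul] at this
    exact this
  have hTu : h (T u) z = 1 := by
    have h' := congrArg (slice ψ) (hζz (y (Pi.single i₀ 1)))
    rw [hap, hap, hyy, hTz, slice_tmul, slice_tmul, hψ, one_smul, sl_tmul' hh, one_smul] at h'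
    by_contra hne
    exact hx0 ((smul_eq_zero.1 (show (h (T u) z - 1) • (Pi.single i₀ 1 : α → F) = 0 by
      rw [sub_smul, one_smul, ← h', sub_self])).resolve_left (sub_ne_zero.2 hne))
  have hyiso : ∀ x x', fA (y x) (y x') = fA x x' := fun x x' => by
    have h' := hS.iso hζ (tmul x u) (tmul x' z)
    rwa [hap, hap, hS.ten, hS.ten, hTz, hTu, hu, mul_one, mul_one] at h'
  refine ⟨y, T, hap, hyy, hTT, hTz, hTu, fun t => hS.eq_of_fA fun x => ?_, hyiso⟩
  have h1 : (ζ : Mn) *ᵥ tmul (y x) z = tmul x z := by rw [hap, hyy, hTz]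
  rw [← hS.f_sl]
  conv_lhs => rw [← h1]
  rw [hS.iso hζ, hS.f_sl, ← hyiso, hyy]

/-- The negated space of an involution commuting with a root element and a quadratic element. -/
theorem SC.Em_dim {X d ζ : GL (α × β) F} {z : β → F} (hz : z ≠ 0) (hX : IsRoot h X z (1 : F))
    (hdsq : ((d : Mn) - 1) * ((d : Mn) - 1) = 0) (hζd : ζ * d = d * ζ)
    (hfix : ∀ t, (X : Mn) *ᵥ t = t → (d : Mn) *ᵥ t = t → (ζ : Mn) *ᵥ t = t)
    {y : Ea} (hsl : ∀ t, sl h z ((ζ : Mn) *ᵥ t) = y (sl h z t)) :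
    (∀ t ∈ Em ζ, sl h z t = 0 → (d : Mn) *ᵥ t = t → t = 0) ∧
    (∀ t ∈ Em ζ, sl h z t ∈ LinearMap.ker (y + LinearMap.id)) ∧
    finrank F (Em ζ : Submodule F V) ≤
      finrank F ((Em ζ).map (Matrix.toLin' (d : Mn) - LinearMap.id)) +
        finrank F (LinearMap.ker (y + LinearMap.id)) ∧
    (Em ζ).map (Matrix.toLin' (d : Mn) - LinearMap.id) ≤
      Em ζ ⊓ LinearMap.ker (Matrix.toLin' (d : Mn) - LinearMap.id) ∧
    finrank F (Em ζ ⊓ LinearMap.ker (Matrix.toLin' (d : Mn) - LinearMap.id) : Submodule F V) ≤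
      finrank F (LinearMap.ker (y + LinearMap.id)) := by
  have hh := hS.hh
  have h1 : ∀ t ∈ Em ζ, sl h z t = 0 → (d : Mn) *ᵥ t = t → t = 0 := fun t ht h0 hd => by
    have h3 := hfix t (hX.fix hh h0) hd
    rw [mem_Em.1 ht] at h3
    have : (2 : F) • t = 0 := by rw [two_smul]; nth_rw 1 [← h3]; exact neg_add_cancel t
    exact (smul_eq_zero.1 this).resolve_left hS.h2
  have h2 : ∀ t ∈ Em ζ, sl h z t ∈ LinearMap.ker (y + LinearMap.id) := fun t ht => by
    rw [LinearMap.mem_ker, LinearMap.add_apply, LinearMap.id_apply, ← hsl, mem_Em.1 ht, map_neg, neg_add_cancel]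
  have h4 : (Em ζ).map (Matrix.toLin' (d : Mn) - LinearMap.id) ≤
      Em ζ ⊓ LinearMap.ker (Matrix.toLin' (d : Mn) - LinearMap.id) := by
    rintro _ ⟨t, ht, rfl⟩
    refine ⟨mem_Em.2 ?_, LinearMap.mem_ker.2 ?_⟩
    · rw [LinearMap.sub_apply, Matrix.toLin'_apply, LinearMap.id_apply, Matrix.mulVec_sub, Matrix.mulVec_mulVec,
        ← Units.val_mul, hζd, Units.val_mul, ← Matrix.mulVec_mulVec, mem_Em.1 ht, Matrix.mulVec_neg, sub_neg_eq_add,
        neg_sub, neg_add_eq_sub]
    · have h' := congrArg (fun A : Mn => A *ᵥ t) hdsq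
      simp only [← Matrix.mulVec_mulVec, Matrix.sub_mulVec, Matrix.one_mulVec, Matrix.zero_mulVec] at h'
      simpa only [LinearMap.sub_apply, Matrix.toLin'_apply, LinearMap.id_apply] using h'
  set K₀ := Em ζ ⊓ LinearMap.ker (Matrix.toLin' (d : Mn) - LinearMap.id) with hK₀
  have hmemK : ∀ t ∈ K₀, t ∈ Em ζ ∧ (d : Mn) *ᵥ t = t := fun t ht => ⟨ht.1, by
    have h' := LinearMap.mem_ker.1 ht.2
    rw [LinearMap.sub_apply, Matrix.toLin'_apply, LinearMap.id_apply, sub_eq_zero] at h'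
    exact h'⟩
  have h5 : finrank F K₀ ≤ finrank F (LinearMap.ker (y + LinearMap.id)) := by
    refine LinearMap.finrank_le_finrank_of_injective
      (f := ((sl h z).domRestrict K₀).codRestrict _ fun t => h2 _ (hmemK _ t.2).1) ?_
    rw [injective_iff_map_eq_zero]
    intro t ht
    exact Subtype.ext (h1 _ (hmemK _ t.2).1 (congrArg Subtype.val ht) (hmemK _ t.2).2)
  refine ⟨h1, h2, ?_, h4, h5⟩
  let N' := (Matrix.toLin' (d : Mn) - LinearMap.id).domRestrict (Em ζ)
  have r := LinearMap.finrank_range_add_finrank_ker N'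
  rw [LinearMap.range_domRestrict] at r
  have hk : finrank F (LinearMap.ker N') ≤ finrank F (LinearMap.ker (y + LinearMap.id)) := by
    refine LinearMap.finrank_le_finrank_of_injective
      (f := (((sl h z).comp (Em ζ).subtype).domRestrict (LinearMap.ker N')).codRestrict _ fun t => h2 _ t.1.2) ?_
    rw [injective_iff_map_eq_zero]
    rintro ⟨⟨t, ht⟩, htk⟩ hts
    have h' : (d : Mn) *ᵥ t - t = 0 := LinearMap.mem_ker.1 htk
    exact Subtype.ext (Subtype.ext (h1 t ht (congrArg Subtype.val hts) (sub_eq_zero.1 h')))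
  omega

end Cfsg.Agent.Classical.TensorSymp
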