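import Cfsg.Agent.Lib.Classical.TensorPowSymp.Pair

/-!
Odd characteristic, factors of dimension at least four: a proper overgroup lies in the target.
-/

set_option autoImplicit false
set_option linter.unusedSectionVars false
set_option linter.unusedSimpArgs false
set_option linter.style.haveILetI false

namespace Cfsg.Agent.Classical.TensorSymp

open Matrix Module MaxTv TensorMax Overfield
open Cfsg.Agent.Classical.TensorPow (k2 k2_val k2_mulVec k2_mul k2_one)

variable {F : Type*} [Field F] [Fintype F] {α β : Type} [Fintype α] [DecidableEq α] [Fintype β] [DecidableEq β]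

local notation "V" => (α × β → F)
local notation "Mn" => Matrix (α × β) (α × β) F
local notation "Ma" => Matrix α α F
local notation "Mb" => Matrix β β F
local notation "Ea" => ((α → F) →ₗ[F] (α → F))

/-- Fixed vectors of two elements are fixed by their group. -/
theorem fix_closure {s : Set (GL (α × β) F)} {t : V} (hs : ∀ w ∈ s, (w : Mn) *ᵥ t = t) {w : GL (α × β) F}
    (hw : w ∈ Subgroup.closure s) : (w : Mn) *ᵥ t = t := by
  induction hw using Subgroup.closure_induction with
  | mem w hw => exact hs w hw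
  | one => simp
  | mul w w' _ _ h h' => rw [Units.val_mul, ← Matrix.mulVec_mulVec, h', h]
  | inv w _ h =>
    conv_lhs => rw [← h]
    rw [inv_mulVec_cancel]

variable {e : F} {fA : (α → F) → (α → F) → F} {h : (β → F) → (β → F) → F}
  {f : (α × β → F) → (α × β → F) → F} {M L : Subgroup (GL (α × β) F)}

variable (hS : SC e fA h f M)
include hS

/-- Two quadratic isometries generate a group of prime power order or a central involution. -/
theorem SC.exists_invol (hL : Tgt fA h M L) {X d : GL (α × β) F} {z : β → F} (hz : z ≠ 0)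
    (hX : IsRoot h X z (1 : F)) (hdM : d ∈ M) (hdk : d ∉ L) (hdsq : ((d : Mn) - 1) * ((d : Mn) - 1) = 0) :
    ∃ ζ ∈ Subgroup.closure ({X, d} : Set (GL (α × β) F)), ζ ≠ 1 ∧ ζ * ζ = 1 ∧ ζ * X = X * ζ ∧ ζ * d = d * ζ := by
  classical
  obtain ⟨i₀⟩ : Nonempty α := Fintype.card_pos_iff.1 (by have := hS.ha; omega)
  obtain ⟨j₀⟩ := hS.toPr.nonempty_b
  haveI : Nonempty (α × β) := ⟨(i₀, j₀)⟩
  obtain ⟨p, hp⟩ := CharP.exists F
  haveI := hp
  haveI : Fact p.Prime := ⟨(CharP.char_is_prime_or_zero F p).resolve_right (CharP.char_ne_zero_of_finite F p)⟩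
  let Wf : V →+ V →+ F := AddMonoidHom.mk' (fun x => AddMonoidHom.mk' (fun y => f x y) (fun a b => hS.hV.add_right x a b))
    (fun a b => AddMonoidHom.ext fun y => hS.hV.add_left a b y)
  have hXM := (hS.root_kron hX).1
  have hP : QuadPair.Pair Wf X d :=
    { two := hS.h2
      nd := fun x hx => hS.hV.eq_zero x fun y => hS.hV.refl _ _ (hx y)
      symm := fun x y h' => hS.hV.refl x y h'
      iso := fun x y => hS.iso hXM x y
      iso' := fun x y => hS.iso hdM x y
      sq := hX.sq hS.hh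
      sq' := hdsq }
  rcases hP.dichotomy (p := p) with hh' | hpg
  · exact hh'
  · exact absurd (hS.pgroup_le hL ((Subgroup.closure_le _).2 (by rintro _ (rfl | rfl); exacts [hXM, hdM])) hpg hz hX
      (Subgroup.subset_closure (by simp)) (Subgroup.subset_closure (by simp))) hdk

/-- The displacements of a quadratic element outside the target lie over a plane through a given vector. -/
theorem SC.plane (hL : Tgt fA h M L) (h4 : 3 ≤ Fintype.card β) {d : GL (α × β) F} (hdM : d ∈ M) (hdk : d ∉ L)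
    (hdsq : ((d : Mn) - 1) * ((d : Mn) - 1) = 0)
    (hrk : finrank F (LinearMap.range (Matrix.toLin' (d : Mn) - LinearMap.id)) ≤ Fintype.card α)
    {z : β → F} (hz : z ≠ 0) :
    ∃ up : β → F, h up z = 1 ∧ ∀ t, ∃ p q : α → F, (d : Mn) *ᵥ t - t = tmul p z + tmul q up := by
  classical
  have hh := hS.hh
  obtain ⟨u, hu, -⟩ := hh.partner hz
  obtain ⟨X, hXM, hX, -⟩ := hS.exists_root z (1 : F)
  obtain ⟨ζ, hζc, hζ1, hζ2, hζX, hζd⟩ := hS.exists_invol hL hz hX hdM hdk hdsq
  have hζM : ζ ∈ M := (Subgroup.closure_le _).2 (by rintro _ (rfl | rfl); exacts [hXM, hdM]) hζc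
  obtain ⟨y, T, hap, hyy, hTT, hTz, hTu, hsl, -⟩ := hS.invol_form hu hX hζM hζ2 hζX
  obtain ⟨-, -, hE1, hE2, hE3⟩ := hS.Em_dim hz hX hdsq hζd
    (fun t h1 h2 => fix_closure (by rintro w (rfl | rfl); exacts [h1, h2]) hζc) hsl
  obtain ⟨up, hup⟩ : ∃ up, up = (2 : F)⁻¹ • (u + T u) := ⟨_, rfl⟩
  have hupT : T up = up := by rw [hup, map_smul, map_add, hTT, add_comm u]
  have hupz : h up z = 1 := by
    rw [hup, hh.smul_left, hh.add_left, hu, hTu, one_add_one_eq_two, inv_mul_cancel₀ hS.h2]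
  have hzup : h z up = -1 := by rw [hh.skew, hupz]
  let Am : Submodule F (α → F) := LinearMap.ker (y + LinearMap.id)
  have hAm : ∀ x, x ∈ Am ↔ y x = -x := fun x => by
    simp only [Am, LinearMap.mem_ker, LinearMap.add_apply, LinearMap.id_apply, add_eq_zero_iff_eq_neg]
  let J : (Am × Am) →ₗ[F] Em ζ := ((fac z).comp Am.subtype).coprod ((fac up).comp Am.subtype) |>.codRestrict (Em ζ)
    fun p => mem_Em.2 (by
      show (ζ : Mn) *ᵥ (tmul p.1.1 z + tmul p.2.1 up) = -(tmul p.1.1 z + tmul p.2.1 up)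
      rw [Matrix.mulVec_add, hap, hap, hTz, hupT, (hAm _).1 p.1.2, (hAm _).1 p.2.2, tmul_neg_left', tmul_neg_left',
        neg_add])
  have hJi : Function.Injective J := by
    rw [injective_iff_map_eq_zero]
    rintro ⟨x, x'⟩ h'
    have h'' : tmul x.1 z + tmul x'.1 up = 0 := congrArg Subtype.val h'
    have e1 := congrArg (sl h z) h''
    simp only [map_add, sl_tmul' hh, hh.self, hupz, zero_smul, one_smul, zero_add, map_zero] at e1
    have e2 := congrArg (sl h up) h''
    simp only [map_add, sl_tmul' hh, hzup, hh.self, zero_smul, add_zero, map_zero, neg_one_smul, neg_eq_zero] at e2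
    exact Prod.ext (Subtype.ext e2) (Subtype.ext e1)
  have hdim : finrank F (Em ζ) = 2 * finrank F Am := by
    have h1 := LinearMap.finrank_le_finrank_of_injective hJi
    rw [Module.finrank_prod] at h1
    have h2 := Submodule.finrank_mono hE2
    have h3 : finrank F Am = finrank F (LinearMap.ker (y + LinearMap.id)) := rfl
    omega
  have hJs : LinearMap.range J = ⊤ := Submodule.eq_top_of_finrank_eq (by
    rw [LinearMap.finrank_range_of_inj hJi, Module.finrank_prod, hdim, two_mul])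
  have hspan : ∀ x w, x ≠ 0 → tmul x w ∈ Em ζ → w ∈ Submodule.span F ({z, up} : Set (β → F)) := by
    intro x w hx h'
    obtain ⟨p, hp⟩ := LinearMap.range_eq_top.1 hJs ⟨tmul x w, h'⟩
    have hp' : tmul p.1.1 z + tmul p.2.1 up = tmul x w := congrArg Subtype.val hp
    obtain ⟨η, hη⟩ := exists_dual hx
    have := congrArg (lslice η) hp'
    rw [map_add, lslice_tmul, lslice_tmul, lslice_tmul, hη, one_smul] at this
    exact Submodule.mem_span_pair.2 ⟨_, _, this⟩
  obtain ⟨xm, hxm, hxm0⟩ : ∃ x ∈ Am, x ≠ 0 := by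
    by_contra hc
    push Not at hc
    have hbot : Am = ⊥ := (Submodule.eq_bot_iff _).2 hc
    rw [hbot, finrank_bot, mul_zero, Submodule.finrank_eq_zero] at hdim
    refine hζ1 (Units.ext (Matrix.ext_iff_mulVec.2 fun x => ?_))
    have hmem : (ζ : Mn) *ᵥ x - x ∈ Em ζ := mem_Em.2 (by
      rw [Matrix.mulVec_sub, Matrix.mulVec_mulVec, ← Units.val_mul, hζ2, Units.val_one, Matrix.one_mulVec, neg_sub])
    rw [hdim, Submodule.mem_bot, sub_eq_zero] at hmem
    rw [hmem, Units.val_one, Matrix.one_mulVec]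
  obtain ⟨w₀, hw₀⟩ : ∃ w₀, w₀ ∉ Submodule.span F ({z, up} : Set (β → F)) := by
    by_contra hc
    push Not at hc
    have h3 := Submodule.finrank_mono (show (⊤ : Submodule F (β → F)) ≤ Submodule.span F {z, up} from
      fun w _ => hc w)
    have h5 := finrank_range_le_card (R := F) ![z, up]
    rw [Set.finrank, Matrix.range_cons_cons_empty, Fintype.card_fin] at h5
    rw [finrank_top, Module.finrank_fintype_fun_eq_card] at h3
    omega
  obtain ⟨wn, hwn⟩ : ∃ wn, wn = w₀ - T w₀ := ⟨_, rfl⟩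
  have hTwn : T wn = -wn := by rw [hwn, map_sub, hTT, neg_sub]
  have hwn0 : wn ≠ 0 := by
    intro e0
    have hfix : T w₀ = w₀ := (sub_eq_zero.1 (hwn ▸ e0)).symm
    exact hw₀ (hspan xm w₀ hxm0 (mem_Em.2 (by rw [hap, hfix, (hAm _).1 hxm, tmul_neg_left'])))
  have hAall : ∀ x, y x = -x := fun x => by
    by_contra hx
    have hx0 : x + y x ≠ 0 := fun e0 => hx (eq_neg_of_add_eq_zero_right e0)
    obtain ⟨a, b, hab⟩ := Submodule.mem_span_pair.1 (hspan (x + y x) wn hx0 (mem_Em.2 (by
      rw [hap, map_add, hyy, hTwn, add_comm (y x), tmul_neg_right'])))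
    have h1 := congrArg T hab
    rw [map_add, map_smul, map_smul, hTz, hupT, hab, hTwn] at h1
    have h2' : (2 : F) • wn = 0 := by rw [two_smul]; nth_rw 1 [h1]; exact neg_add_cancel wn
    exact hwn0 ((smul_eq_zero.1 h2').resolve_left hS.h2)
  have hAt : finrank F Am = Fintype.card α := by
    rw [show Am = ⊤ from Submodule.eq_top_iff'.2 fun x => (hAm x).2 (hAall x), finrank_top,
      Module.finrank_fintype_fun_eq_card]
  have hsub : (Em ζ).map (Matrix.toLin' (d : Mn) - LinearMap.id) ≤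
      LinearMap.range (Matrix.toLin' (d : Mn) - LinearMap.id) := LinearMap.map_le_range
  have heq : (Em ζ).map (Matrix.toLin' (d : Mn) - LinearMap.id) =
      LinearMap.range (Matrix.toLin' (d : Mn) - LinearMap.id) :=
    Submodule.eq_of_le_of_finrank_le hsub (hrk.trans (by
      have h3 : finrank F Am = finrank F (LinearMap.ker (y + LinearMap.id)) := rfl
      omega))
  refine ⟨up, hupz, fun t => ?_⟩
  have hm : (d : Mn) *ᵥ t - t ∈ (Em ζ).map (Matrix.toLin' (d : Mn) - LinearMap.id) := by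
    rw [heq]; exact ⟨t, rfl⟩
  obtain ⟨p, hp⟩ := LinearMap.range_eq_top.1 hJs ⟨_, (hE2 hm).1⟩
  exact ⟨p.1.1, p.2.1, (congrArg Subtype.val hp).symm⟩

/-- Odd characteristic, factors of dimension at least four: inside the target. -/
theorem SC.all_mem_big (hL : Tgt fA h M L) (h4 : 3 ≤ Fintype.card β) {g : GL (α × β) F} (hg : g ∈ M) : g ∈ L := by
  classical
  by_contra hgk
  have hh := hS.hh
  obtain ⟨z, hz0⟩ := hS.toPr.exists_ne
  obtain ⟨u, hu, -⟩ := hh.partner hz0
  obtain ⟨X, hXM, hX, -⟩ := hS.exists_root z (1 : F)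
  obtain ⟨d, hd⟩ : ∃ d, d = g * X * g⁻¹ := ⟨_, rfl⟩
  have hdM : d ∈ M := hd ▸ mul_mem (mul_mem hg hXM) (inv_mem hg)
  have hdk : d ∉ L := fun h' => hgk (hL.conj hg hz0 hX (hd ▸ h'))
  have hdt : ∀ t, (d : Mn) *ᵥ t - t =
      (g : Mn) *ᵥ tmul (sl h z (((g⁻¹ : GL (α × β) F) : Mn) *ᵥ t)) z := fun t => by
    rw [hd, Units.val_mul, Units.val_mul, ← Matrix.mulVec_mulVec, ← Matrix.mulVec_mulVec, hX, Matrix.mulVec_add,
      mulVec_inv_cancel, add_sub_cancel_left, one_smul]
  have hdsq : ((d : Mn) - 1) * ((d : Mn) - 1) = 0 := Matrix.ext_iff_mulVec.2 fun t => by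
    simp only [← Matrix.mulVec_mulVec, Matrix.sub_mulVec, Matrix.one_mulVec, Matrix.zero_mulVec]
    rw [hdt ((d : Mn) *ᵥ t - t), hdt t, inv_mulVec_cancel, sl_tmul' hh, hh.self, zero_smul, tmul_zero_left,
      Matrix.mulVec_zero]
  have hrk : finrank F (LinearMap.range (Matrix.toLin' (d : Mn) - LinearMap.id)) ≤ Fintype.card α := by
    refine (Submodule.finrank_mono (t := LinearMap.range ((Matrix.toLin' (g : Mn)).comp (fac z))) ?_).trans
      ((LinearMap.finrank_range_le _).trans (Module.finrank_fintype_fun_eq_card F).le)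
    rintro _ ⟨t, rfl⟩
    exact ⟨sl h z (((g⁻¹ : GL (α × β) F) : Mn) *ᵥ t), (hdt t).symm⟩
  obtain ⟨up, -, h1⟩ := hS.plane hL h4 hdM hdk hdsq hrk hz0
  obtain ⟨z', hz'P⟩ : ∃ z', z' ∉ Submodule.span F ({z, up} : Set (β → F)) := by
    by_contra hc
    push Not at hc
    have h3 := Submodule.finrank_mono (show (⊤ : Submodule F (β → F)) ≤ Submodule.span F {z, up} from
      fun w _ => hc w)
    have h5 := finrank_range_le_card (R := F) ![z, up]
    rw [Set.finrank, Matrix.range_cons_cons_empty, Fintype.card_fin] at h5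
    rw [finrank_top, Module.finrank_fintype_fun_eq_card] at h3
    omega
  have hz'0 : z' ≠ 0 := fun e0 => hz'P (by rw [e0]; exact Submodule.zero_mem _)
  obtain ⟨up', -, h1'⟩ := hS.plane hL h4 hdM hdk hdsq hrk hz'0
  obtain ⟨φ, hφ, hφ0⟩ := exists_dot_one hz'P
  refine hgk (hL.kron g hg (hS.line_kron hg hz0 (v := up' - (φ ⬝ᵥ up') • z') fun x => ?_))
  obtain ⟨t, ht⟩ : ∃ t, (d : Mn) *ᵥ t - t = (g : Mn) *ᵥ tmul x z := ⟨(g : Mn) *ᵥ tmul x u, by
    rw [hdt, inv_mulVec_cancel, sl_tmul' hh, hu, one_smul]⟩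
  obtain ⟨p, q, hpq⟩ := h1 t
  obtain ⟨p', q', hpq'⟩ := h1' t
  refine ⟨q', ?_⟩
  have e0 := congrArg (slice φ) (hpq.symm.trans hpq')
  rw [map_add, map_add, slice_tmul, slice_tmul, slice_tmul, slice_tmul, hφ0 z (Submodule.subset_span (by simp)),
    hφ0 up (Submodule.subset_span (by simp)), hφ, zero_smul, zero_smul, add_zero, one_smul, eq_comm] at e0
  rw [← ht, hpq', eq_neg_of_add_eq_zero_left e0, tmul_sub_right, tmul_smul_right, tmul_neg_left', tmul_smul_left]
  abel

end Cfsg.Agent.Classical.TensorSymp
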