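import Cfsg.Agent.Lib.Classical.TensorPowSymp.Pair
import Cfsg.Agent.Lib.Fus.RingSLGen

/-!
Two by two matrices over a commutative algebra acting on two copies of a subspace tensored with a plane: elements
realising them, and the upper triangular ones among elements of the target.
-/

set_option autoImplicit false
set_option linter.unusedSectionVars false
set_option linter.unusedSimpArgs false
set_option linter.style.haveILetI false

namespace Cfsg.Agent.Classical.TensorSymp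

open Matrix Module MaxTv TensorMax Overfield
open Cfsg.Agent.Classical.TensorPow (k2 k2_val k2_mulVec k2_mul k2_one)
open Cfsg.Agent.Fus

variable {F : Type*} [Field F] [Fintype F] {α β : Type} [Fintype α] [DecidableEq α] [Fintype β] [DecidableEq β]

local notation "V" => (α × β → F)
local notation "Mn" => Matrix (α × β) (α × β) F
local notation "Ma" => Matrix α α F
local notation "Mb" => Matrix β β F

variable {W : Submodule F (α → F)}

/-- The two coordinates over a subspace. -/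
def pJ (z u : β → F) (S : W →ₗ[F] W) : (W × W) →ₗ[F] (α × β → F) :=
  ((fac z).comp W.subtype).comp (LinearMap.fst F W W + S.comp (LinearMap.snd F W W)) +
    ((fac u).comp W.subtype).comp (LinearMap.snd F W W)

theorem pJ_apply (z u : β → F) (S : W →ₗ[F] W) (b c : W) :
    pJ z u S (b, c) = tmul ((b + S c : W) : α → F) z + tmul (c : α → F) u := rfl

section

variable {R : Type*} [CommRing R] [Algebra F R] (ρ : R →ₐ[F] Module.End F W)

/-- The action of a matrix. -/
def act (m : Matrix.SpecialLinearGroup (Fin 2) R) (v : W × W) : W × W :=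
  (ρ (m.1 0 0) v.1 + ρ (m.1 0 1) v.2, ρ (m.1 1 0) v.1 + ρ (m.1 1 1) v.2)

theorem act_mul (m m' : Matrix.SpecialLinearGroup (Fin 2) R) (v : W × W) : act ρ (m * m') v = act ρ m (act ρ m' v) := by
  simp only [act, Matrix.SpecialLinearGroup.coe_mul, Matrix.mul_apply, Fin.sum_univ_two, map_add, map_mul,
    Module.End.mul_apply, LinearMap.add_apply]
  refine Prod.ext ?_ ?_ <;> abel

theorem act_one (v : W × W) : act ρ (1 : Matrix.SpecialLinearGroup (Fin 2) R) v = v := by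
  simp [act, Matrix.SpecialLinearGroup.coe_one]

theorem act_up (r : R) (b c : W) : act ρ (RingSL.up r) (b, c) = (b + ρ r c, c) := by
  simp [act, RingSL.coe_up]

theorem act_low (r : R) (b c : W) : act ρ (RingSL.low r) (b, c) = (b, ρ r b + c) := by
  simp [act, RingSL.coe_low]

/-- An element realising a matrix. -/
def Rep (z u : β → F) (S : W →ₗ[F] W) (g : GL (α × β) F) (m : Matrix.SpecialLinearGroup (Fin 2) R) : Prop :=
  ∀ v : W × W, (g : Matrix (α × β) (α × β) F) *ᵥ pJ z u S v = pJ z u S (act ρ m v)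

variable {ρ} {z u : β → F} {S : W →ₗ[F] W}

theorem Rep.one : Rep ρ z u S (1 : GL (α × β) F) (1 : Matrix.SpecialLinearGroup (Fin 2) R) := fun v => by
  rw [act_one, Units.val_one, Matrix.one_mulVec]

theorem Rep.mul {g g' : GL (α × β) F} {m m' : Matrix.SpecialLinearGroup (Fin 2) R} (hg : Rep ρ z u S g m)
    (hg' : Rep ρ z u S g' m') : Rep ρ z u S (g * g') (m * m') := fun v => by
  rw [Units.val_mul, ← Matrix.mulVec_mulVec, hg', hg, act_mul]

theorem Rep.inv {g : GL (α × β) F} {m : Matrix.SpecialLinearGroup (Fin 2) R} (hg : Rep ρ z u S g m) :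
    Rep ρ z u S g⁻¹ m⁻¹ := fun v => gl_mulVec_injective g (by
  show (g : Mn) *ᵥ _ = (g : Mn) *ᵥ _
  rw [mulVec_inv_cancel, hg, ← act_mul, mul_inv_cancel, act_one])

theorem Rep.conj {g g' : GL (α × β) F} {m m' : Matrix.SpecialLinearGroup (Fin 2) R} (hg : Rep ρ z u S g m)
    (hg' : Rep ρ z u S g' m') : Rep ρ z u S (g * g' * g⁻¹) (m * m' * m⁻¹) := (hg.mul hg').mul hg.inv

theorem Rep.pow {g : GL (α × β) F} {m : Matrix.SpecialLinearGroup (Fin 2) R} (hg : Rep ρ z u S g m) (n : ℕ) :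
    Rep ρ z u S (g ^ n) (m ^ n) := by
  induction n with
  | zero => rw [pow_zero, pow_zero]; exact Rep.one
  | succ n ih => rw [pow_succ, pow_succ]; exact ih.mul hg

variable (ρ z u S) in
/-- The matrices realised in a group. -/
def repSub (G : Subgroup (GL (α × β) F)) : Subgroup (Matrix.SpecialLinearGroup (Fin 2) R) where
  carrier := {m | ∃ g ∈ G, Rep ρ z u S g m}
  mul_mem' := by rintro m m' ⟨g, hg, e⟩ ⟨g', hg', e'⟩; exact ⟨g * g', mul_mem hg hg', e.mul e'⟩
  one_mem' := ⟨1, one_mem _, Rep.one⟩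
  inv_mem' := by rintro m ⟨g, hg, e⟩; exact ⟨g⁻¹, inv_mem hg, e.inv⟩

variable (ρ z u S) in
/-- The elements realising upper unitriangular matrices. -/
def upRep (G : Subgroup (GL (α × β) F)) : Subgroup (GL (α × β) F) where
  carrier := {g | g ∈ G ∧ ∃ r : R, Rep ρ z u S g (RingSL.up r)}
  mul_mem' := by
    rintro g g' ⟨hg, r, e⟩ ⟨hg', r', e'⟩
    exact ⟨mul_mem hg hg', r + r', RingSL.up_mul r r' ▸ e.mul e'⟩
  one_mem' := ⟨one_mem _, 0, by rw [RingSL.up_zero]; exact Rep.one⟩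
  inv_mem' := by
    rintro g ⟨hg, r, e⟩
    exact ⟨inv_mem hg, -r, RingSL.up_inv r ▸ e.inv⟩

theorem up_pow' (r : R) (n : ℕ) : (RingSL.up r : Matrix.SpecialLinearGroup (Fin 2) R) ^ n = RingSL.up ((n : R) * r) := by
  induction n with
  | zero => rw [pow_zero, Nat.cast_zero, zero_mul, RingSL.up_zero]
  | succ n ih => rw [pow_succ, ih, RingSL.up_mul, Nat.cast_succ, add_mul, one_mul]

end

variable {e : F} {fA : (α → F) → (α → F) → F} {h : (β → F) → (β → F) → F}
  {f : (α × β → F) → (α × β → F) → F} {M L : Subgroup (GL (α × β) F)}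

/-- The root elements at a vector, as a group. -/
def Xsub (hh : Symp h) (z : β → F) : Subgroup (GL (α × β) F) where
  carrier := {Y | ∃ a : F, IsRoot h Y z a}
  mul_mem' := by
    rintro Y Y' ⟨a, hY⟩ ⟨a', hY'⟩
    refine ⟨a + a', fun t => ?_⟩
    rw [Units.val_mul, ← Matrix.mulVec_mulVec, hY', Matrix.mulVec_add, Matrix.mulVec_smul, hY.fix_z hh, hY, add_smul,
      add_assoc]
  one_mem' := ⟨0, fun t => by simp⟩
  inv_mem' := by
    rintro Y ⟨a, hY⟩
    refine ⟨-a, fun t => gl_mulVec_injective Y ?_⟩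
    show (Y : Mn) *ᵥ _ = (Y : Mn) *ᵥ _
    rw [mulVec_inv_cancel, Matrix.mulVec_add, Matrix.mulVec_smul, hY.fix_z hh, hY, add_assoc, ← add_smul,
      add_neg_cancel, zero_smul, add_zero]

theorem mem_Xsub {hh : Symp h} {z : β → F} {Y : GL (α × β) F} : Y ∈ Xsub (α := α) hh z ↔ ∃ a : F, IsRoot h Y z a :=
  Iff.rfl

theorem IsRoot.pow (hh : Symp h) {X : GL (α × β) F} {z : β → F} {a : F} (hX : IsRoot h X z a) (n : ℕ) :
    IsRoot h (X ^ n) z ((n : F) * a) := by
  induction n with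
  | zero => intro t; simp
  | succ n ih =>
    intro t
    rw [pow_succ, Units.val_mul, ← Matrix.mulVec_mulVec, hX, Matrix.mulVec_add, Matrix.mulVec_smul, ih.fix_z hh, ih,
      Nat.cast_succ, add_mul, one_mul, add_smul, add_assoc]

theorem isPGroup_Xsub (hh : Symp h) (z : β → F) (p : ℕ) [Fact p.Prime] [CharP F p] :
    IsPGroup p (Xsub (α := α) hh z) := fun ⟨Y, hY⟩ => by
  obtain ⟨a, ha⟩ := mem_Xsub.1 hY
  refine ⟨1, Subtype.ext (Units.ext (Matrix.ext_iff_mulVec.2 fun t => ?_))⟩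
  rw [pow_one]
  show ((Y ^ p : GL (α × β) F) : Mn) *ᵥ t = ((1 : GL (α × β) F) : Mn) *ᵥ t
  rw [ha.pow hh p, CharP.cast_eq_zero, zero_mul, zero_smul, add_zero, Units.val_one, Matrix.one_mulVec]

variable (hS : SC e fA h f M) (hL : Tgt fA h M L)
include hS hL

/-- Elements of prime power order are conjugate into the target inside a group containing the root elements. -/
theorem SC.conj_to_L {p : ℕ} [Fact p.Prime] [CharP F p] {H : Subgroup (GL (α × β) F)} (hH : H ≤ M) {z : β → F}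
    (hz : z ≠ 0) (hXH : Xsub hS.hh z ≤ H) {x : GL (α × β) F} (hx : x ∈ H) {k : ℕ} (hxk : x ^ p ^ k = 1) :
    ∃ y ∈ H, y * x * y⁻¹ ∈ L := by
  classical
  haveI : Finite (GL (α × β) F) := inferInstance
  obtain ⟨Q₀, hQ₀⟩ := ((isPGroup_Xsub hS.hh z p).comap_subtype (K := H)).exists_le_sylow
  have hx' : IsPGroup p (Subgroup.zpowers (⟨x, hx⟩ : H)) := by
    rintro ⟨y, n, rfl⟩
    refine ⟨k, Subtype.ext (Subtype.ext ?_)⟩
    show ((⟨x, hx⟩ : H) ^ n : H).1 ^ p ^ k = 1
    rw [SubgroupClass.coe_zpow, ← zpow_natCast, ← _root_.zpow_mul, mul_comm, _root_.zpow_mul, zpow_natCast, hxk, _root_.one_zpow]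
  obtain ⟨Q₁, hQ₁⟩ := hx'.exists_le_sylow
  obtain ⟨y, hy⟩ := MulAction.exists_smul_eq H Q₁ Q₀
  refine ⟨y.1, y.2, ?_⟩
  have hmem : y * ⟨x, hx⟩ * y⁻¹ ∈ (Q₀ : Subgroup H) := by
    rw [← hy, Sylow.coe_subgroup_smul]
    exact Subgroup.smul_mem_pointwise_smul (⟨x, hx⟩ : H) (MulAut.conj y) _ (hQ₁ (Subgroup.mem_zpowers _))
  obtain ⟨X, hXM, hX, -⟩ := hS.exists_root z (1 : F)
  have hQL : (Q₀ : Subgroup H).map H.subtype ≤ L := by
    refine hS.pgroup_le hL ?_ (Q₀.2.map _) hz hX ⟨⟨X, hXH ⟨1, hX⟩⟩, hQ₀ (show X ∈ Xsub hS.hh z from ⟨1, hX⟩), rfl⟩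
    rintro _ ⟨q, -, rfl⟩
    exact hH q.2
  exact hQL ⟨_, hmem, rfl⟩

variable {R : Type*} [CommRing R] [Algebra F R] {ρ : R →ₐ[F] Module.End F W}

/-- Upper triangular matrices realised in the target. -/
theorem SC.upper_L {z u : β → F} (hu : h u z = 1) (hk : Fintype.card β = 2)
    (hW : ∀ x : W, (∀ x' : W, fA x x' = 0) → x = 0) (hW0 : W ≠ ⊥) {S : W →ₗ[F] W} {q : GL (α × β) F} (hq : q ∈ L)
    {m : Matrix.SpecialLinearGroup (Fin 2) R} (hm : Rep ρ z u S q m) (h10 : m.1 1 0 = 0) :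
    ∃ κ₁ κ₂ : F, ∀ c : W, ρ (m.1 1 1) c = κ₁ • ρ (m.1 0 0) c ∧
      ρ (m.1 0 0) (S c) + κ₂ • ρ (m.1 0 0) c = ρ (m.1 0 1) c + S (ρ (m.1 1 1) c) := by
  classical
  have hh := hS.hh
  have hz0 : z ≠ 0 := fun e0 => one_ne_zero (α := F) (by rw [← hu, e0, hh.toSesq.zero_right])
  have hdet : m.1 0 0 * m.1 1 1 = 1 := by
    have := RingSL.det_eq m
    rw [h10, mul_zero, sub_zero] at this
    exact this
  have hinv : ∀ x : W, ρ (m.1 0 0) (ρ (m.1 1 1) x) = x := fun x => by
    rw [← Module.End.mul_apply, ← map_mul, hdet, map_one, Module.End.one_apply]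
  have hz : ∀ b : W, (q : Mn) *ᵥ tmul (b : α → F) z = tmul ((ρ (m.1 0 0) b : W) : α → F) z := fun b => by
    have h1 := hm (b, 0)
    simpa [act, h10, pJ_apply, tmul_zero_left] using h1
  rcases hL.line q hq z hz0 with ⟨A, B₀, hAB⟩ | ⟨Y, hYi, hY⟩
  swap
  · exfalso
    refine hW0 ((Submodule.eq_bot_iff _).2 fun x hx => ?_)
    refine congrArg Subtype.val (hW ⟨x, hx⟩ fun x' => ?_)
    have hmem : ∀ w : W, (w : α → F) ∈ Y := fun w => hY _ _ ((hz (ρ (m.1 1 1) w)).trans (by rw [hinv]))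
    exact hYi _ (hmem ⟨x, hx⟩) _ (hmem x')
  obtain ⟨b₀, hb₀⟩ : ∃ b : W, b ≠ 0 := by
    by_contra hc
    push Not at hc
    exact hW0 ((Submodule.eq_bot_iff _).2 fun x hx => congrArg Subtype.val (hc ⟨x, hx⟩))
  have hb₀' : (b₀ : α → F) ≠ 0 := fun e0 => hb₀ (Subtype.ext e0)
  obtain ⟨ξ, hξ⟩ := exists_dual (TensorPow.gl_mulVec_ne_zero A hb₀')
  obtain ⟨θ, hθ⟩ : ∃ θ, (B₀ : Mb) *ᵥ z = θ • z := by
    have h1 := congrArg (lslice ξ) (hz b₀)
    rw [hAB, k2_mulVec, lslice_tmul, lslice_tmul, hξ, one_smul] at h1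
    exact ⟨_, h1⟩
  have hθ0 : θ ≠ 0 := fun e0 => TensorPow.gl_mulVec_ne_zero B₀ hz0 (by rw [hθ, e0, zero_smul])
  have hAθ : ∀ b : W, θ • ((A : Ma) *ᵥ (b : α → F)) = ((ρ (m.1 0 0) b : W) : α → F) := fun b => fac_injective hz0 (by
    show tmul _ z = tmul _ z
    rw [← hz, hAB, k2_mulVec, hθ, tmul_smul_left, tmul_smul_right])
  have hA : ∀ b : W, (A : Ma) *ᵥ (b : α → F) = θ⁻¹ • ((ρ (m.1 0 0) b : W) : α → F) := fun b => by
    rw [← hAθ, smul_smul, inv_mul_cancel₀ hθ0, one_smul]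
  obtain ⟨δ, η, hδη⟩ : ∃ δ η : F, (B₀ : Mb) *ᵥ u = δ • u + η • z := by
    refine ⟨h ((B₀ : Mb) *ᵥ u) z, -h ((B₀ : Mb) *ᵥ u) u, ?_⟩
    generalize (B₀ : Mb) *ᵥ u = w
    by_contra hne
    have hzu : h z u = -1 := by rw [hh.skew u z, hu]
    have e1 : h (w - h w z • u + h w u • z) z = 0 := by
      rw [hh.add_left, hh.toSesq.sub_left, hh.smul_left, hh.smul_left, hu, hh.self]; ring
    have e2 : h (w - h w z • u + h w u • z) u = 0 := by
      rw [hh.add_left, hh.toSesq.sub_left, hh.smul_left, hh.smul_left, hzu, hh.self]; ring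
    have hw0 : w - h w z • u + h w u • z ≠ 0 := fun e0 => hne (by
      rw [← sub_eq_zero, neg_smul, ← e0]; abel)
    have := three_le_of_pair hh hw0 (fun r er => one_ne_zero (α := F) (by
      rw [← hu, er, hh.toSesq.smul_right, hh.toSesq.refl _ _ e2]; simp)) e1
    omega
  refine ⟨δ * θ⁻¹, η * θ⁻¹, fun c => ?_⟩
  have h1 := hm (0, c)
  simp only [act, pJ_apply, h10, map_zero, zero_add, LinearMap.zero_apply] at h1
  rw [Matrix.mulVec_add, hz, hAB, k2_mulVec, hδη, tmul_add_right, tmul_smul_right, tmul_smul_right, hA] at h1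
  have e1 := congrArg (sl h z) h1
  have e2 := congrArg (sl h u) h1
  simp only [map_add, map_smul, sl_tmul' hh, hu, hh.self, hh.skew u z, zero_smul, one_smul, smul_zero, add_zero,
    zero_add, smul_smul, neg_smul, smul_neg, neg_inj] at e1 e2
  refine ⟨Subtype.ext ?_, Subtype.ext ?_⟩
  · simp only [Submodule.coe_smul]
    linear_combination (norm := module) -e1
  · simp only [Submodule.coe_add, Submodule.coe_smul] at e2 ⊢
    linear_combination (norm := module) -e2

end Cfsg.Agent.Classical.TensorSymp
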