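import Cfsg.Agent.Lib.Classical.TensorPowSymp.PairBig
import Cfsg.Agent.Lib.Classical.TensorPowSymp.PlaneRep
import Cfsg.Agent.Lib.Classical.SLNormal
import Cfsg.Agent.Lib.Fus.SLTwoAdjoinBasic

/-!
Odd characteristic, factors of dimension two over at least four elements: a proper overgroup lies in the target.
-/

set_option autoImplicit false
set_option linter.unusedSectionVars false
set_option linter.unusedSimpArgs false
set_option linter.style.haveILetI false

namespace Cfsg.Agent.Classical.TensorSymp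

open Matrix Module MaxTv TensorMax Overfield
open Cfsg.Agent.Classical.TensorPow (k2 k2_val k2_mulVec k2_mul k2_one)
open Cfsg.Agent.Fus

variable {F : Type*} [Field F] [Fintype F] {α β : Type} [Fintype α] [DecidableEq α] [Fintype β] [DecidableEq β]

local notation "V" => (α × β → F)
local notation "Mn" => Matrix (α × β) (α × β) F
local notation "Ma" => Matrix α α F
local notation "Mb" => Matrix β β F
local notation "Ea" => ((α → F) →ₗ[F] (α → F))
local notation "SLF" => Matrix.SpecialLinearGroup (Fin 2) F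

variable {e : F} {fA : (α → F) → (α → F) → F} {h : (β → F) → (β → F) → F}
  {f : (α × β → F) → (α × β → F) → F} {M L : Subgroup (GL (α × β) F)}

/-- Vectors of a symplectic plane in a hyperbolic basis. -/
theorem Symp.dec2 (hh : Symp h) (hk : Fintype.card β = 2) {z u : β → F} (hu : h u z = 1) (w : β → F) :
    w = h w z • u - h w u • z := by
  by_contra hne
  have hzu : h z u = -1 := by rw [hh.skew u z, hu]
  have e1 : h (w - h w z • u + h w u • z) z = 0 := by
    rw [hh.add_left, hh.toSesq.sub_left, hh.smul_left, hh.smul_left, hu, hh.self]; ring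
  have e2 : h (w - h w z • u + h w u • z) u = 0 := by
    rw [hh.add_left, hh.toSesq.sub_left, hh.smul_left, hh.smul_left, hzu, hh.self]; ring
  have hw0 : w - h w z • u + h w u • z ≠ 0 := fun e0 => hne (by rw [← sub_eq_zero, ← e0]; abel)
  have := three_le_of_pair hh hw0 (fun r er => one_ne_zero (α := F) (by
    rw [← hu, er, hh.toSesq.smul_right, hh.toSesq.refl _ _ e2]; simp)) e1
  omega

/-- Tensors in a hyperbolic basis of the plane. -/
theorem tensor_dec2 (hh : Symp h) (hk : Fintype.card β = 2) {z u : β → F} (hu : h u z = 1) (t : V) :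
    t = tmul (-sl h u t) z + tmul (sl h z t) u := by
  refine LinearMap.congr_fun (f := LinearMap.id) (g := (fac z).comp (-sl h u) + (fac u).comp (sl h z))
    (ext_tmul fun x w => ?_) t
  simp only [LinearMap.id_apply, LinearMap.add_apply, LinearMap.comp_apply, LinearMap.neg_apply, fac_apply,
    sl_tmul' hh]
  conv_lhs => rw [hh.dec2 hk hu w, tmul_sub_right, tmul_smul_right, tmul_smul_right]
  rw [← neg_smul, tmul_smul_left, tmul_smul_left]
  module

/-- Elements scaling the displacement of another commute with its centraliser. -/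
theorem comm_of_scaled {X w ζ : GL (α × β) F} {a : F} (hw : ∀ t, (w : Mn) *ᵥ t = t + a • ((X : Mn) *ᵥ t - t))
    (hc : ζ * X = X * ζ) : ζ * w = w * ζ := by
  refine Units.ext (Matrix.ext_iff_mulVec.2 fun t => ?_)
  have h' := congrArg (fun g : GL (α × β) F => (g : Mn) *ᵥ t) hc
  simp only [Units.val_mul, ← Matrix.mulVec_mulVec] at h'
  rw [Units.val_mul, Units.val_mul, ← Matrix.mulVec_mulVec, ← Matrix.mulVec_mulVec, hw, hw, Matrix.mulVec_add,
    Matrix.mulVec_smul, Matrix.mulVec_sub, h']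

/-- The group generated by the root elements at a vector and their conjugates. -/
def gPair (h : (β → F) → (β → F) → F) (g : GL (α × β) F) (z : β → F) : Subgroup (GL (α × β) F) :=
  Subgroup.closure {w | ∃ a : F, IsRoot h w z a ∨ IsRoot h (g⁻¹ * w * g) z a}

/-- An involution central in the group. -/
def IsInv (G : Subgroup (GL (α × β) F)) (ζ : GL (α × β) F) : Prop :=
  ζ ∈ G ∧ ζ ≠ 1 ∧ ζ * ζ = 1 ∧ ∀ w ∈ G, ζ * w = w * ζ

/-- The coordinates of a group of two classes of root elements on the negated space of a central involution. -/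
structure Frm (h : (β → F) → (β → F) → F) (fA : (α → F) → (α → F) → F) (G : Subgroup (GL (α × β) F))
    (X d ζ : GL (α × β) F) (z u : β → F) (y : (α → F) →ₗ[F] (α → F)) (W : Submodule F (α → F)) (S : W →ₗ[F] W)
    (B : Module.End F W) : Prop where
  ne : W ≠ ⊥
  nd : ∀ x : W, (∀ x' : W, fA x x' = 0) → x = 0
  mem : ∀ x, x ∈ W ↔ y x = -x
  inj : Function.Injective (pJ z u S)
  onto : ∀ t, t ∈ Em ζ ↔ ∃ v, pJ z u S v = t
  hX : ∀ (Y : GL (α × β) F) (a : F), IsRoot h Y z a → ∀ b c : W,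
    (Y : Matrix (α × β) (α × β) F) *ᵥ pJ z u S (b, c) = pJ z u S (b + a • c, c)
  hd : ∀ b c : W, (d : Matrix (α × β) (α × β) F) *ᵥ pJ z u S (b, c) = pJ z u S (b, B b + c)
  Binj : Function.Injective B
  sl_inv : ∀ t, sl h z ((ζ : Matrix (α × β) (α × β) F) *ᵥ t) = y (sl h z t)

variable (hS : SC e fA h f M) (hL : Tgt fA h M L)
include hS

/-- The coordinates. -/
theorem SC.frame (hk : Fintype.card β = 2) {G : Subgroup (GL (α × β) F)} (hG : G ≤ M) {X d ζ : GL (α × β) F}
    {z u : β → F} (hu : h u z = 1) (hX : IsRoot h X z (1 : F)) (hXG : X ∈ G) (hdG : d ∈ G)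
    (hdsq : ((d : Mn) - 1) * ((d : Mn) - 1) = 0)
    (hfix : ∀ t, (X : Mn) *ᵥ t = t → (d : Mn) *ᵥ t = t → ∀ w ∈ G, (w : Mn) *ᵥ t = t) (hζ : IsInv G ζ) :
    ∃ (y : Ea) (W : Submodule F (α → F)) (S : W →ₗ[F] W) (B : Module.End F W), Frm h fA G X d ζ z u y W S B := by
  classical
  have hh := hS.hh
  obtain ⟨hζG, hζ1, hζ2, hζc⟩ := hζ
  have hz0 : z ≠ 0 := fun e0 => one_ne_zero (α := F) (by rw [← hu, e0, hh.toSesq.zero_right])
  have hzu : h z u = -1 := by rw [hh.skew u z, hu]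
  obtain ⟨y, T, hap, hyy, hTT, hTz, hTu, hsl, hyiso⟩ := hS.invol_form hu hX (hG hζG) hζ2 (hζc X hXG)
  have hT1 : ∀ w, T w = w := by
    obtain ⟨c, hc⟩ : ∃ c, h (T u) u = c := ⟨_, rfl⟩
    have e1 : T u = u - c • z := by
      conv_lhs => rw [hh.dec2 hk hu (T u)]
      rw [hTu, one_smul, hc]
    have e2 : (2 * c) • z = 0 := by
      have h' := hTT u
      rw [e1, map_sub, map_smul, hTz, e1] at h'
      linear_combination (norm := module) -h'
    have hb : c = 0 := (mul_eq_zero.1 ((smul_eq_zero.1 e2).resolve_right hz0)).resolve_left hS.h2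
    intro w
    conv_lhs => rw [hh.dec2 hk hu w, map_sub, map_smul, map_smul, hTz, e1, hb, zero_smul, sub_zero, ← hh.dec2 hk hu w]
  have hz : ∀ x w, (ζ : Mn) *ᵥ tmul x w = tmul (y x) w := fun x w => by rw [hap, hT1]
  obtain ⟨W, hWdef⟩ : ∃ W : Submodule F (α → F), W = LinearMap.ker (y + LinearMap.id) := ⟨_, rfl⟩
  have hWm : ∀ x, x ∈ W ↔ y x = -x := fun x => by
    simp only [hWdef, LinearMap.mem_ker, LinearMap.add_apply, LinearMap.id_apply, add_eq_zero_iff_eq_neg]
  have hslu : ∀ t, sl h u ((ζ : Mn) *ᵥ t) = y (sl h u t) := fun t => by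
    conv_lhs => rw [tensor_dec2 hh hk hu t, Matrix.mulVec_add, hz, hz]
    simp only [map_add, sl_tmul' hh, hzu, hh.self, zero_smul, add_zero, map_neg, smul_neg, neg_smul, one_smul, neg_neg]
  have hE : ∀ t, t ∈ Em ζ ↔ sl h z t ∈ W ∧ sl h u t ∈ W := fun t => by
    rw [mem_Em, hWm, hWm, ← hsl, ← hslu]
    refine ⟨fun e0 => by rw [e0, map_neg, map_neg]; exact ⟨rfl, rfl⟩, fun ⟨h1, h2⟩ => ?_⟩
    rw [tensor_dec2 hh hk hu ((ζ : Mn) *ᵥ t), h1, h2]
    conv_rhs => rw [tensor_dec2 hh hk hu t]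
    rw [neg_add, ← tmul_neg_left', ← tmul_neg_left']
  obtain ⟨h1, -, hE1, hE2, hE3⟩ := hS.Em_dim hz0 hX hdsq (hζc d hdG) (fun t a b => hfix t a b ζ hζG) hsl
  rw [← hWdef] at hE1 hE3
  set K₀ := Em ζ ⊓ LinearMap.ker (Matrix.toLin' (d : Mn) - LinearMap.id) with hK₀
  have hK : ∀ t ∈ K₀, t ∈ Em ζ ∧ (d : Mn) *ᵥ t = t := fun t ht => ⟨ht.1, by
    have h' := LinearMap.mem_ker.1 ht.2
    rw [LinearMap.sub_apply, Matrix.toLin'_apply, LinearMap.id_apply, sub_eq_zero] at h'
    exact h'⟩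
  let κ : K₀ →ₗ[F] W := ((sl h z).domRestrict K₀).codRestrict W fun t => ((hE _).1 (hK _ t.2).1).1
  have hκi : Function.Injective κ := by
    rw [injective_iff_map_eq_zero]
    exact fun t ht => Subtype.ext (h1 _ (hK _ t.2).1 (congrArg Subtype.val ht) (hK _ t.2).2)
  let J₀ : (W × W) →ₗ[F] Em ζ := (((fac z).comp W.subtype).coprod ((fac u).comp W.subtype)).codRestrict (Em ζ)
    fun p => (hE _).2 ⟨by
      show sl h z (tmul p.1.1 z + tmul p.2.1 u) ∈ W
      rw [map_add, sl_tmul' hh, sl_tmul' hh, hh.self, hu, zero_smul, zero_add, one_smul]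
      exact p.2.2, by
      show sl h u (tmul p.1.1 z + tmul p.2.1 u) ∈ W
      rw [map_add, sl_tmul' hh, sl_tmul' hh, hh.self, hzu, zero_smul, add_zero]
      exact W.smul_mem _ p.1.2⟩
  have hJ₀i : Function.Injective J₀ := by
    rw [injective_iff_map_eq_zero]
    rintro ⟨x, x'⟩ h'
    have h'' : tmul x.1 z + tmul x'.1 u = 0 := congrArg Subtype.val h'
    have e1 := congrArg (sl h z) h''
    have e2 := congrArg (sl h u) h''
    simp only [map_add, sl_tmul' hh, hh.self, hu, hzu, zero_smul, one_smul, zero_add, add_zero, map_zero, neg_one_smul,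
      neg_eq_zero] at e1 e2
    exact Prod.ext (Subtype.ext e2) (Subtype.ext e1)
  have hdim := LinearMap.finrank_le_finrank_of_injective hJ₀i
  rw [Module.finrank_prod] at hdim
  have hd2 := Submodule.finrank_mono hE2
  have hκe : finrank F K₀ = finrank F W := by omega
  let κe : K₀ ≃ₗ[F] W := LinearEquiv.ofBijective κ
    ⟨hκi, (LinearMap.injective_iff_surjective_of_finrank_eq_finrank hκe).1 hκi⟩
  let S : W →ₗ[F] W := ((-(sl h u)).comp ((Submodule.subtype K₀).comp κe.symm.toLinearMap)).codRestrict W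
    fun c => W.neg_mem ((hE _).1 (hK _ (κe.symm c).2).1).2
  have hJ : ∀ b c : W, sl h z (pJ z u S (b, c)) = (c : α → F) ∧ sl h u (pJ z u S (b, c)) = -((b + S c : W) : α → F) :=
    fun b c => ⟨by rw [pJ_apply, map_add, sl_tmul' hh, sl_tmul' hh, hh.self, hu, zero_smul, zero_add, one_smul],
      by rw [pJ_apply, map_add, sl_tmul' hh, sl_tmul' hh, hh.self, hzu, zero_smul, add_zero, neg_one_smul]⟩
  have hJi : Function.Injective (pJ z u S) := by
    rw [injective_iff_map_eq_zero]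
    rintro ⟨b, c⟩ h'
    obtain ⟨e1, e2⟩ := hJ b c
    rw [h', map_zero] at e1 e2
    obtain rfl : c = 0 := Subtype.ext e1.symm
    have e3 : b + S 0 = 0 := Subtype.ext (neg_eq_zero.1 e2.symm)
    rw [map_zero, add_zero] at e3
    rw [e3]
    rfl
  have honto : ∀ t, t ∈ Em ζ ↔ ∃ v, pJ z u S v = t := fun t => by
    refine ⟨fun ht => ?_, ?_⟩
    · obtain ⟨h2, h3⟩ := (hE t).1 ht
      refine ⟨(⟨-sl h u t, W.neg_mem h3⟩ - S ⟨sl h z t, h2⟩, ⟨sl h z t, h2⟩), ?_⟩
      rw [pJ_apply, sub_add_cancel]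
      exact (tensor_dec2 hh hk hu t).symm
    · rintro ⟨⟨b, c⟩, rfl⟩
      obtain ⟨e1, e2⟩ := hJ b c
      rw [hE, e1, e2]
      exact ⟨c.2, W.neg_mem (b + S c).2⟩
  have hJK : ∀ c : W, pJ z u S (0, c) = ((κe.symm c : K₀) : V) := fun c => by
    have e1 : sl h z ((κe.symm c : K₀) : V) = (c : α → F) := congrArg Subtype.val (κe.apply_symm_apply c)
    rw [pJ_apply, zero_add]
    conv_rhs => rw [tensor_dec2 hh hk hu ((κe.symm c : K₀) : V), e1]
    rfl
  have hfd : ∀ c : W, (d : Mn) *ᵥ pJ z u S (0, c) = pJ z u S (0, c) := fun c => by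
    rw [hJK]; exact (hK _ (κe.symm c).2).2
  let D : W →ₗ[F] (α × β → F) :=
    (Matrix.toLin' (d : Mn) - LinearMap.id).comp ((pJ z u S).comp (LinearMap.inl F W W))
  have hD : ∀ b : W, D b = (d : Mn) *ᵥ pJ z u S (b, 0) - pJ z u S (b, 0) := fun b => by
    simp only [D, LinearMap.comp_apply, LinearMap.sub_apply, LinearMap.id_apply, Matrix.toLin'_apply,
      LinearMap.inl_apply]
  have hmem : ∀ b : W, D b ∈ K₀ := fun b => hE2 ⟨_, (honto _).2 ⟨_, rfl⟩, (hD b).symm⟩
  let B : Module.End F W := κe.toLinearMap.comp (D.codRestrict K₀ hmem)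
  have hdb : ∀ b : W, (d : Mn) *ᵥ pJ z u S (b, 0) = pJ z u S (b, B b) := fun b => by
    have e1 : pJ z u S (0, B b) = (d : Mn) *ᵥ pJ z u S (b, 0) - pJ z u S (b, 0) := by
      rw [hJK, ← hD]
      show ((κe.symm (κe ⟨_, hmem b⟩) : K₀) : V) = _
      rw [LinearEquiv.symm_apply_apply]
    rw [show ((b, B b) : W × W) = (b, 0) + (0, B b) by simp, map_add, e1, add_sub_cancel]
  refine ⟨y, W, S, B, fun hbot => ?_, fun x hx => ?_, hWm, hJi, honto, fun Y a hY b c => ?_, fun b c => ?_, ?_, hsl⟩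
  · refine hζ1 (Units.ext (Matrix.ext_iff_mulVec.2 fun t => ?_))
    have hm : (ζ : Mn) *ᵥ t - t ∈ Em ζ := mem_Em.2 (by
      rw [Matrix.mulVec_sub, Matrix.mulVec_mulVec, ← Units.val_mul, hζ2, Units.val_one, Matrix.one_mulVec, neg_sub])
    obtain ⟨v, hv⟩ := (honto _).1 hm
    haveI : Subsingleton W := by rw [hbot]; infer_instance
    rw [Subsingleton.elim v 0, map_zero, eq_comm, sub_eq_zero] at hv
    rw [hv, Units.val_one, Matrix.one_mulVec]
  · refine Subtype.ext (hS.hA.eq_zero _ fun v => hS.hA.refl _ _ ?_)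
    have h2 := hx ⟨v - y v, (hWm _).2 (by rw [map_sub, hyy, neg_sub])⟩
    have h3 : fA (x : α → F) (y v) = -fA (x : α → F) v := by
      rw [← hyiso, hyy, (hWm _).1 x.2, ← neg_one_smul F (x : α → F), hS.hA.smul_left, neg_one_mul]
    simp only [hS.hA.sub_right, h3] at h2
    exact (mul_eq_zero.1 (show (2 : F) * fA (x : α → F) v = 0 by linear_combination h2)).resolve_left hS.h2
  · rw [hY, (hJ b c).1, pJ_apply, pJ_apply, ← tmul_smul_left, add_assoc b, add_comm (a • c), ← add_assoc b]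
    show _ = tmul (((b + S c : W) : α → F) + a • (c : α → F)) z + _
    rw [tmul_add_left]
    abel
  · rw [show ((b, c) : W × W) = (b, 0) + (0, c) by simp, map_add, Matrix.mulVec_add, hfd, hdb, ← map_add]
    simp
  · rw [injective_iff_map_eq_zero]
    intro b hb
    have h2 : pJ z u S (b, 0) = 0 := h1 _ ((honto _).2 ⟨_, rfl⟩) (hJ b 0).1 (by rw [hdb, hb])
    exact congrArg Prod.fst (hJi (h2.trans (map_zero _).symm))

variable {y : (α → F) →ₗ[F] (α → F)} {W : Submodule F (α → F)} {S : W →ₗ[F] W} {B : Module.End F W} {G : Subgroup (GL (α × β) F)}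
  {g X d ζ : GL (α × β) F} {z u : β → F}

include hL

/-- The coefficient is a scalar. -/
theorem SC.frame_scalar (hk : Fintype.card β = 2) (hq : 4 ≤ Fintype.card F) (hu : h u z = 1)
    (hFr : Frm h fA G X d ζ z u y W S B) (hG : G ≤ M) (hXs : Xsub hS.hh z ≤ G)
    (hda : ∀ a : F, ∃ w ∈ G, ∀ t, (w : Mn) *ᵥ t = t + a • ((d : Mn) *ᵥ t - t)) :
    ∃ b : F, b ≠ 0 ∧ ∀ x, B x = b • x := by
  classical
  have hh := hS.hh
  have hz0 : z ≠ 0 := fun e0 => one_ne_zero (α := F) (by rw [← hu, e0, hh.toSesq.zero_right])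
  have hBint : IsIntegral F B := IsIntegral.of_finite F B
  let ρ : AdjoinRoot (minpoly F B) →ₐ[F] Module.End F W :=
    Ideal.Quotient.liftₐ _ (Polynomial.aeval B) fun p hp => by
      obtain ⟨q, rfl⟩ := Ideal.mem_span_singleton.1 hp
      rw [map_mul]; exact mul_eq_zero_of_left (minpoly.aeval F B) _
  have hρi : Function.Injective ρ := by
    rw [injective_iff_map_eq_zero]
    intro x
    induction x using AdjoinRoot.induction_on with
    | _ p =>
      intro hx
      exact AdjoinRoot.mk_eq_zero.2 (minpoly.dvd F B hx)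
  have hρr : ρ (AdjoinRoot.root (minpoly F B)) = B := by
    show Polynomial.aeval B (Polynomial.X : Polynomial F) = B
    rw [Polynomial.aeval_X]
  haveI : Finite (Module.End F W) := Finite.of_injective (fun f : Module.End F W => (f : W → W)) DFunLike.coe_injective
  haveI : Finite (AdjoinRoot (minpoly F B)) := Finite.of_injective ρ hρi
  obtain ⟨r, hr⟩ : IsUnit (AdjoinRoot.root (minpoly F B)) := by
    have hmi : Function.Injective (fun x : AdjoinRoot (minpoly F B) => AdjoinRoot.root (minpoly F B) * x) := by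
      intro x x' e0
      refine hρi (LinearMap.ext fun w => hFr.Binj ?_)
      have := congrArg (fun r => ρ r w) e0
      simpa only [map_mul, hρr, Module.End.mul_apply] using this
    obtain ⟨c, hc⟩ := Finite.injective_iff_surjective.1 hmi 1
    exact ⟨⟨_, c, hc, by rw [mul_comm]; exact hc⟩, rfl⟩
  have hρF : ∀ (a : F) (w : W), ρ (algebraMap F _ a) w = a • w := fun a w => by
    rw [AlgHom.commutes, Module.algebraMap_end_apply]
  have hle : RingSL.adjR F r ≤ repSub ρ z u S G := by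
    rw [RingSL.adjR, Subgroup.closure_le]
    rintro m (⟨a, rfl⟩ | ⟨a, rfl⟩)
    · obtain ⟨Y, -, hY, -⟩ := hS.exists_root z a
      refine ⟨Y, hXs ⟨a, hY⟩, fun ⟨v, w⟩ => ?_⟩
      rw [act_up, hρF, hFr.hX Y a hY]
    · obtain ⟨Y, hYG, hY⟩ := hda a
      refine ⟨Y, hYG, fun ⟨v, w⟩ => ?_⟩
      rw [act_low, map_mul, hr, hρr, Module.End.mul_apply, hρF, hY, hFr.hd, ← map_sub, ← map_smul, ← map_add]
      congr 1
      ext <;> simp [add_comm]
  have hk3 : Nat.card F ≠ 3 := by rw [Nat.card_eq_fintype_card]; omega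
  have hk2 : ringChar F ≠ 2 := fun e0 => by
    haveI : CharP F 2 := ringChar.of_eq e0
    exact hS.h2 (by exact_mod_cast CharP.cast_eq_zero F 2)
  haveI : FiniteDimensional F (AdjoinRoot (minpoly F B)) := Module.Finite.of_finite
  obtain ⟨g₀, hg₀, hg₀r⟩ := hle (RingSL.mem_adjR hk2 hk3 _ _ rfl r
    (by rw [hr]; exact AdjoinRoot.adjoinRoot_eq_top) (r : AdjoinRoot (minpoly F B))).1
  obtain ⟨p, hp⟩ := CharP.exists F
  haveI := hp
  haveI : Fact p.Prime := ⟨CharP.char_is_prime F p⟩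
  have hp0 : ((p : ℕ) : AdjoinRoot (minpoly F B)) = 0 := by
    rw [← map_natCast (algebraMap F (AdjoinRoot (minpoly F B))), CharP.cast_eq_zero, map_zero]
  obtain ⟨k, m, hm, hord⟩ : ∃ k m, ¬ p ∣ m ∧ orderOf g₀ = p ^ k * m := by
    have h0 : orderOf g₀ ≠ 0 := (orderOf_pos g₀).ne'
    exact ⟨_, _, Nat.not_dvd_ordCompl (Fact.out : p.Prime) h0, (Nat.ordProj_mul_ordCompl_eq_self _ p).symm⟩
  obtain ⟨j, hj⟩ : ∃ j : ℕ, ((m * j : ℕ) : AdjoinRoot (minpoly F B)) = 1 := by
    refine ⟨((m : ZMod p)⁻¹).val, ?_⟩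
    have h1 : (m * ((m : ZMod p)⁻¹).val) % p = 1 := by
      have h2 : ((m * ((m : ZMod p)⁻¹).val : ℕ) : ZMod p) = ((1 : ℕ) : ZMod p) := by
        rw [Nat.cast_mul, ZMod.natCast_zmod_val, Nat.cast_one, mul_inv_cancel₀]
        rwa [Ne, ZMod.natCast_eq_zero_iff]
      rw [ZMod.natCast_eq_natCast_iff'] at h2
      rwa [Nat.one_mod_eq_one.2 (Fact.out : p.Prime).ne_one] at h2
    rw [← Nat.mod_add_div (m * ((m : ZMod p)⁻¹).val) p, h1, Nat.cast_add, Nat.cast_mul, hp0, zero_mul, add_zero,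
      Nat.cast_one]
  have hgR : Rep ρ z u S (g₀ ^ (m * j)) (RingSL.up (r : AdjoinRoot (minpoly F B))) := by
    have := hg₀r.pow (m * j)
    rwa [up_pow', hj, one_mul] at this
  have hXH : Xsub hS.hh z ≤ upRep ρ z u S G := by
    rintro Y ⟨a, hY⟩
    refine ⟨hXs ⟨a, hY⟩, algebraMap F _ a, fun ⟨v, w⟩ => ?_⟩
    rw [act_up, hρF, hFr.hX Y a hY]
  obtain ⟨w, ⟨hwG, r', hw⟩, hwL⟩ := hS.conj_to_L hL (p := p) (H := upRep ρ z u S G) (fun x hx => hG hx.1) hz0 hXH
    (x := g₀ ^ (m * j)) ⟨pow_mem hg₀ _, _, hgR⟩ (k := k) (by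
      rw [← pow_mul, show m * j * p ^ k = orderOf g₀ * j by rw [hord]; ring, pow_mul, pow_orderOf_eq_one, one_pow])
  have hqR := hw.conj hgR
  rw [show RingSL.up r' * RingSL.up (r : AdjoinRoot (minpoly F B)) * (RingSL.up r')⁻¹ = RingSL.up (r : AdjoinRoot (minpoly F B)) by
    rw [RingSL.up_inv, RingSL.up_mul, RingSL.up_mul, add_neg_cancel_comm]] at hqR
  obtain ⟨κ₁, κ₂, hκ⟩ := hS.upper_L hL hu hk hFr.nd hFr.ne hwL hqR (by simp)
  refine ⟨κ₂, fun e0 => hFr.ne ((Submodule.eq_bot_iff _).2 fun x hx => ?_), fun c => ?_⟩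
  · have h' := (hκ ⟨x, hx⟩).2
    simp only [RingSL.coe_up, Matrix.of_apply, Matrix.cons_val', Matrix.cons_val_zero, Matrix.cons_val_one,
      Matrix.cons_val_fin_one, map_one, Module.End.one_apply, hr, hρr, e0, zero_smul, add_zero, left_eq_add] at h'
    exact congrArg Subtype.val ((injective_iff_map_eq_zero _).1 hFr.Binj _ (right_eq_add.1 h'))
  · have h' := (hκ c).2
    simp only [RingSL.coe_up, Matrix.of_apply, Matrix.cons_val', Matrix.cons_val_zero, Matrix.cons_val_one,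
      Matrix.cons_val_fin_one, map_one, Module.End.one_apply, hr, hρr] at h'
    exact (add_left_cancel (h'.trans (add_comm _ _))).symm

omit hL

/-- Every matrix is realised. -/
theorem SC.frame_all (hFr : Frm h fA G X d ζ z u y W S B) (hXs : Xsub hS.hh z ≤ G)
    (hda : ∀ a : F, ∃ w ∈ G, ∀ t, (w : Mn) *ᵥ t = t + a • ((d : Mn) *ᵥ t - t)) {b : F} (hb : b ≠ 0)
    (hB : ∀ x, B x = b • x) (m : SLF) : ∃ w ∈ G, Rep (Algebra.ofId F (Module.End F W)) z u S w m := by
  classical
  have hρF : ∀ (a : F) (x : W), Algebra.ofId F (Module.End F W) a x = a • x := fun a x => by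
    rw [Algebra.ofId_apply, Module.algebraMap_end_apply]
  have hup : ∀ a : F, RingSL.up a ∈ repSub (Algebra.ofId F (Module.End F W)) z u S G := fun a => by
    obtain ⟨Y, -, hY, -⟩ := hS.exists_root z a
    refine ⟨Y, hXs ⟨a, hY⟩, fun ⟨v, w⟩ => ?_⟩
    rw [act_up, hρF, hFr.hX Y a hY]
  have hlow : ∀ a : F, RingSL.low a ∈ repSub (Algebra.ofId F (Module.End F W)) z u S G := fun a => by
    obtain ⟨Y, hYG, hY⟩ := hda (a / b)
    refine ⟨Y, hYG, fun ⟨v, w⟩ => ?_⟩
    rw [act_low, hρF, hY, hFr.hd, ← map_sub, ← map_smul, ← map_add]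
    congr 1
    ext <;> simp [hB, smul_smul, div_mul_cancel₀ a hb, add_comm]
  have htop : repSub (Algebra.ofId F (Module.End F W)) z u S G = ⊤ := AdjoinSL.eq_top_of_up_low hup hlow
  exact (htop.symm ▸ Subgroup.mem_top m : m ∈ repSub (Algebra.ofId F (Module.End F W)) z u S G)

end Cfsg.Agent.Classical.TensorSymp
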