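import Cfsg.Agent.Lib.Classical.TensorPowSymp.Two
import Cfsg.Agent.Lib.Classical.TensorPowSymp.Kinds
import Cfsg.Agent.Lib.Classical.MaxTensorFormCore

/-!
Scalar root coefficients in odd characteristic: radical elements are of product shape.
-/

set_option autoImplicit false
set_option linter.unusedSectionVars false
set_option linter.unusedSimpArgs false
set_option linter.style.haveILetI false

namespace Cfsg.Agent.Classical.TensorSymp

open Matrix Module MaxTv TensorMax Overfield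
open Cfsg.Agent.Classical.TensorPow (k2 k2_val k2_mulVec k2_mul k2_one)

variable {F : Type*} [Field F] [Fintype F] {α β : Type} [Fintype α] [DecidableEq α] [Fintype β] [DecidableEq β]

local notation "V" => (α × β → F)
local notation "Mn" => Matrix (α × β) (α × β) F
local notation "Ma" => Matrix α α F
local notation "Mb" => Matrix β β F
local notation "Ea" => ((α → F) →ₗ[F] (α → F))

theorem GL_neg_val (B : GL β F) (x : β → F) : ((-B : GL β F) : Mb) *ᵥ x = -((B : Mb) *ᵥ x) := by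
  rw [Units.val_neg, Matrix.neg_mulVec]

variable {h : (β → F) → (β → F) → F}

/-- Scalings of a hyperbolic pair. -/
theorem Symp.exists_torus (hh : Symp h) {z u : β → F} (huz : h u z = 1) {a : F} (ha : a ≠ 0) :
    ∃ B : GL β F, B ∈ Iso h ∧ (B : Mb) *ᵥ z = a • z ∧ (B : Mb) *ᵥ u = a⁻¹ • u ∧
      ∀ y, h y z = 0 → h y u = 0 → (B : Mb) *ᵥ y = y := by
  have hzu : h z u = -1 := by rw [hh.skew u z, huz]
  let L : (β → F) →ₗ[F] (β → F) :=
    LinearMap.id + ((a⁻¹ - 1) • hh.toSesq.lin z).smulRight u + ((1 - a) • hh.toSesq.lin u).smulRight z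
  have hL : ∀ x, L x = x + ((a⁻¹ - 1) * h x z) • u + ((1 - a) * h x u) • z := fun x => rfl
  have hiso : ∀ x y, h (L x) (L y) = h x y := fun x y => by
    simp only [hL, hh.add_left, hh.add_right, hh.smul_left, hh.smul_r, huz, hzu, hh.self]
    rw [hh.skew y u, hh.skew y z]
    field_simp
    ring
  obtain ⟨B, hB⟩ := exists_gl_of_injective L fun x y e => sub_eq_zero.1 (hh.eq_zero _ fun w => by
    have := hiso w (x - y)
    rw [map_sub, e, sub_self, hh.toSesq.zero_right] at this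
    exact this.symm)
  refine ⟨B, fun x y => by rw [hB, hB, hiso], ?_, ?_, fun y h1 h2 => ?_⟩
  · rw [hB, hL, hh.self, hzu, mul_zero, zero_smul, add_zero]
    module
  · rw [hB, hL, hh.self, huz, mul_zero, zero_smul, add_zero]
    module
  · rw [hB, hL, h1, h2, mul_zero, mul_zero, zero_smul, zero_smul, add_zero, add_zero]

/-- A root map of two vectors on a pure tensor. -/
theorem root2_tmul (hh : Symp h) (v w : β → F) (D : Ea) (x : α → F) (y : β → F) :
    rootMap v (fn h w) D (tmul x y) = h y w • tmul (D x) v := by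
  rw [rootMap_apply, slice_tmul, fn_dot hh.toSesq, map_smul, tmul_smul_left]

theorem root2_comp (hh : Symp h) {a b c d : β → F} (hcb : h c b = 0) (D D' : Ea) (t : V) :
    rootMap a (fn h b) D (rootMap c (fn h d) D' t) = 0 := by
  rw [rootMap_apply, rootMap_apply, slice_tmul, fn_dot hh.toSesq, hcb, zero_smul, map_zero, tmul_zero_left]

/-- Conjugates of root maps by products of similitudes. -/
theorem conjL_root2 (hh : Symp h) (A : GL α F) {B : GL β F} {ν : F} (hν : ν ≠ 0)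
    (hB : ∀ y y', h ((B : Mb) *ᵥ y) ((B : Mb) *ᵥ y') = ν * h y y') (v w : β → F) (D : Ea) :
    conjL (k2 A B) (rootMap v (fn h w) D) = rootMap ((B : Mb) *ᵥ v) (fn h ((B : Mb) *ᵥ w))
      (ν⁻¹ • (Matrix.toLin' (A : Ma)).comp (D.comp (Matrix.toLin' ((A⁻¹ : GL α F) : Ma)))) := by
  refine LinearMap.ext fun t => ?_
  obtain ⟨s, rfl⟩ : ∃ s, (k2 A B : Mn) *ᵥ s = t := ⟨_, mulVec_inv_cancel _ t⟩
  rw [conjL_apply, inv_mulVec_cancel]
  refine LinearMap.congr_fun (f := (Matrix.toLin' (k2 A B : Mn)).comp (rootMap v (fn h w) D))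
    (g := (rootMap ((B : Mb) *ᵥ v) (fn h ((B : Mb) *ᵥ w))
      (ν⁻¹ • (Matrix.toLin' (A : Ma)).comp (D.comp (Matrix.toLin' ((A⁻¹ : GL α F) : Ma))))).comp
      (Matrix.toLin' (k2 A B : Mn))) (ext_tmul fun x y => ?_) s
  simp only [LinearMap.comp_apply, Matrix.toLin'_apply, root2_tmul hh, Matrix.mulVec_smul, k2_mulVec, hB y w,
    inv_mulVec_cancel, LinearMap.smul_apply, tmul_smul_left, smul_smul]
  rw [mul_comm ν, mul_assoc, mul_inv_cancel₀ hν, mul_one]

/-- The symmetrical root map of two vectors. -/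
def PM (h : (β → F) → (β → F) → F) (z w : β → F) (S : (α → F) →ₗ[F] (α → F)) :
    (α × β → F) →ₗ[F] (α × β → F) :=
  rootMap z (fn h w) S - rootMap w (fn h z) S

theorem PM_tmul (hh : Symp h) (z w : β → F) (S : Ea) (x : α → F) (y : β → F) :
    PM h z w S (tmul x y) = h y w • tmul (S x) z - h y z • tmul (S x) w := by
  rw [PM, LinearMap.sub_apply, root2_tmul hh, root2_tmul hh]

/-- Scalar coefficients in odd characteristic, with the killing of skew families. -/
structure SC (e : F) (fA : (α → F) → (α → F) → F) (h : (β → F) → (β → F) → F)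
    (f : (α × β → F) → (α × β → F) → F) (M : Subgroup (GL (α × β) F)) : Prop extends Pr e fA h f M where
  h2 : (2 : F) ≠ 0
  scal : Scal h M
  hk : 4 ≤ Fintype.card β ∨ ∃ a : F, a ≠ 0 ∧ a * a ≠ 1
  skew0 : 4 ≤ Fintype.card β → ∀ P : ((α → F) →ₗ[F] (α → F)) → Prop, (∀ {S T}, P S → P T → P (S + T)) →
    (∀ {S} (r : F), P S → P (r • S)) →
    (∀ {S} (A : GL α F), k2 A (1 : GL β F) ∈ M → P S →
      P ((Matrix.toLin' (A : Matrix α α F)).comp (S.comp (Matrix.toLin' ((A⁻¹ : GL α F) : Matrix α α F))))) →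
    (∀ {S}, P S → ∀ x y, fA (S x) y = -fA x (S y)) →
    (∀ {S T}, P S → P T → ∃ r : F, ∀ x, S (T x) + T (S x) = r • x) → ∀ S, P S → S = 0

/-- An isometry in the group up to a product of similitudes. -/
def Tw (h : (β → F) → (β → F) → F) (f : (α × β → F) → (α × β → F) → F) (M : Subgroup (GL (α × β) F))
    (g : GL (α × β) F) : Prop :=
  (∀ s t, f ((g : Mn) *ᵥ s) ((g : Mn) *ᵥ t) = f s t) ∧
    ∃ (A : GL α F) (B : GL β F) (ν : F), ν ≠ 0 ∧ (∀ y y', h ((B : Mb) *ᵥ y) ((B : Mb) *ᵥ y') = ν * h y y') ∧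
      k2 A B * g ∈ M

/-- Trivial on `α ⊗ z` and modulo it on the orthogonal space. -/
structure Rad (h : (β → F) → (β → F) → F) (g : GL (α × β) F) (z : β → F) : Prop where
  fix : ∀ x, (g : Mn) *ᵥ tmul x z = tmul x z
  act : ∀ x y, h y z = 0 → ∃ X, (g : Mn) *ᵥ tmul x y - tmul x y = tmul X z

/-- The middle part of a radical element. -/
def mid (h : (β → F) → (β → F) → F) (g : GL (α × β) F) (u y : β → F) : (α → F) →ₗ[F] (α → F) :=
  -(sl h u).comp ((Matrix.toLin' (g : Matrix (α × β) (α × β) F) - LinearMap.id).comp (fac y))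

theorem mid_apply (g : GL (α × β) F) (u y : β → F) (x : α → F) :
    mid h g u y x = -sl h u ((g : Mn) *ᵥ tmul x y - tmul x y) := by
  simp [mid, fac_apply]

theorem mid_sub_smul (g : GL (α × β) F) (u y w : β → F) (a : F) :
    mid h g u (y - a • w) = mid h g u y - a • mid h g u w := by
  refine LinearMap.ext fun x => ?_
  simp only [mid_apply, LinearMap.sub_apply, LinearMap.smul_apply, tmul_sub_right, tmul_smul_right,
    Matrix.mulVec_sub, Matrix.mulVec_smul, map_sub, map_smul]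
  module

theorem Rad.eq (hh : Symp h) {g : GL (α × β) F} {z u : β → F} (hg : Rad h g z) (hu : h u z = 1) (x : α → F)
    {y : β → F} (hy : h y z = 0) : (g : Mn) *ᵥ tmul x y = tmul x y + tmul (mid h g u y x) z := by
  obtain ⟨X, hX⟩ := hg.act x y hy
  rw [mid_apply, hX, sl_tmul' hh, hh.skew u z, hu, neg_one_smul, neg_neg, ← hX, add_sub_cancel]

theorem Rad.inv_eq (hh : Symp h) {g : GL (α × β) F} {z u : β → F} (hg : Rad h g z) (hu : h u z = 1) (x : α → F)
    {y : β → F} (hy : h y z = 0) :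
    ((g⁻¹ : GL (α × β) F) : Mn) *ᵥ tmul x y = tmul x y - tmul (mid h g u y x) z :=
  gl_mulVec_injective g (by
    show (g : Mn) *ᵥ _ = (g : Mn) *ᵥ _
    rw [mulVec_inv_cancel, Matrix.mulVec_sub, hg.eq hh hu x hy, hg.fix, add_sub_cancel_right])

theorem Rad.inv_fix {g : GL (α × β) F} {z : β → F} (hg : Rad h g z) (x : α → F) :
    ((g⁻¹ : GL (α × β) F) : Mn) *ᵥ tmul x z = tmul x z :=
  gl_mulVec_injective g (by
    show (g : Mn) *ᵥ _ = (g : Mn) *ᵥ _
    rw [mulVec_inv_cancel, hg.fix])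

theorem mid_of_eq (hh : Symp h) {g : GL (α × β) F} {z u : β → F} (hu : h u z = 1) {x X : α → F} {y : β → F}
    (hX : (g : Mn) *ᵥ tmul x y = tmul x y + tmul X z) : mid h g u y x = X := by
  rw [mid_apply, hX, add_sub_cancel_left, sl_tmul' hh, hh.skew u z, hu, neg_one_smul, neg_neg]

theorem Rad.mid_z (hh : Symp h) {g : GL (α × β) F} {z u : β → F} (hg : Rad h g z) (hu : h u z = 1)
    (x : α → F) : mid h g u z x = 0 :=
  mid_of_eq hh hu (by rw [hg.fix, tmul_zero_left, add_zero])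

theorem Rad.mid_sub_z (hh : Symp h) {g : GL (α × β) F} {z u : β → F} (hg : Rad h g z) (hu : h u z = 1)
    (y : β → F) (a : F) : mid h g u (y - a • z) = mid h g u y := by
  refine LinearMap.ext fun x => ?_
  rw [mid_sub_smul, LinearMap.sub_apply, LinearMap.smul_apply, hg.mid_z hh hu, smul_zero, sub_zero]

variable {e : F} {fA : (α → F) → (α → F) → F}
  {f : (α × β → F) → (α × β → F) → F} {M : Subgroup (GL (α × β) F)}

variable (hP : Pr e fA h f M)
include hP

/-- The inner element acts on the second factor. -/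
theorem Pr.inner_apply (B : GL β F) (x : α → F) (y : β → F) :
    (k2 (1 : GL α F) B : Mn) *ᵥ tmul x y = tmul x ((B : Mb) *ᵥ y) := by
  rw [k2_mulVec, Units.val_one, Matrix.one_mulVec]

theorem Pr.inner_inv (B : GL β F) (x : α → F) (y : β → F) :
    (((k2 (1 : GL α F) B)⁻¹ : GL (α × β) F) : Mn) *ᵥ tmul x y = tmul x (((B⁻¹ : GL β F) : Mb) *ᵥ y) :=
  gl_mulVec_injective (k2 (1 : GL α F) B) (by
    show (k2 (1 : GL α F) B : Mn) *ᵥ _ = (k2 (1 : GL α F) B : Mn) *ᵥ _
    rw [mulVec_inv_cancel, hP.inner_apply, mulVec_inv_cancel])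

theorem Rad.sl_eq {g : GL (α × β) F} {z : β → F} (hg : Rad h g z)
    (hi : ∀ s t, f ((g : Mn) *ᵥ s) ((g : Mn) *ᵥ t) = f s t) (t : V) :
    sl h z ((g : Mn) *ᵥ t) = sl h z t :=
  hP.eq_of_fA fun x => by
    rw [← hP.f_sl, ← hP.f_sl]
    conv_lhs => rw [← hg.fix x]
    exact hi _ _

/-- A tensor orthogonal to all tensors at vectors orthogonal to `z`. -/
theorem Pr.eq_tmul {t : V} {z u : β → F} (hu : h u z = 1)
    (ht : ∀ x y, h y z = 0 → f t (tmul x y) = 0) : t = tmul (-sl h u t) z := by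
  have h1 : fn h (-u) ⬝ᵥ z = 1 := by rw [fn_dot hP.hh.toSesq, hP.hh.neg_right, hP.hh.skew u z, hu, neg_neg]
  have h2 := eq_tmul_of_slices h1 (t := t) fun φ hφ => by
    obtain ⟨y, rfl⟩ := fn_surjective hP.hh.toSesq φ
    rw [fn_dot hP.hh.toSesq] at hφ
    refine hP.eq_of_fA fun x => ?_
    rw [hP.hA.zero_left]
    show fA (sl h y t) x = 0
    rw [← hP.f_sl, ht x y (hP.hh.toSesq.refl _ _ hφ)]
  rw [← neg_one_smul F u, hP.hh.fn_smul'] at h2
  conv_lhs => rw [h2, slice_smul, neg_one_smul]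
  rfl

/-- Commutators with inner elements lie in the group, up to the twist. -/
theorem Pr.comm_mem {g : GL (α × β) F} {A : GL α F} {B E : GL β F} {ν : F}
    (hB : ∀ y y', h ((B : Mb) *ᵥ y) ((B : Mb) *ᵥ y') = ν * h y y') (hm : k2 A B * g ∈ M) (hE : E ∈ Iso h) :
    k2 A B * (g * k2 1 E * g⁻¹ * (k2 1 E)⁻¹) * (k2 A B)⁻¹ ∈ M := by
  have hc : k2 A B * k2 1 E * (k2 A B)⁻¹ = k2 1 (B * E * B⁻¹) := by
    rw [mul_inv_eq_iff_eq_mul, k2_mul, k2_mul, inv_mul_cancel_right, one_mul, mul_one]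
  rw [show k2 A B * (g * k2 1 E * g⁻¹ * (k2 1 E)⁻¹) * (k2 A B)⁻¹ =
      k2 A B * g * k2 1 E * (k2 A B * g)⁻¹ * (k2 A B * k2 1 E * (k2 A B)⁻¹)⁻¹ by group, hc]
  exact mul_mem (mul_mem (mul_mem hm (hP.kB hE)) (inv_mem hm)) (inv_mem (hP.kB (conj_Iso hB hE)))

variable {hP}
omit hP

namespace SC

variable (hS : SC e fA h f M)
include hS

/-- The pair family from one pair. -/
theorem pm_move {z w z' w' : β → F} (hz : z ≠ 0) (hw : ∀ r : F, w ≠ r • z) (hzw : h z w = 0) (hz' : z' ≠ 0)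
    (hw' : ∀ r : F, w' ≠ r • z') (hzw' : h z' w' = 0) {S : Ea} (hS' : In M (PM h z w S)) :
    In M (PM h z' w' S) := by
  have hh := hS.hh
  obtain ⟨B, hB, hBz⟩ := hh.exists_move hz hz'
  obtain ⟨B', hB', hB'z, hB'w⟩ := hh.exists_move_fix hz' (b := (B : Mb) *ᵥ w) (d := w') (fun r er => hw r
    (gl_mulVec_injective B (by
      show (B : Mb) *ᵥ w = (B : Mb) *ᵥ (r • z)
      rw [er, Matrix.mulVec_smul, hBz]))) hw' (by rw [← hBz, hB, hzw]) hzw'
  have hBB : B' * B ∈ Iso h := mul_mem hB' hB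
  have h1 := hS'.conj (hS.kB hBB)
  have e : conjL (k2 (1 : GL α F) (B' * B)) (PM h z w S) = PM h z' w' S := by
    refine LinearMap.ext fun t => ?_
    rw [conjL_apply, PM, LinearMap.sub_apply, Matrix.mulVec_sub, ← conjL_apply, ← conjL_apply,
      conjL_root2 hh 1 one_ne_zero (fun y y' => by rw [hBB, one_mul]),
      conjL_root2 hh 1 one_ne_zero (fun y y' => by rw [hBB, one_mul])]
    simp only [PM, Units.val_mul, ← Matrix.mulVec_mulVec, hBz, hB'z, hB'w, inv_one, Units.val_one, Matrix.toLin'_one,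
      LinearMap.comp_id, LinearMap.id_comp, one_smul, LinearMap.sub_apply]
  rwa [e] at h1

/-- The skew middle parts of radical elements vanish. -/
theorem pm_zero {z w : β → F} (hz : z ≠ 0) (hw : ∀ r : F, w ≠ r • z) (hzw : h z w = 0) {S : Ea}
    (hS' : In M (PM h z w S)) : S = 0 := by
  have hh := hS.hh
  have h4 := three_le_of_pair hh hz hw hzw
  obtain ⟨z', w', h1, h2, h3, h4', h5, h6, h7, h8, h9, h10, h11⟩ := hh.exists_quad hz hw hzw
  refine hS.skew0 h4 (fun S => In M (PM h z w S)) (fun {S T} hS hT => ?_) (fun {S} r hr => ?_)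
    (fun {S} A hA hr => ?_) (fun {S} hr x y => ?_) (fun {S T} hS₁ hT₁ => ?_) S hS'
  · have := hS.add hT fun t => by
      simp only [PM, LinearMap.sub_apply, map_sub, root2_comp hh (hh.self z), root2_comp hh (hh.self w),
        root2_comp hh hzw, root2_comp hh h11, sub_self]
    convert this using 1
    refine LinearMap.ext fun t => ?_
    simp only [PM, LinearMap.sub_apply, LinearMap.add_apply, rootMap_apply, tmul_add_left]
    abel
  · rcases eq_or_ne r 0 with rfl | hr0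
    · convert In.zero (M := M) using 1
      refine LinearMap.ext fun t => ?_
      simp [PM, rootMap_apply, tmul_zero_left]
    obtain ⟨B, hB, hBz, -, hBy⟩ := hh.exists_torus (z := z) (u := z') h1 hr0
    have h1' := hr.conj (hS.kB hB)
    have e : conjL (k2 (1 : GL α F) B) (PM h z w S) = PM h z w (r • S) := by
      refine LinearMap.ext fun t => ?_
      rw [conjL_apply, PM, LinearMap.sub_apply, Matrix.mulVec_sub, ← conjL_apply, ← conjL_apply,
        conjL_root2 hh 1 one_ne_zero (fun y y' => by rw [hB, one_mul]),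
        conjL_root2 hh 1 one_ne_zero (fun y y' => by rw [hB, one_mul])]
      simp only [hBz, hBy w h11 h7, inv_one, Units.val_one, Matrix.toLin'_one, LinearMap.comp_id, LinearMap.id_comp,
        one_smul, PM, LinearMap.sub_apply, rootMap_apply, LinearMap.smul_apply, hh.fn_smul', slice_smul, map_smul,
        tmul_smul_left, tmul_smul_right]
    rwa [e] at h1'
  · have h1' := hr.conj hA
    have e : conjL (k2 A (1 : GL β F)) (PM h z w S) =
        PM h z w ((Matrix.toLin' (A : Ma)).comp (S.comp (Matrix.toLin' ((A⁻¹ : GL α F) : Ma)))) := by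
      refine LinearMap.ext fun t => ?_
      rw [conjL_apply, PM, LinearMap.sub_apply, Matrix.mulVec_sub, ← conjL_apply, ← conjL_apply,
        conjL_root2 hh A one_ne_zero (fun y y' => by simp), conjL_root2 hh A one_ne_zero (fun y y' => by simp)]
      simp only [Units.val_one, Matrix.one_mulVec, inv_one, one_smul, PM, LinearMap.sub_apply]
    rwa [e] at h1'
  · obtain ⟨g, hg, hgx⟩ := hr
    have h := hS.iso hg (tmul x w') (tmul y z')
    rw [hgx, hgx, PM_tmul hh, PM_tmul hh, h3, h4', h1, h2] at h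
    simp only [one_smul, zero_smul, sub_zero, zero_sub, hS.hV.add_left, hS.hV.add_right,
      hS.hV.sub_left, hS.hV.sub_right, ← neg_one_smul F (tmul _ _), hS.hV.smul_left, hS.hV.smul_right, hS.ten,
      RingEquiv.refl_apply, hh.self, hzw, h6, h10, h9, h8, hh.skew w w', h3] at h
    linear_combination -h
  · have hw'0 : h z w' = 0 := h9
    have hwi : ∀ r : F, w' ≠ r • z := fun r er => by
      have := h3
      rw [er, hh.smul_left, hzw, mul_zero] at this
      exact zero_ne_one this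
    have hT₂ : In M (PM h z w' T) := hS.pm_move hz hw hzw hz hwi hw'0 hT₁
    obtain ⟨L1, hL1⟩ : ∃ L, L = PM h z w S := ⟨_, rfl⟩
    obtain ⟨L2, hL2⟩ : ∃ L, L = PM h z w' T := ⟨_, rfl⟩
    rw [← hL1] at hS₁
    rw [← hL2] at hT₂
    have q12 : ∀ t, L1 (L2 t) = -tmul (S (T (slice (fn h z) t))) z := fun t => by
      rw [hL2, PM, LinearMap.sub_apply, map_sub, rootMap_apply, rootMap_apply, hL1, PM_tmul hh, PM_tmul hh,
        hzw, hh.self, h3, h4', zero_smul, zero_smul, sub_zero, zero_sub, one_smul, zero_smul, sub_zero]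
    have q21 : ∀ t, L2 (L1 t) = tmul (T (S (slice (fn h z) t))) z := fun t => by
      rw [hL1, PM, LinearMap.sub_apply, map_sub, rootMap_apply, rootMap_apply, hL2, PM_tmul hh, PM_tmul hh,
        hw'0, hh.self, h8, h11, zero_smul, zero_smul, sub_zero, zero_sub, neg_one_smul, zero_smul, sub_zero, neg_neg]
    have q1 : ∀ x, L1 (tmul x z) = 0 := fun x => by
      rw [hL1, PM_tmul hh, hzw, hh.self, zero_smul, zero_smul, sub_zero]
    have q2 : ∀ x, L2 (tmul x z) = 0 := fun x => by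
      rw [hL2, PM_tmul hh, hw'0, hh.self, zero_smul, zero_smul, sub_zero]
    have s1 : ∀ t, L1 (L1 t) = 0 := fun t => by
      simp only [hL1, PM, LinearMap.sub_apply, map_sub, root2_comp hh (hh.self z), root2_comp hh (hh.self w),
        root2_comp hh hzw, root2_comp hh h11, sub_self]
    have s2 : ∀ t, L2 (L2 t) = 0 := fun t => by
      simp only [hL2, PM, LinearMap.sub_apply, map_sub, root2_comp hh (hh.self z), root2_comp hh (hh.self w'),
        root2_comp hh hw'0, root2_comp hh h4', sub_self]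
    have hcom := (hT₂.sandwich hS₁ s1).sub hT₂ (fun t => by
      simp only [LinearMap.comp_apply, LinearMap.add_apply, LinearMap.sub_apply, LinearMap.id_apply, map_sub,
        q12, q21, s2, map_neg, map_add, map_zero, q1, q2, neg_zero, sub_zero, zero_sub, add_zero, neg_neg, zero_add]) s2
    have hroot : In M (rM h z (-(S.comp T + T.comp S))) := by
      convert hcom using 1
      refine LinearMap.ext fun t => ?_
      simp only [LinearMap.comp_apply, LinearMap.add_apply, LinearMap.sub_apply, LinearMap.id_apply, map_sub, q12,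
        q21, q1, map_neg, neg_zero, rM, rootMap_apply, LinearMap.neg_apply]
      rw [show -(S (T (slice (fn h z) t)) + T (S (slice (fn h z) t))) =
        (0 : α → F) - S (T (slice (fn h z) t)) - T (S (slice (fn h z) t)) by abel, tmul_sub_left, tmul_sub_left,
        tmul_zero_left]
      abel
    obtain ⟨r, hr⟩ := hS.scal _ (hS.toPr.uc_of hz hroot)
    refine ⟨-r, fun x => ?_⟩
    have h := hr x
    simp only [LinearMap.neg_apply, LinearMap.add_apply, LinearMap.comp_apply] at h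
    rw [neg_smul, ← h, neg_neg]

/-- The middle of a radical element of the group is scalar. -/
theorem mid_scal {g : GL (α × β) F} {z u : β → F} (hz : z ≠ 0) (hu : h u z = 1) (hg : Rad h g z) (hgM : g ∈ M)
    {y : β → F} (hy : h y z = 0) : ∃ μ : F, ∀ x, mid h g u y x = μ • x := by
  have hh := hS.hh
  have hzu : h z u = -1 := by rw [hh.skew u z, hu]
  suffices key : ∀ y, h y z = 0 → h y u = 0 → ∃ μ : F, ∀ x, mid h g u y x = μ • x by
    obtain ⟨μ, hμ⟩ := key (y - (-h y u) • z)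
      (by rw [hh.toSesq.sub_left, hh.smul_left, hh.self, hy, mul_zero, sub_zero])
      (by rw [hh.toSesq.sub_left, hh.smul_left, hzu]; ring)
    exact ⟨μ, fun x => by rw [← hg.mid_sub_z hh hu y (-h y u)]; exact hμ x⟩
  intro w hwz hwu
  rcases eq_or_ne w 0 with rfl | hw0
  · exact ⟨0, fun x => by rw [zero_smul]; exact mid_of_eq hh hu (by rw [tmul_zero_right, Matrix.mulVec_zero, tmul_zero_left, add_zero])⟩
  have hwi : ∀ r : F, w ≠ r • z := fun r er => by
    have := hwu
    rw [er, hh.smul_left, hzu, mul_neg, mul_one, neg_eq_zero] at this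
    exact hw0 (by rw [er, this, zero_smul])
  have hzw : h z w = 0 := hh.toSesq.refl _ _ hwz
  have huw : h u w = 0 := hh.toSesq.refl _ _ hwu
  have hgi := hS.iso hgM
  obtain ⟨R, hR⟩ : ∃ R, R = mid h g u w := ⟨_, rfl⟩
  -- the commutator with an Eichler map
  obtain ⟨E, hE, hEx⟩ := hh.exists_eich hzw
  obtain ⟨W, hW⟩ : ∃ W : Ea, W = (sl h w).comp ((Matrix.toLin' (g : Mn) - LinearMap.id).comp (fac u)) := ⟨_, rfl⟩
  have hWR : ∀ x x', fA (W x) x' = -fA x (R x') := fun x x' => by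
    obtain ⟨d, hd⟩ : ∃ d, d = (g : Mn) *ᵥ tmul x u - tmul x u := ⟨_, rfl⟩
    have h0 : sl h z d = 0 := by rw [hd, map_sub, hg.sl_eq hS.toPr hgi, sub_self]
    have h1 := hgi (tmul x u) (tmul x' w)
    rw [show (g : Mn) *ᵥ tmul x u = tmul x u + d by rw [hd, add_sub_cancel], hg.eq hh hu x' hwz, ← hR,
      hS.hV.add_left, hS.hV.add_right, hS.hV.add_right, hS.ten, hS.ten, hu, huw, hS.f_sl d, hS.f_sl d, h0,
      hS.hA.zero_left] at h1
    have hWx : W x = sl h w d := by
      rw [hW, hd]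
      simp only [LinearMap.comp_apply, LinearMap.sub_apply, LinearMap.id_apply, Matrix.toLin'_apply, fac_apply]
    rw [hWx]
    linear_combination h1
  obtain ⟨k, hk⟩ : ∃ k, k = g * k2 1 E * g⁻¹ * (k2 1 E)⁻¹ := ⟨_, rfl⟩
  have hkM : k ∈ M := hk ▸ mul_mem (mul_mem (mul_mem hgM (hS.kB hE)) (inv_mem hgM)) (inv_mem (hS.kB hE))
  have hkge : ∀ t, (k : Mn) *ᵥ ((k2 (1 : GL α F) E : Mn) *ᵥ ((g : Mn) *ᵥ t)) =
      (g : Mn) *ᵥ ((k2 (1 : GL α F) E : Mn) *ᵥ t) := fun t => by
    rw [hk, Units.val_mul, Units.val_mul, Units.val_mul, ← Matrix.mulVec_mulVec, ← Matrix.mulVec_mulVec,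
      ← Matrix.mulVec_mulVec, inv_mulVec_cancel, inv_mulVec_cancel]
  have hEl : ∀ t, (k2 (1 : GL α F) E : Mn) *ᵥ t = t + tmul (sl h w t) z + tmul (sl h z t) w := fun t => by
    refine LinearMap.congr_fun (f := Matrix.toLin' (k2 (1 : GL α F) E : Mn))
      (g := LinearMap.id + (fac z).comp (sl h w) + (fac w).comp (sl h z)) (ext_tmul fun x y => ?_) t
    simp only [Matrix.toLin'_apply, hS.toPr.inner_apply, hEx, LinearMap.add_apply, LinearMap.id_apply,
      LinearMap.comp_apply, fac_apply, sl_tmul' hh, tmul_add_right, tmul_smul_right, tmul_smul_left]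
  have hkfix' : ∀ x y, h y z = 0 → (k : Mn) *ᵥ (tmul x y + tmul (mid h g u y x) z) =
      tmul x y + tmul (mid h g u y x) z := fun x y hy => by
    have hy' : h (y - h y w • z) z = 0 := by rw [hh.toSesq.sub_left, hh.smul_left, hh.self, hy, mul_zero, sub_zero]
    have e1 : (E : Mb) *ᵥ (y - h y w • z) = y := by
      rw [hEx, hy', zero_smul, add_zero, hh.toSesq.sub_left, hh.smul_left, hzw, mul_zero, sub_zero, sub_add_cancel]
    have e2 : (E : Mb) *ᵥ z = z := by rw [hEx, hh.self, hzw, zero_smul, add_zero, zero_smul, add_zero]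
    have h1 := hkge (tmul x (y - h y w • z))
    rwa [hg.eq hh hu x hy', Matrix.mulVec_add, hS.toPr.inner_apply, hS.toPr.inner_apply, e1, e2,
      hg.mid_sub_z hh hu, hg.eq hh hu x hy] at h1
  have hkz : ∀ x, (k : Mn) *ᵥ tmul x z = tmul x z := fun x => by
    have := hkfix' x z (hh.self z)
    rwa [hg.mid_z hh hu, tmul_zero_left, add_zero] at this
  have hkfix : ∀ x y, h y z = 0 → (k : Mn) *ᵥ tmul x y = tmul x y := fun x y hy => by
    have := hkfix' x y hy
    rwa [Matrix.mulVec_add, hkz, add_left_inj] at this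
  have hkD : ∀ t, (k : Mn) *ᵥ t = t + rM h z (R - W) t := by
    refine fun t => (Matrix.toLin'_apply _ _).symm.trans (LinearMap.congr_fun (f := Matrix.toLin' (k : Mn))
      (g := LinearMap.id + rM h z (R - W)) (ext_frame hh hu (fun x => ?_) (fun x => ?_) fun x y hy _ => ?_) t)
    · rw [Matrix.toLin'_apply, hkfix x z (hh.self z), LinearMap.add_apply, LinearMap.id_apply, rM_tmul hh, hh.self,
        zero_smul, add_zero]
    · rw [Matrix.toLin'_apply, LinearMap.add_apply, LinearMap.id_apply, rM_tmul hh, hu, one_smul]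
      obtain ⟨d, hd⟩ : ∃ d, d = (g : Mn) *ᵥ tmul x u - tmul x u := ⟨_, rfl⟩
      have hgu : (g : Mn) *ᵥ tmul x u = tmul x u + d := by rw [hd, add_sub_cancel]
      have h0 : sl h z d = 0 := by rw [hd, map_sub, hg.sl_eq hS.toPr hgi, sub_self]
      have hWx : W x = sl h w d := by
        rw [hW, hd]
        simp only [LinearMap.comp_apply, LinearMap.sub_apply, LinearMap.id_apply, Matrix.toLin'_apply, fac_apply]
      have h1 := hkge (tmul x u)
      rw [hgu, Matrix.mulVec_add, Matrix.mulVec_add, hEl (tmul x u), hEl d, h0, sl_tmul' hh, sl_tmul' hh, hu, huw,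
        zero_smul, one_smul, tmul_zero_left, tmul_zero_left, add_zero, add_zero] at h1
      simp only [Matrix.mulVec_add, hgu, hkfix _ _ (hh.self z), hkfix _ _ hwz, hg.eq hh hu x hwz, ← hR] at h1
      have hkd : (k : Mn) *ᵥ d = d := by
        have hl : ∀ t, sl h z t = 0 → (k : Mn) *ᵥ t = t := fun t ht => by
          have hfun : (Matrix.toLin' (k : Mn)).comp (LinearMap.id - (fac u).comp (sl h z)) =
              LinearMap.id - (fac u).comp (sl h z) := ext_tmul fun x' y => by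
            simp only [LinearMap.comp_apply, LinearMap.sub_apply, LinearMap.id_apply, sl_tmul' hh, fac_apply,
              tmul_smul_left, ← tmul_smul_right, ← tmul_sub_right, Matrix.toLin'_apply]
            exact hkfix _ _ (by rw [hh.toSesq.sub_left, hh.smul_left, hu, mul_one, sub_self])
          have := LinearMap.congr_fun hfun t
          simpa [ht, tmul_zero_left] using this
        exact hl d h0
      rw [hkd] at h1
      rw [LinearMap.sub_apply, tmul_sub_left, hWx]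
      linear_combination (norm := abel) h1
    · rw [Matrix.toLin'_apply, hkfix x y hy, LinearMap.add_apply, LinearMap.id_apply, rM_tmul hh, hy, zero_smul,
        add_zero]
  obtain ⟨l, hl⟩ := hS.scal _ (hS.toPr.uc_of hz ⟨k, hkM, hkD⟩)
  have hRsum : ∀ x x', fA (R x) x' + fA x (R x') = l * fA x x' := fun x x' => by
    have h1 := congrArg (fun t => fA t x') (hl x)
    simp only [LinearMap.sub_apply, hS.hA.sub_left, hS.hA.smul_left, hWR] at h1
    linear_combination h1
  -- the element supported at one vector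
  obtain ⟨t, ht, -, -, htx⟩ := hh.exists_tv w 1
  have htix : ∀ y, ((t⁻¹ : GL β F) : Mb) *ᵥ y = y - h y w • w := fun y => gl_mulVec_injective t (by
    show (t : Mb) *ᵥ _ = (t : Mb) *ᵥ _
    rw [mulVec_inv_cancel, htx, hh.toSesq.sub_left, hh.smul_left, hh.self, mul_zero, sub_zero, one_mul,
      sub_add_cancel])
  obtain ⟨E', hE', hE'x⟩ := hh.exists_eich (v := z) (a := (-(l / 2)) • w) (by rw [hh.smul_r, hzw, mul_zero])
  obtain ⟨g₂, hg₂⟩ : ∃ g₂, g₂ = g * k2 1 t * g⁻¹ * (k2 1 t)⁻¹ * k2 1 E' := ⟨_, rfl⟩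
  have hg₂M : g₂ ∈ M := hg₂ ▸ mul_mem (mul_mem (mul_mem (mul_mem hgM (hS.kB ht)) (inv_mem hgM)) (inv_mem (hS.kB ht)))
    (hS.kB hE')
  obtain ⟨S, hSd⟩ : ∃ S : Ea, S = R - (l / 2) • LinearMap.id := ⟨_, rfl⟩
  have hSskew : ∀ x x', fA (S x) x' = -fA x (S x') := fun x x' => by
    simp only [hSd, LinearMap.sub_apply, LinearMap.smul_apply, LinearMap.id_apply, hS.hA.sub_left, hS.hA.sub_right,
      hS.hA.smul_left, hS.hA.smul_right, RingEquiv.refl_apply, smul_eq_mul]
    have h2 := hS.h2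
    linear_combination (norm := (field_simp; ring)) hRsum x x'
  have hgy : ∀ x y, h y z = 0 → (g₂ : Mn) *ᵥ tmul x y = tmul x y + h y w • tmul (S x) z := fun x y hy => by
    have hy' : ∀ r : F, h (y + r • z) z = 0 := fun r => by
      rw [hh.add_left, hh.smul_left, hy, hh.self, mul_zero, add_zero]
    have hyw : ∀ r : F, h (y + r • z) w = h y w := fun r => by
      rw [hh.add_left, hh.smul_left, hzw, mul_zero, add_zero]
    obtain ⟨r, hr⟩ : ∃ r, (E' : Mb) *ᵥ y = y + r • z ∧ r = -(l / 2) * h y w :=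
      ⟨-(l / 2) * h y w, by rw [hE'x, hy, zero_smul, add_zero, hh.smul_r], rfl⟩
    obtain ⟨hEy, hr⟩ := hr
    obtain ⟨p, hp⟩ : ∃ p, p = y + r • z := ⟨_, rfl⟩
    have hpz : h p z = 0 := hp ▸ hy' r
    have hp'z : h (p - h p w • w) z = 0 := by
      rw [hh.toSesq.sub_left, hh.smul_left, hwz, hpz, mul_zero, sub_zero]
    rw [hg₂]
    simp only [Units.val_mul, ← Matrix.mulVec_mulVec]
    rw [hS.toPr.inner_apply, hEy, ← hp, hS.toPr.inner_inv, htix, hg.inv_eq hh hu x hp'z, Matrix.mulVec_sub,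
      hS.toPr.inner_apply, hS.toPr.inner_apply, htx, htx, hh.toSesq.sub_left, hh.smul_left, hh.self, mul_zero,
      sub_zero, one_mul, sub_add_cancel, hzw, mul_zero, zero_smul, add_zero, Matrix.mulVec_sub,
      hg.eq hh hu x hpz, hg.fix, mid_sub_smul, ← hR, hp, hyw, tmul_add_right, tmul_smul_right, hSd, hr]
    simp only [LinearMap.sub_apply, LinearMap.smul_apply, LinearMap.id_apply, tmul_sub_left, tmul_smul_left]
    module
  have hg₂i := hS.iso hg₂M
  have hg₂fix : ∀ x, (g₂ : Mn) *ᵥ tmul x z = tmul x z := fun x => by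
    rw [hgy x z (hh.self z), hzw, zero_smul, add_zero]
  obtain ⟨D, hD⟩ : ∃ D : Ea, ∀ x, (g₂ : Mn) *ᵥ tmul x u - tmul x u + tmul (S x) w = tmul (D x) z := by
    refine ⟨-(sl h u).comp ((Matrix.toLin' (g₂ : Mn) - LinearMap.id).comp (fac u) + (fac w).comp S), fun x => ?_⟩
    simp only [LinearMap.neg_apply, LinearMap.comp_apply, LinearMap.add_apply, LinearMap.sub_apply,
      Matrix.toLin'_apply, LinearMap.id_apply, fac_apply]
    refine hS.toPr.eq_tmul hu fun x' y hy => ?_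
    obtain ⟨d, hd⟩ : ∃ d, d = (g₂ : Mn) *ᵥ tmul x u - tmul x u := ⟨_, rfl⟩
    have h0 : sl h z d = 0 := by
      have hr2 : Rad h g₂ z := ⟨hg₂fix, fun x y hy => ⟨h y w • S x, by rw [hgy x y hy, add_sub_cancel_left, tmul_smul_left]⟩⟩
      rw [hd, map_sub, hr2.sl_eq hS.toPr hg₂i, sub_self]
    have h1 := hg₂i (tmul x u) (tmul x' y)
    rw [show (g₂ : Mn) *ᵥ tmul x u = tmul x u + d by rw [hd, add_sub_cancel], hgy x' y hy, hS.hV.add_left,
      hS.hV.add_right, hS.hV.add_right, ← tmul_smul_left, hS.ten, hS.ten, hu, hS.f_sl d (h y w • S x') z, h0,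
      hS.hA.zero_left, hS.hA.smul_right, RingEquiv.refl_apply] at h1
    rw [← hd, hS.hV.add_left, hS.ten, hh.skew y w, hSskew]
    linear_combination h1
  have hg₂x : ∀ t, (g₂ : Mn) *ᵥ t = t + (PM h z w S + rM h z D) t := by
    refine fun t => (Matrix.toLin'_apply _ _).symm.trans (LinearMap.congr_fun (f := Matrix.toLin' (g₂ : Mn))
      (g := LinearMap.id + (PM h z w S + rM h z D)) (ext_frame hh hu (fun x => ?_) (fun x => ?_)
        fun x y hy _ => ?_) t) <;>
      simp only [Matrix.toLin'_apply, LinearMap.add_apply, LinearMap.id_apply, PM_tmul hh, rM_tmul hh]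
    · rw [hg₂fix, hh.self, hzw]; simp
    · rw [hu, huw, ← hD x]; simp
    · rw [hgy x y hy, hy]; simp
  -- removing the root part
  obtain ⟨τ, hτ, hτz, -, hτy⟩ := hh.exists_torus (z := z) (u := u) hu (neg_ne_zero.2 (one_ne_zero (α := F)))
  have hIn : In M (PM h z w S + rM h z D) := ⟨g₂, hg₂M, hg₂x⟩
  have hIn' : In M (-(PM h z w S) + rM h z D) := by
    convert hIn.conj (hS.kB hτ) using 1
    refine LinearMap.ext fun s => ?_
    rw [conjL_apply, PM, LinearMap.add_apply, LinearMap.add_apply, LinearMap.sub_apply, Matrix.mulVec_add,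
      Matrix.mulVec_sub, rM, ← conjL_apply, ← conjL_apply, ← conjL_apply,
      conjL_root2 hh 1 one_ne_zero (fun y y' => by rw [hτ, one_mul]),
      conjL_root2 hh 1 one_ne_zero (fun y y' => by rw [hτ, one_mul]),
      conjL_root2 hh 1 one_ne_zero (fun y y' => by rw [hτ, one_mul])]
    simp only [hτz, hτy w hwz hwu, inv_one, Units.val_one, Matrix.toLin'_one, LinearMap.comp_id, LinearMap.id_comp,
      one_smul, rootMap_apply, hh.fn_smul', slice_smul, map_smul, tmul_smul_left, tmul_smul_right,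
      LinearMap.neg_apply, LinearMap.sub_apply, smul_smul]
    module
  have hzero : ∀ t, ∀ L' : V →ₗ[F] V, (L' = PM h z w S + rM h z D ∨ L' = -(PM h z w S) + rM h z D) →
      (PM h z w S + rM h z D) (L' t) = 0 ∧ (-(PM h z w S) + rM h z D) (L' t) = 0 := fun t L' hL' => by
    rcases hL' with rfl | rfl <;>
    simp only [PM, rM, LinearMap.add_apply, LinearMap.sub_apply, LinearMap.neg_apply, map_sub, map_add, map_neg,
      root2_comp hh (hh.self z), root2_comp hh (hh.self w), root2_comp hh hzw, root2_comp hh hwz, sub_self,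
      add_zero, zero_add, neg_zero, and_self]
  have h2 := hIn.sub hIn' (fun t => (hzero t _ (Or.inr rfl)).1) fun t => (hzero t _ (Or.inr rfl)).2
  rw [show PM h z w S + rM h z D - (-(PM h z w S) + rM h z D) = PM h z w S + PM h z w S by abel] at h2
  have h22 : In M (PM h z w (S + S)) := by
    convert h2 using 1
    refine LinearMap.ext fun t => ?_
    simp only [PM, LinearMap.sub_apply, LinearMap.add_apply, rootMap_apply, tmul_add_left]
    abel
  have hS0 := hS.pm_zero hz hwi hzw h22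
  refine ⟨l / 2, fun x => ?_⟩
  have hx := LinearMap.congr_fun hS0 x
  simp only [LinearMap.add_apply, LinearMap.zero_apply, hSd, LinearMap.sub_apply, LinearMap.smul_apply,
    LinearMap.id_apply, ← hR] at hx
  rw [← two_smul F, smul_eq_zero] at hx
  rw [← hR]
  exact sub_eq_zero.1 (hx.resolve_left hS.h2)

/-- The middle of a twisted radical element is scalar. -/
theorem mid_scal_tw {g : GL (α × β) F} {z u : β → F} (hz : z ≠ 0) (hu : h u z = 1) (hg : Rad h g z)
    (hgT : Tw h f M g) {y : β → F} (hy : h y z = 0) : ∃ μ : F, ∀ x, mid h g u y x = μ • x := by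
  have hh := hS.hh
  have hzu : h z u = -1 := by rw [hh.skew u z, hu]
  suffices key : ∀ y, h y z = 0 → h y u = 0 → ∃ μ : F, ∀ x, mid h g u y x = μ • x by
    obtain ⟨μ, hμ⟩ := key (y - (-h y u) • z)
      (by rw [hh.toSesq.sub_left, hh.smul_left, hh.self, hy, mul_zero, sub_zero])
      (by rw [hh.toSesq.sub_left, hh.smul_left, hzu]; ring)
    exact ⟨μ, fun x => by rw [← hg.mid_sub_z hh hu y (-h y u)]; exact hμ x⟩
  intro y hy hyu
  obtain ⟨-, A, B, ν, hν, hB, hm⟩ := hgT
  obtain ⟨T, hT, hTz, hTu, hTy⟩ := hh.exists_torus (z := z) (u := u) hu (neg_ne_zero.2 (one_ne_zero (α := F)))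
  have hE : -T ∈ Iso h := fun a b => by
    rw [GL_neg_val, GL_neg_val, hh.neg_left, hh.neg_right, neg_neg, hT]
  obtain ⟨c, hc⟩ : ∃ c, c = k2 A B * (g * k2 1 (-T) * g⁻¹ * (k2 1 (-T))⁻¹) * (k2 A B)⁻¹ := ⟨_, rfl⟩
  have hcM : c ∈ M := hc ▸ hS.toPr.comm_mem hB hm hE
  obtain ⟨Ti, hTi⟩ : ∃ Ti : GL β F, Ti = (-T)⁻¹ := ⟨_, rfl⟩
  have hTiI : Ti ∈ Iso h := hTi ▸ inv_mem hE
  have hEz : ((-T : GL β F) : Mb) *ᵥ z = z := by rw [GL_neg_val, hTz, neg_one_smul, neg_neg]
  have hTiz : (Ti : Mb) *ᵥ z = z := gl_mulVec_injective (-T) (by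
    show ((-T : GL β F) : Mb) *ᵥ _ = ((-T : GL β F) : Mb) *ᵥ _
    rw [hTi, mulVec_inv_cancel, hEz])
  have hTiy : (Ti : Mb) *ᵥ y = -y := gl_mulVec_injective (-T) (by
    show ((-T : GL β F) : Mb) *ᵥ _ = ((-T : GL β F) : Mb) *ᵥ _
    rw [hTi, mulVec_inv_cancel, Matrix.mulVec_neg, GL_neg_val, hTy y hy hyu, neg_neg])
  have hgen : ∀ x w, h w z = 0 → (c : Mn) *ᵥ tmul ((A : Ma) *ᵥ x) ((B : Mb) *ᵥ w) =
      tmul ((A : Ma) *ᵥ x) ((B : Mb) *ᵥ w) +
        tmul ((A : Ma) *ᵥ (mid h g u w x - mid h g u ((Ti : Mb) *ᵥ w) x)) ((B : Mb) *ᵥ z) := fun x w hw => by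
    have hw' : h ((Ti : Mb) *ᵥ w) z = 0 := by rw [← hTiz, hTiI, hw]
    have e1 : ∀ a v, (((k2 A B)⁻¹ : GL (α × β) F) : Mn) *ᵥ tmul ((A : Ma) *ᵥ a) ((B : Mb) *ᵥ v) = tmul a v := by
      intro a v
      exact gl_mulVec_injective (k2 A B) (by
        show (k2 A B : Mn) *ᵥ _ = (k2 A B : Mn) *ᵥ _
        rw [mulVec_inv_cancel, k2_mulVec])
    rw [hc]
    simp only [Units.val_mul, ← Matrix.mulVec_mulVec]
    rw [e1, hS.toPr.inner_inv, ← hTi, hg.inv_eq hh hu x hw', Matrix.mulVec_sub, hS.toPr.inner_apply,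
      hS.toPr.inner_apply, hEz, show ((-T : GL β F) : Mb) *ᵥ ((Ti : Mb) *ᵥ w) = w by rw [hTi, mulVec_inv_cancel],
      Matrix.mulVec_sub, hg.eq hh hu x hw, hg.fix, Matrix.mulVec_sub, Matrix.mulVec_add, k2_mulVec, k2_mulVec,
      k2_mulVec, Matrix.mulVec_sub, tmul_sub_left]
    abel
  have hBz0 : (B : Mb) *ᵥ z ≠ 0 := fun e => hz (gl_mulVec_injective B (by
    show (B : Mb) *ᵥ z = (B : Mb) *ᵥ 0
    rw [e, Matrix.mulVec_zero]))
  have hA : ∀ x, ∃ a, x = (A : Ma) *ᵥ a := fun x => ⟨_, (mulVec_inv_cancel A x).symm⟩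
  have hBw : ∀ w, ∃ v, w = (B : Mb) *ᵥ v := fun w => ⟨_, (mulVec_inv_cancel B w).symm⟩
  have hcrad : Rad h c ((B : Mb) *ᵥ z) := ⟨fun x => by
    obtain ⟨a, rfl⟩ := hA x
    rw [hgen a z (hh.self z), hTiz, sub_self, Matrix.mulVec_zero, tmul_zero_left, add_zero], fun x w hw => by
    obtain ⟨a, rfl⟩ := hA x
    obtain ⟨v, rfl⟩ := hBw w
    rw [hB, mul_eq_zero] at hw
    exact ⟨_, by rw [hgen a v (hw.resolve_left hν), add_sub_cancel_left]⟩⟩
  have hu' : h (ν⁻¹ • (B : Mb) *ᵥ u) ((B : Mb) *ᵥ z) = 1 := by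
    rw [hh.smul_left, hB, hu, mul_one, inv_mul_cancel₀ hν]
  obtain ⟨μ, hμ⟩ := hS.mid_scal hBz0 hu' hcrad hcM (y := (B : Mb) *ᵥ y) (by rw [hB, hy, mul_zero])
  refine ⟨μ / 2, fun x => gl_mulVec_injective A ?_⟩
  show (A : Ma) *ᵥ _ = (A : Ma) *ᵥ _
  have h1 := hμ ((A : Ma) *ᵥ x)
  have hneg : mid h g u (-y) x = -mid h g u y x := by
    have e : -y = y - (2 : F) • y := by module
    rw [e, mid_sub_smul, LinearMap.sub_apply, LinearMap.smul_apply]
    module
  rw [mid_of_eq hh hu' (hgen x y hy), hTiy, hneg, sub_neg_eq_add, ← two_smul F, Matrix.mulVec_smul] at h1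
  rw [Matrix.mulVec_smul, div_eq_inv_mul, mul_smul, ← h1, smul_smul, inv_mul_cancel₀ hS.h2, one_smul]

/-- A twisted root element has a scalar coefficient. -/
theorem scal2 {g : GL (α × β) F} {z u : β → F} (hz : z ≠ 0) (hu : h u z = 1) {D : Ea}
    (hg : ∀ t, (g : Mn) *ᵥ t = t + rM h z D t) (hgT : Tw h f M g) : ∃ μ : F, ∀ x, D x = μ • x := by
  have hh := hS.hh
  obtain ⟨-, A, B, ν, hν, hB, hm⟩ := hgT
  obtain ⟨D', hD'⟩ : ∃ D' : Ea, D' = ν⁻¹ • (Matrix.toLin' (A : Ma)).comp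
      (D.comp (Matrix.toLin' ((A⁻¹ : GL α F) : Ma))) := ⟨_, rfl⟩
  -- commutators with inner elements
  have hroot : ∀ E : GL β F, E ∈ Iso h → h z ((E : Mb) *ᵥ z) = 0 →
      In M (rM h ((B : Mb) *ᵥ z) D' - rM h ((B : Mb) *ᵥ ((E : Mb) *ᵥ z)) D') := by
    intro E hE hzE
    have hg' : In (⊤ : Subgroup (GL (α × β) F)) (rM h z D) := ⟨g, Subgroup.mem_top _, hg⟩
    refine ⟨_, hS.toPr.comm_mem hB hm hE, fun t => ?_⟩
    have hconj : ∀ (Z : GL (α × β) F) (L : V →ₗ[F] V), (∀ t, (Z : Mn) *ᵥ t = t + L t) → ∀ (G : GL (α × β) F) t,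
        ((G * Z * G⁻¹ : GL (α × β) F) : Mn) *ᵥ t = t + conjL G L t := fun Z L hZ G t => by
      rw [Units.val_mul, Units.val_mul, ← Matrix.mulVec_mulVec, ← Matrix.mulVec_mulVec, hZ, Matrix.mulVec_add,
        mulVec_inv_cancel, conjL_apply]
    have hcore : ∀ t, ((g * k2 1 E * g⁻¹ * (k2 1 E)⁻¹ : GL (α × β) F) : Mn) *ᵥ t =
        t + (rM h z D - rM h ((E : Mb) *ᵥ z) D) t := fun t => by
      have hinv : ∀ t, ((g⁻¹ : GL (α × β) F) : Mn) *ᵥ t = t + (-rM h z D) t := fun t => gl_mulVec_injective g (by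
        show (g : Mn) *ᵥ _ = (g : Mn) *ᵥ _
        rw [mulVec_inv_cancel, hg, LinearMap.neg_apply, map_add, map_neg, rM_sq hh]
        abel)
      rw [show g * k2 1 E * g⁻¹ * (k2 1 E)⁻¹ = g * (k2 1 E * g⁻¹ * (k2 1 E)⁻¹) by group, Units.val_mul,
        ← Matrix.mulVec_mulVec, hconj _ _ hinv, hg, rM, conjL_apply, LinearMap.neg_apply, Matrix.mulVec_neg,
        ← conjL_apply, conjL_root2 hh 1 one_ne_zero (fun y y' => by rw [hE, one_mul]), map_add, map_neg,
        root2_comp hh (hh.toSesq.refl _ _ hzE)]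
      simp only [inv_one, Units.val_one, Matrix.toLin'_one, LinearMap.comp_id, LinearMap.id_comp, one_smul,
        LinearMap.sub_apply, rM]
      abel
    rw [hconj _ _ hcore, conjL_apply, LinearMap.sub_apply, Matrix.mulVec_sub, ← conjL_apply, ← conjL_apply, rM, rM,
      conjL_root2 hh A hν hB, conjL_root2 hh A hν hB, ← hD', LinearMap.sub_apply, rM, rM]
  have hBz : ∀ {v : β → F}, v ≠ 0 → (B : Mb) *ᵥ v ≠ 0 := fun {v} hv e => hv (gl_mulVec_injective B (by
    show (B : Mb) *ᵥ v = (B : Mb) *ᵥ 0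
    rw [e, Matrix.mulVec_zero]))
  suffices h' : ∃ μ, ∀ x, D' x = μ • x by
    obtain ⟨μ, hμ⟩ := h'
    refine ⟨ν * μ, fun x => gl_mulVec_injective A ?_⟩
    show (A : Ma) *ᵥ _ = (A : Ma) *ᵥ _
    have h1 := hμ ((A : Ma) *ᵥ x)
    rw [hD', LinearMap.smul_apply, LinearMap.comp_apply, LinearMap.comp_apply, Matrix.toLin'_apply,
      Matrix.toLin'_apply, inv_mulVec_cancel] at h1
    rw [Matrix.mulVec_smul, mul_smul, ← h1, smul_smul, mul_inv_cancel₀ hν, one_smul]
  rcases hS.hk with h4 | ⟨a, ha, ha'⟩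
  · obtain ⟨φ, hφ, hφz, hφu⟩ := exists_perp2 (show 3 ≤ Fintype.card β by omega) z u
    obtain ⟨b, rfl⟩ := fn_surjective hh.toSesq φ
    rw [fn_dot hh.toSesq] at hφz hφu
    have hb : b ≠ 0 := fun e => hφ (by rw [e, fn_zero hh.toSesq])
    have hbz : h b z = 0 := hh.toSesq.refl _ _ hφz
    have hne : ∀ r : F, z + r • b ≠ 0 := fun r e => by
      have := congrArg (h u) e
      rw [hh.add_right, hh.smul_r, hφu, hu, mul_zero, add_zero, hh.toSesq.zero_right] at this
      exact one_ne_zero this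
    have hE : ∀ r : F, In M (rM h ((B : Mb) *ᵥ z) D' - rM h ((B : Mb) *ᵥ (z + r • b)) D') := fun r => by
      obtain ⟨E, hE, hEz⟩ := hh.exists_move hz (hne r)
      have := hroot E hE (by rw [hEz, hh.add_right, hh.smul_r, hh.self, hφz, mul_zero, add_zero])
      rwa [hEz] at this
    obtain ⟨zz, hzz⟩ : ∃ zz, zz = (B : Mb) *ᵥ z := ⟨_, rfl⟩
    obtain ⟨bb, hbb⟩ : ∃ bb, bb = (B : Mb) *ᵥ b := ⟨_, rfl⟩
    have hzb : h zz bb = 0 := by rw [hzz, hbb, hB, hφz, mul_zero]
    have hbz' : h bb zz = 0 := by rw [hzz, hbb, hB, hbz, mul_zero]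
    have e : ∀ r : F, (B : Mb) *ᵥ (z + r • b) = zz + r • bb := fun r => by
      rw [hzz, hbb, Matrix.mulVec_add, Matrix.mulVec_smul]
    have h2 := (hE 1).add (hE (-1)) fun t => by
      simp only [e, ← hzz, rM, LinearMap.sub_apply, map_sub]
      have k : ∀ a b : F, h (zz + a • bb) (zz + b • bb) = 0 ∧ h (zz + a • bb) zz = 0 ∧ h zz (zz + b • bb) = 0 :=
        fun a b => by
          simp [hh.add_left, hh.add_right, hh.smul_left, hh.smul_r, hh.self, hzb, hbz']
      rw [root2_comp hh (hh.self zz), root2_comp hh (k _ _).1, root2_comp hh (k _ 0).2.1,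
        root2_comp hh (k 0 _).2.2]
      simp
    have h3 : In M (rM h bb ((-2 : F) • D')) := by
      convert h2 using 1
      refine LinearMap.ext fun t => ?_
      rw [e, e]
      simp only [← hzz, rM, LinearMap.sub_apply, LinearMap.add_apply, rootMap_apply, hh.fn_smul', fn_add hh.toSesq,
        slice_add, slice_smul, map_add, map_smul, LinearMap.smul_apply, tmul_add_left, tmul_add_right, tmul_smul_left,
        tmul_smul_right, smul_smul, one_smul]
      module
    obtain ⟨μ, hμ⟩ := hS.scal _ (hS.toPr.uc_of (hbb ▸ hBz hb) h3)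
    refine ⟨(-2 : F)⁻¹ * μ, fun x => ?_⟩
    rw [mul_smul, ← hμ x, LinearMap.smul_apply, smul_smul, inv_mul_cancel₀ (neg_ne_zero.2 hS.h2), one_smul]
  · obtain ⟨E, hE, hEz, -, -⟩ := hh.exists_torus hu ha
    have h1 := hroot E hE (by rw [hEz, hh.smul_r, hh.self, mul_zero])
    have h3 : In M (rM h ((B : Mb) *ᵥ z) ((1 - a * a) • D')) := by
      convert h1 using 1
      refine LinearMap.ext fun t => ?_
      rw [hEz, Matrix.mulVec_smul]
      simp only [rM, LinearMap.sub_apply, rootMap_apply, hh.fn_smul', slice_smul, map_smul, LinearMap.smul_apply,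
        tmul_smul_left, tmul_smul_right, smul_smul]
      module
    obtain ⟨μ, hμ⟩ := hS.scal _ (hS.toPr.uc_of (hBz hz) h3)
    refine ⟨(1 - a * a)⁻¹ * μ, fun x => ?_⟩
    rw [mul_smul, ← hμ x, LinearMap.smul_apply, smul_smul, inv_mul_cancel₀ (sub_ne_zero.2 (Ne.symm ha')), one_smul]

theorem tw_mul_right {g k : GL (α × β) F} (hg : Tw h f M g) (hk : k ∈ M) : Tw h f M (g * k) := by
  obtain ⟨hi, A, B, ν, hν, hB, hm⟩ := hg
  exact ⟨fun s t => by rw [Units.val_mul, ← Matrix.mulVec_mulVec, ← Matrix.mulVec_mulVec, hi, hS.iso hk],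
    A, B, ν, hν, hB, by rw [← mul_assoc]; exact mul_mem hm hk⟩

/-- Radical elements act on the second factor. -/
theorem rad_kron {g : GL (α × β) F} {z : β → F} (hz : z ≠ 0) (hg : Rad h g z) (hgT : Tw h f M g) :
    ∃ B : GL β F, g = k2 1 B := by
  classical
  have hh := hS.hh
  obtain ⟨u, hu, hzu⟩ := hh.partner hz
  obtain ⟨i⟩ : Nonempty α := Fintype.card_pos_iff.1 (by have := hS.ha; omega)
  obtain ⟨x₀, hx₀⟩ : ∃ x₀ : α → F, x₀ ≠ 0 := ⟨Pi.single i 1, by simp⟩
  obtain ⟨ξ, hξ⟩ := TensorMax.exists_dual hx₀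
  let L : (β → F) →ₗ[F] F :=
    { toFun := fun y => ξ ⬝ᵥ mid h g u y x₀
      map_add' := fun a b => by
        simp only [mid_apply, tmul_add_right, Matrix.mulVec_add, map_sub, map_add, dotProduct_neg,
          dotProduct_sub, dotProduct_add]
        ring
      map_smul' := fun c a => by
        simp only [mid_apply, tmul_smul_right, Matrix.mulVec_smul, map_sub, map_smul, dotProduct_neg,
          dotProduct_sub, dotProduct_smul, smul_eq_mul, RingHom.id_apply]
        ring }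
  obtain ⟨y₀, hy₀⟩ := fn_surjective hh.toSesq (fun j => L (Pi.single j 1))
  have hL : ∀ y, L y = h y y₀ := fun y => by
    rw [← fn_dot hh.toSesq, hy₀]
    conv_lhs => rw [← Finset.univ_sum_single y, map_sum]
    refine Finset.sum_congr rfl fun j _ => ?_
    rw [show (Pi.single j (y j) : β → F) = y j • Pi.single j 1 by rw [← Pi.single_smul, smul_eq_mul, mul_one],
      map_smul, smul_eq_mul, mul_comm]
  have hzy₀ : h z y₀ = 0 := by
    rw [← hL]
    show ξ ⬝ᵥ mid h g u z x₀ = 0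
    rw [hg.mid_z hh hu, dotProduct_zero]
  obtain ⟨E, hE, hEx⟩ := hh.exists_eich (v := z) (a := -y₀) (by rw [hh.neg_right, hzy₀, neg_zero])
  obtain ⟨g', hg'⟩ : ∃ g', g' = g * k2 1 E := ⟨_, rfl⟩
  have hg'T : Tw h f M g' := hg' ▸ hS.tw_mul_right hgT (hS.kB hE)
  have hfix : ∀ x y, h y z = 0 → (g' : Mn) *ᵥ tmul x y = tmul x y := fun x y hy => by
    obtain ⟨μ, hμ⟩ := hS.mid_scal_tw hz hu hg hgT hy
    have hμy : μ = h y y₀ := by
      rw [← hL]
      show μ = ξ ⬝ᵥ mid h g u y x₀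
      rw [hμ, dotProduct_smul, hξ, smul_eq_mul, mul_one]
    rw [hg', Units.val_mul, ← Matrix.mulVec_mulVec, hS.toPr.inner_apply, hEx, hy, zero_smul, add_zero,
      tmul_add_right, tmul_smul_right, Matrix.mulVec_add, Matrix.mulVec_smul, hg.fix, hg.eq hh hu x hy, hμ, hμy,
      hh.neg_right, tmul_smul_left]
    module
  have hg'r : Rad h g' z := ⟨fun x => hfix x z (hh.self z), fun x y hy => ⟨0, by
    rw [hfix x y hy, sub_self, tmul_zero_left]⟩⟩
  obtain ⟨D, hD⟩ : ∃ D : Ea, ∀ x, (g' : Mn) *ᵥ tmul x u - tmul x u = tmul (D x) z := by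
    refine ⟨mid h g' u u, fun x => ?_⟩
    rw [mid_apply]
    refine hS.toPr.eq_tmul hu fun x' y hy => ?_
    rw [hS.hV.sub_left]
    conv_lhs => arg 1; rw [← hfix x' y hy]
    rw [hg'T.1, sub_self]
  have hg'x : ∀ t, (g' : Mn) *ᵥ t = t + rM h z D t := by
    refine fun t => (Matrix.toLin'_apply _ _).symm.trans (LinearMap.congr_fun (f := Matrix.toLin' (g' : Mn))
      (g := LinearMap.id + rM h z D) (ext_frame hh hu (fun x => ?_) (fun x => ?_) fun x y hy _ => ?_) t) <;>
      simp only [Matrix.toLin'_apply, LinearMap.add_apply, LinearMap.id_apply, rM_tmul hh]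
    · rw [hg'r.fix, hh.self, zero_smul, add_zero]
    · rw [hu, one_smul, ← hD, add_sub_cancel]
    · rw [hfix x y hy, hy, zero_smul, add_zero]
  obtain ⟨μ, hμ⟩ := hS.scal2 hz hu hg'x hg'T
  obtain ⟨B, -, -, -, hBx⟩ := hh.exists_tv z μ
  have hg'k : g' = k2 1 B := by
    refine Units.ext (Matrix.ext_iff_mulVec.2 fun t => ?_)
    refine LinearMap.congr_fun (f := Matrix.toLin' (g' : Mn)) (g := Matrix.toLin' (k2 (1 : GL α F) B : Mn))
      (ext_tmul fun x y => ?_) t
    rw [Matrix.toLin'_apply, Matrix.toLin'_apply, hg'x, rM_tmul hh, hS.toPr.inner_apply, hBx, hμ, tmul_add_right,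
      tmul_smul_right, tmul_smul_left, smul_smul, mul_comm μ]
  refine ⟨B * E⁻¹, eq_mul_inv_of_mul_eq (hg' ▸ hg'k) |>.trans ?_⟩
  rw [mul_inv_eq_iff_eq_mul, k2_mul, inv_mul_cancel_right, one_mul]

end SC

end Cfsg.Agent.Classical.TensorSymp
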