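import Cfsg.Agent.Lib.Classical.TensorPowSymp.Climb
import Cfsg.Agent.Lib.Classical.TensorPowSymp.FullOdd

/-!
Odd characteristic: a root element with a non-scalar coefficient gives the derived group of the isometries.
-/

set_option autoImplicit false
set_option linter.unusedSectionVars false
set_option linter.unusedSimpArgs false
set_option linter.style.haveILetI false

open scoped Kronecker commutatorElement

namespace Cfsg.Agent.Classical.TensorSymp

open Matrix Module MaxTv TensorMax TensorPow Overfield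

variable {F : Type*} [Field F] [Fintype F] {κ β : Type} [Fintype κ] [DecidableEq κ] [Fintype β] [DecidableEq β]

local notation "X" => (κ → β)
local notation "V" => ((κ → β) → F)
local notation "Mn" => Matrix (κ → β) (κ → β) F
local notation "Mb" => Matrix β β F

/-- An overgroup of the stabiliser in odd characteristic. -/
structure OCx (c : F) (h : (β → F) → (β → F) → F) (M : Subgroup (GL (κ → β) F)) : Prop extends Cx c h M where
  h2 : (2 : F) ≠ 0
  hk : (Fintype.card β = 2 ∧ 3 ≤ Fintype.card κ) ∨ 4 ≤ Fintype.card β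

/-- Three non-zero functionals have a common non-zero. -/
theorem exists_avoid3 (hq : (2 : F) ≠ 0) {W : Type*} [AddCommGroup W] [Module F W] (a b d : W →ₗ[F] F)
    (ha : a ≠ 0) (hb : b ≠ 0) (hd : d ≠ 0) : ∃ y, a y ≠ 0 ∧ b y ≠ 0 ∧ d y ≠ 0 := by
  have ex : ∀ e : W →ₗ[F] F, e ≠ 0 → ∃ y, e y ≠ 0 := fun e he => by
    by_contra hc
    push Not at hc
    exact he (LinearMap.ext hc)
  obtain ⟨x, hxa, hxb⟩ : ∃ x, a x ≠ 0 ∧ b x ≠ 0 := by
    obtain ⟨p, hp⟩ := ex a ha
    obtain ⟨r, hr⟩ := ex b hb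
    by_cases h1 : b p = 0
    · by_cases h2 : a r = 0
      · exact ⟨p + r, by rw [map_add, h2, add_zero]; exact hp, by rw [map_add, h1, zero_add]; exact hr⟩
      · exact ⟨r, h2, hr⟩
    · exact ⟨p, hp, h1⟩
  by_cases hxd : d x = 0
  swap
  · exact ⟨x, hxa, hxb, hxd⟩
  obtain ⟨y, hy⟩ := ex d hd
  by_cases hy' : a y ≠ 0 ∧ b y ≠ 0
  · exact ⟨y, hy'.1, hy'.2, hy⟩
  have hd' : ∀ t : F, t ≠ 0 → d (x + t • y) ≠ 0 := fun t ht => by
    rw [map_add, hxd, zero_add, map_smul, smul_eq_mul]
    exact mul_ne_zero ht hy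
  have key : ∀ a b : W →ₗ[F] F, a x ≠ 0 → b x ≠ 0 → a y = 0 → ∃ t : F, t ≠ 0 ∧ a (x + t • y) ≠ 0 ∧ b (x + t • y) ≠ 0 := by
    intro a b hax hbx hay
    by_cases h1 : b x + b y = 0
    · refine ⟨-1, neg_ne_zero.2 one_ne_zero, by simp [hay, hax], ?_⟩
      rw [map_add, map_smul, smul_eq_mul, eq_neg_of_add_eq_zero_right h1]
      intro e
      exact mul_ne_zero hq hbx (by linear_combination e)
    · exact ⟨1, one_ne_zero, by simp [hay, hax], by simpa using h1⟩
  rw [not_and_or] at hy'
  rcases hy' with h1 | h1 <;> push Not at h1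
  · obtain ⟨t, ht, e1, e2⟩ := key a b hxa hxb h1
    exact ⟨_, e1, e2, hd' t ht⟩
  · obtain ⟨t, ht, e1, e2⟩ := key b a hxb hxa h1
    exact ⟨_, e2, e1, hd' t ht⟩

theorem swap_cyc {α : Type} [DecidableEq α] {a b d : α} (hab : a ≠ b) (hbd : b ≠ d) (hda : d ≠ a) :
    Equiv.swap a b * Equiv.swap b d =
      (Equiv.swap b d)⁻¹ * (Equiv.swap a b)⁻¹ * Equiv.swap b d * Equiv.swap a b := by
  rw [Equiv.swap_inv, Equiv.swap_inv]
  conv_rhs => rw [show Equiv.swap b d * Equiv.swap a b * Equiv.swap b d = Equiv.swap a d by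
    conv_lhs => arg 2; rw [← Equiv.swap_inv]
    rw [← Equiv.swap_apply_apply, Equiv.swap_apply_left, Equiv.swap_apply_of_ne_of_ne hab hda.symm]]
  rw [← mul_left_inj (Equiv.swap a b), mul_assoc (Equiv.swap a d), Equiv.swap_mul_self, mul_one]
  conv_lhs => arg 2; rw [← Equiv.swap_inv]
  rw [← Equiv.swap_apply_apply, Equiv.swap_apply_right, Equiv.swap_apply_of_ne_of_ne hda hbd.symm]

theorem swap_two {α : Type} [DecidableEq α] {a b d e : α} (hab : a ≠ b) (hde : d ≠ e) (had : a ≠ d) (hae : a ≠ e)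
    (hbd : b ≠ d) (hbe : b ≠ e) : Equiv.swap a b * Equiv.swap d e =
      (Equiv.swap a d * Equiv.swap b e)⁻¹ * (Equiv.swap d e)⁻¹ * (Equiv.swap a d * Equiv.swap b e) *
        Equiv.swap d e := by
  rw [Equiv.swap_inv d e]
  obtain ⟨π, hπ⟩ : ∃ π, π = (Equiv.swap a d * Equiv.swap b e)⁻¹ := ⟨_, rfl⟩
  have hp : π d = a ∧ π e = b := by
    have e1 : Equiv.swap a d d = a := Equiv.swap_apply_right a d
    have e2 : Equiv.swap b e a = a := Equiv.swap_apply_of_ne_of_ne hab hae
    have e3 : Equiv.swap a d e = e := Equiv.swap_apply_of_ne_of_ne hae.symm hde.symm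
    simp [hπ, Equiv.swap_inv, e1, e2, e3]
  rw [show Equiv.swap a d * Equiv.swap b e = π⁻¹ by rw [hπ, inv_inv], inv_inv, ← Equiv.swap_apply_apply, hp.1, hp.2]

theorem vL_card_two {h : (β → F) → (β → F) → F} (hh : Symp h) (hk2 : Fintype.card β = 2) (a b : β → F) :
    vL h a b = h a b • (1 : Mb) := by
  refine Matrix.ext_iff_mulVec.2 fun x => ?_
  rw [vL_mulVec hh, Matrix.smul_mulVec, Matrix.one_mulVec]
  by_cases hab : h a b = 0
  · rw [hab, zero_smul]
    rcases eq_or_ne a 0 with rfl | ha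
    · simp [hh.toSesq.zero_right]
    obtain ⟨r, rfl⟩ : ∃ r : F, b = r • a := by
      by_contra hc
      push Not at hc
      have := three_le_of_pair hh ha hc hab
      omega
    rw [hh.smul_r, smul_smul, mul_comm r, sub_self]
  · by_contra hne
    obtain ⟨y, hy⟩ : ∃ y, y = h x b • a - h x a • b - h a b • x := ⟨_, rfl⟩
    have hy0 : y ≠ 0 := fun e => hne (sub_eq_zero.1 (hy ▸ e))
    have e1 : h y a = 0 := by
      rw [hy, hh.toSesq.sub_left, hh.toSesq.sub_left, hh.smul_left, hh.smul_left, hh.smul_left, hh.self,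
        hh.skew a b]
      ring
    have e2 : h y b = 0 := by
      rw [hy, hh.toSesq.sub_left, hh.toSesq.sub_left, hh.smul_left, hh.smul_left, hh.smul_left, hh.self]
      ring
    have := three_le_of_pair hh hy0 (fun r er => hab (by rw [er, hh.smul_left, e2, mul_zero])) e1
    omega

variable {c : F} {h : (β → F) → (β → F) → F}

theorem SData.symp_tf (hT : SData c h) (h2 : (2 : F) ≠ 0) (ho : Odd (Fintype.card κ)) :
    Symp (tf (κ := κ) c h) :=
  ⟨hT.sesq, fun v => by
    have h1 := hT.tf_symm v v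
    rw [ho.neg_one_pow] at h1
    exact (mul_eq_zero.1 (show (2 : F) * tf c h v v = 0 by linear_combination h1)).resolve_left h2⟩

/-- An odd number of factors: the derived group is the whole isometry group. -/
theorem SData.Iso_le_GT (hT : SData c h) (h2 : (2 : F) ≠ 0) (ho : Odd (Fintype.card κ))
    (hc5 : 5 ≤ Fintype.card (κ → β)) : Iso (tf (κ := κ) c h) ≤ GT c h := by
  have hle : Iso (tf (κ := κ) c h) ≤ KT c h := fun g hg => ⟨hg, fun e => absurd e h2⟩
  exact ((hT.symp_tf h2 ho).perfect (Or.inl hc5)).trans (Subgroup.commutator_mono hle hle)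

variable {M : Subgroup (GL (κ → β) F)}

namespace OCx

variable (hM : OCx c h M)
include hM

theorem five : 7 ≤ Fintype.card (κ → β) := by
  rw [Fintype.card_fun]
  rcases hM.hk with ⟨h, h'⟩ | h
  · rw [h]
    calc 7 ≤ 2 ^ 3 := by norm_num
      _ ≤ 2 ^ Fintype.card κ := Nat.pow_le_pow_right (by norm_num) h'
  · calc 7 ≤ 4 ^ 2 := by norm_num
      _ ≤ Fintype.card β ^ 2 := Nat.pow_le_pow_left h 2
      _ ≤ Fintype.card β ^ Fintype.card κ := Nat.pow_le_pow_right (by omega) hM.ht

/-- Permutations of the other factors. -/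
theorem rperm_mem {i : κ} (ρ : Equiv.Perm (Rst i))
    (hρ : wgl (Equiv.Perm.ofSubtype ρ) (1 : κ → GL β F) ∈ M) :
    k2 (wgl ρ (1 : Rst i → GL β F)) (1 : GL β F) ∈ Mi M i := by
  have hi : Equiv.Perm.ofSubtype ρ i = i := Equiv.Perm.ofSubtype_apply_of_not_mem ρ (by simp)
  have h1 := (mem_Mi (i := i)).2 hρ
  rw [sp_wgl _ hi] at h1
  convert h1 using 4
  · exact Equiv.ext fun j => Subtype.ext (Equiv.Perm.ofSubtype_apply_coe ρ j).symm
  all_goals rfl

theorem salg (i : κ) :
    SAlg c h fun R : Matrix (Rst i → β) (Rst i → β) F => UC h (Mi M i) (Matrix.toLin' R) := by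
  have hpr := hM.toCx.pr i
  have perm : ∀ (ρ : Equiv.Perm (Rst i)), wgl (Equiv.Perm.ofSubtype ρ) (1 : κ → GL β F) ∈ M →
      ∀ {gs : Rst i → Mb}, UC h (Mi M i) (Matrix.toLin' (wm 1 gs)) →
        UC h (Mi M i) (Matrix.toLin' (wm 1 (gs ∘ ρ))) := by
    intro ρ hρ gs hgs
    have h1 := hpr.uc_conj (hM.rperm_mem ρ hρ) hgs
    rw [← Matrix.toLin'_mul, ← Matrix.toLin'_mul, ← mul_assoc, wgl_inv, wgl_val, wgl_val, wm_mul, wm_mul, one_mul,
      inv_mul_cancel] at h1
    convert h1 using 4
    funext l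
    simp
  have comm : ∀ σ τ : Equiv.Perm (Rst i), wgl (Equiv.Perm.ofSubtype (τ⁻¹ * σ⁻¹ * τ * σ)) (1 : κ → GL β F) ∈ M :=
    fun σ τ => by
      rw [map_mul, map_mul, map_mul, map_inv, map_inv]
      exact hM.toCx.perm_mem _ _
  refine ⟨hM.data, hM.h2, ?_, fun hR hS => by rw [map_add]; exact hpr.uc_add hR hS,
    fun r hR => by rw [map_smul]; exact hpr.uc_smul hR r, fun {R} j E hE hR => ?_, fun {R S} hRR hR hS => ?_,
    fun hR x y => hpr.uc_adj hR x y, fun {gs a b d} hab hbd hda hg => ?_,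
    fun {gs a b d e} hab hde had hae hbd hbe hg => ?_, fun {gs} a b h2' hg => ?_⟩
  · rcases hM.hk with h | h
    exacts [Or.inl h.1, Or.inr h]
  · have h1 := hpr.uc_conj (hM.toCx.kA_mem j hE) hR
    rw [← map_inv (TensorPow.pe j) E, ← et_val, ← et_val] at h1
    rw [Matrix.toLin'_mul, Matrix.toLin'_mul, LinearMap.comp_assoc]
    exact h1
  · rw [map_add, Matrix.toLin'_mul, Matrix.toLin'_mul]
    refine hpr.uc_anti hM.h2 hR (fun x => ?_) hS
    rw [← LinearMap.comp_apply, ← Matrix.toLin'_mul, hRR, map_zero, LinearMap.zero_apply]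
  · refine perm _ ?_ hg
    rw [swap_cyc hab hbd hda]
    exact comm _ _
  · refine perm _ ?_ hg
    rw [swap_two hab hde had hae hbd hbe]
    exact comm _ _
  · refine perm _ ?_ hg
    haveI : Nonempty κ := ⟨i⟩
    have h3 : Fintype.card κ = 3 := by rw [← card_rst_one i, h2']
    refine hM.mem ⟨wgl_mem _ _, hM.data.Iso_le_GT hM.h2 (by rw [h3]; decide) (by have := hM.five; omega) ?_⟩
    exact (hM.data.perm_KT _).1

/-- A root element with coefficient a product, on pure tensors. -/
theorem uc_wm {i : κ} {r : F} {gs : Rst i → Mb} (hgs : UC h (Mi M i) (r • Matrix.toLin' (wm 1 gs))) (z : β → F) :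
    ∃ g ∈ M, ∀ w : κ → β → F, (g : Mn) *ᵥ ptens w =
      ptens w + r • ptens (fun l => if hl : l = i then h (w l) z • z else gs ⟨l, hl⟩ *ᵥ w l) := by
  obtain ⟨_, ⟨g, hg, rfl⟩, hgx⟩ := hgs z
  refine ⟨g, hg, fun w => (spV i).injective ?_⟩
  rw [← sp_mulVec, map_add, map_smul, spV_ptens, spV_ptens]
  refine (hgx _).trans ?_
  congr 1
  rw [rM_tmul hM.data.hh, LinearMap.smul_apply, Matrix.toLin'_apply, wm_mulVec, tmul_smul_left, dif_pos rfl,
    tmul_smul_right, smul_comm]
  congr 4
  funext j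
  rw [dif_neg j.2]
  rfl

/-- Transvections at all pure tensors give all isometries. -/
theorem le_of_pure_tv (ho : Odd (Fintype.card κ))
    (hp : ∀ (xs : κ → β → F) (s : F), ∃ g ∈ M, ∀ x, (g : Mn) *ᵥ x = x + (s * tf c h x (ptens xs)) • ptens xs) :
    Iso (tf c h) ≤ M := by
  classical
  have hS := hM.data.symp_tf hM.h2 ho
  obtain ⟨T, hTd⟩ : ∃ T : V → Prop, ∀ v, T v ↔ ∀ s : F, ∃ g ∈ M, ∀ x, (g : Mn) *ᵥ x = x + (s * tf c h x v) • v :=
    ⟨_, fun _ => Iff.rfl⟩
  have hT0 : T 0 := (hTd 0).2 fun s => ⟨1, one_mem _, fun x => by simp⟩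
  have hTs : ∀ {v} (r : F), T v → T (r • v) := fun {v} r hv => (hTd _).2 fun s => by
    obtain ⟨g, hg, hgx⟩ := (hTd v).1 hv (s * r * r)
    refine ⟨g, hg, fun x => ?_⟩
    rw [hgx, hS.smul_r, smul_smul]
    congr 2
    ring
  have hTa : ∀ {v w}, T v → T w → tf c h w v ≠ 0 → ∀ r : F, T (w + r • v) := fun {v w} hv hw hwv r => (hTd _).2 fun s => by
    obtain ⟨g, hg, hgx⟩ := (hTd v).1 hv (r / tf c h w v)
    obtain ⟨t, ht, htx⟩ := (hTd w).1 hw s
    refine ⟨g * t * g⁻¹, mul_mem (mul_mem hg ht) (inv_mem hg), fun x => ?_⟩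
    have hgw : (g : Mn) *ᵥ w = w + r • v := by rw [hgx, div_mul_cancel₀ _ hwv]
    obtain ⟨y, rfl⟩ : ∃ y, (g : Mn) *ᵥ y = x := ⟨_, mulVec_inv_cancel g x⟩
    rw [Units.val_mul, Units.val_mul, ← Matrix.mulVec_mulVec, ← Matrix.mulVec_mulVec, inv_mulVec_cancel, htx,
      Matrix.mulVec_add, Matrix.mulVec_smul, ← hgw, hM.le hg]
  have hTp : ∀ xs, T (ptens xs) := fun xs => (hTd _).2 (hp xs)
  have hsum : ∀ a : V, a ≠ 0 → ∃ zs : κ → β → F, tf c h a (ptens zs) ≠ 0 := fun a ha => by
    by_contra hc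
    push Not at hc
    refine ha (hS.eq_zero a fun w => ?_)
    have := LinearMap.congr_fun (ext_ptens (L := hS.lin a) (L' := 0) fun zs => by
      rw [hS.lin_apply, LinearMap.zero_apply, hS.skew a, hc, neg_zero]) w
    rw [LinearMap.zero_apply, hS.lin_apply] at this
    exact this
  have hcommon : ∀ a b d : V, a ≠ 0 → b ≠ 0 → d ≠ 0 →
      ∃ q, tf c h a (ptens q) ≠ 0 ∧ tf c h b (ptens q) ≠ 0 ∧ tf c h d (ptens q) ≠ 0 := by
    intro a b d ha hb hd
    let G : Finset κ → (κ → β → F) → V → Prop := fun s q a =>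
      ∃ zs : κ → β → F, (∀ l ∈ s, zs l = q l) ∧ tf c h a (ptens zs) ≠ 0
    suffices H : ∀ s : Finset κ, ∃ q, G s q a ∧ G s q b ∧ G s q d by
      obtain ⟨q, ⟨z₁, e₁, h₁⟩, ⟨z₂, e₂, h₂⟩, ⟨z₃, e₃, h₃⟩⟩ := H Finset.univ
      rw [show z₁ = q from funext fun l => e₁ l (Finset.mem_univ l)] at h₁
      rw [show z₂ = q from funext fun l => e₂ l (Finset.mem_univ l)] at h₂
      rw [show z₃ = q from funext fun l => e₃ l (Finset.mem_univ l)] at h₃
      exact ⟨q, h₁, h₂, h₃⟩
    intro s
    induction s using Finset.induction_on with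
    | empty =>
      exact ⟨0, (hsum a ha).imp fun z hz => ⟨by simp, hz⟩, (hsum b hb).imp fun z hz => ⟨by simp, hz⟩,
        (hsum d hd).imp fun z hz => ⟨by simp, hz⟩⟩
    | insert l s hl ih =>
      obtain ⟨q, ⟨z₁, e₁, h₁⟩, ⟨z₂, e₂, h₂⟩, ⟨z₃, e₃, h₃⟩⟩ := ih
      have mk : ∀ (zs : κ → β → F) (a : V), ∃ L : (β → F) →ₗ[F] F, ∀ y, L y = tf c h a (ptens (Function.update zs l y)) :=
        fun zs a =>
          ⟨{ toFun := fun y => tf c h a (ptens (Function.update zs l y))
             map_add' := fun y y' => by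
               rw [show ptens (Function.update zs l (y + y')) = ptens (Function.update zs l y) +
                   ptens (Function.update zs l y') from funext fun p => by
                     simp only [ptens_update, Pi.add_apply, add_mul], hS.add_right]
             map_smul' := fun r y => by
               rw [show ptens (Function.update zs l (r • y)) = r • ptens (Function.update zs l y) from funext fun p => by
                     simp only [ptens_update, Pi.smul_apply, smul_eq_mul, mul_assoc], hS.smul_r, RingHom.id_apply,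
                 smul_eq_mul] }, fun y => rfl⟩
      obtain ⟨L₁, hL₁⟩ := mk z₁ a
      obtain ⟨L₂, hL₂⟩ := mk z₂ b
      obtain ⟨L₃, hL₃⟩ := mk z₃ d
      obtain ⟨y, y₁, y₂, y₃⟩ := exists_avoid3 hM.h2 L₁ L₂ L₃
        (fun e => h₁ (by simpa [e] using (hL₁ (z₁ l)).symm))
        (fun e => h₂ (by simpa [e] using (hL₂ (z₂ l)).symm))
        (fun e => h₃ (by simpa [e] using (hL₃ (z₃ l)).symm))
      refine ⟨Function.update q l y, ⟨Function.update z₁ l y, ?_, hL₁ y ▸ y₁⟩, ⟨Function.update z₂ l y, ?_, hL₂ y ▸ y₂⟩,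
        ⟨Function.update z₃ l y, ?_, hL₃ y ▸ y₃⟩⟩ <;>
      · intro j hj
        by_cases e : j = l
        · subst e; simp
        · have hj' := (Finset.mem_insert.1 hj).resolve_left e
          simp [Function.update_of_ne e, e₁ j, e₂ j, e₃ j, hj']
  have hadd : ∀ v xs, T v → T (v + ptens xs) := by
    intro v xs hv
    rcases eq_or_ne v 0 with rfl | hv0
    · rw [zero_add]; exact hTp xs
    rcases eq_or_ne (ptens xs) 0 with e | hp0
    · rw [e, add_zero]; exact hv
    rcases eq_or_ne (v + ptens xs) 0 with e | hvp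
    · rw [e]; exact hT0
    by_cases hf : tf c h v (ptens xs) = 0
    swap
    · simpa using hTa (hTp xs) hv hf 1
    obtain ⟨q, hq1, hq2, hq3⟩ := hcommon v (ptens xs) (v + ptens xs) hv0 hp0 hvp
    have k1 : T (ptens xs + ptens q) := by simpa using hTa (hTp q) (hTp xs) hq2 1
    have k2 : T (v + (ptens xs + ptens q)) := by
      simpa using hTa k1 hv (by rw [hS.add_right, hf, zero_add]; exact hq1) 1
    have k3 := hTa (hTp q) k2 (by
      rw [← add_assoc, hS.add_left, hS.self, add_zero]; exact hq3) (-1)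
    rw [neg_one_smul, ← add_assoc, add_neg_cancel_right] at k3
    exact k3
  have hall : ∀ v, T v := by
    intro v
    rw [← Finset.univ_sum_single v]
    induction (Finset.univ : Finset X) using Finset.induction_on with
    | empty => simpa using hT0
    | insert a s ha ih =>
      rw [Finset.sum_insert ha, add_comm]
      obtain ⟨j⟩ : Nonempty κ := Fintype.card_pos_iff.1 (by have := hM.ht; omega)
      have e : (Pi.single a (v a) : V) =
          ptens (Function.update (fun l => (Pi.single (a l) 1 : β → F)) j (v a • Pi.single (a j) 1)) := by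
        rw [show (Pi.single a (v a) : V) = v a • Pi.single a 1 by rw [← Pi.single_smul, smul_eq_mul, mul_one],
          ← ptens_single a]
        funext p
        conv_lhs => rw [← Function.update_eq_self j (fun l => (Pi.single (a l) 1 : β → F))]
        simp only [ptens_update, Pi.smul_apply, smul_eq_mul, mul_assoc]
      rw [e]
      exact hadd _ _ ih
  refine hS.gen_tv fun v s B _ hBx => ?_
  obtain ⟨g, hg, hgx⟩ := (hTd v).1 (hall v) s
  rwa [show B = g from Units.ext (Matrix.ext_iff_mulVec.2 fun x => by rw [hBx, hgx])]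

/-- A non-scalar coefficient gives the derived group. -/
theorem rich {i : κ} (hns : ¬ Scal h (Mi M i)) : GT c h ≤ M := by
  classical
  have hh := hM.data.hh
  unfold Scal at hns
  push Not at hns
  obtain ⟨D₀, hD₀, hD₀ns⟩ := hns
  have hP := hM.salg i
  have hP0 : UC h (Mi M i) (Matrix.toLin' (LinearMap.toMatrix' D₀)) := by rwa [Matrix.toLin'_toMatrix']
  have htop := hP.exists_top hP0 fun r e => by
    obtain ⟨x, hx⟩ := hD₀ns r
    refine hx ?_
    rw [← Matrix.toLin'_toMatrix' D₀, e, map_smul, Matrix.toLin'_one]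
    rfl
  have hzero : UC h (Mi M i) (Matrix.toLin' (0 : Matrix (Rst i → β) (Rst i → β) F)) := by
    rw [map_zero]; exact (hM.toCx.pr i).uc_zero
  have hpar : ∀ {J : Finset (Rst i)}, St h (fun R => UC h (Mi M i) (Matrix.toLin' R)) J (fun _ => -1) →
      Even J.card := fun {J} H => by
    have h1 := hP.prod_sgn H
    rw [Finset.prod_const] at h1
    by_contra ho
    rw [Nat.not_even_iff_odd] at ho
    rw [ho.neg_one_pow] at h1
    exact hM.h2 (by linear_combination -h1)
  have hrst := card_rst_one i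
  rcases htop with hA | ⟨m, hBC⟩
  · -- an odd number of factors
    have ho : Odd (Fintype.card κ) := by
      rw [← hrst]; exact Even.add_one (Finset.card_univ (α := Rst i) ▸ hpar hA)
    refine le_trans GT_le_Iso (hM.le_of_pure_tv ho fun xs s => ?_)
    have hmem : UC h (Mi M i) (Matrix.toLin' (wm 1 fun j : Rst i => vN h (xs j.1))) := by
      by_cases h0 : ∃ j : Rst i, xs j.1 = 0
      · obtain ⟨j, hj⟩ := h0
        rw [wm_zero_of _ (l := j) (by simp [hj, vN])]
        exact hzero
      push Not at h0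
      exact hA.all _ (fun j _ => Or.inl ⟨rfl, _, h0 j, rfl⟩) fun j hj => absurd (Finset.mem_univ j) hj
    obtain ⟨g, hg, hgw⟩ := hM.uc_wm ((hM.toCx.pr i).uc_smul hmem (s * c)) (xs i)
    refine ⟨g, hg, fun x => ?_⟩
    have hs := hM.data.sesq (κ := κ)
    refine LinearMap.congr_fun (f := Matrix.toLin' (g : Mn))
      (g := LinearMap.id + (s • hs.lin (ptens xs)).smulRight (ptens xs)) (ext_ptens fun w => ?_) x
    rw [Matrix.toLin'_apply, hgw]
    simp only [LinearMap.add_apply, LinearMap.id_apply, LinearMap.smulRight_apply, LinearMap.smul_apply, hs.lin_apply,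
      hM.data.tf_ptens, smul_eq_mul]
    rw [← mul_assoc, mul_smul _ _ (ptens xs)]
    congr 2
    funext p
    simp only [ptens, Pi.smul_apply, smul_eq_mul, ← Finset.prod_mul_distrib]
    refine Finset.prod_congr rfl fun l _ => ?_
    by_cases e : l = i
    · subst e; simp
    · simp [e, vN_mulVec hh]
  -- an even number of factors
  have hev : Even (Fintype.card κ) := by
    rcases hBC with ⟨-, hB⟩ | ⟨-, hC⟩
    · obtain ⟨r, hr⟩ := hpar hB
      rw [Finset.card_erase_of_mem (Finset.mem_univ m), Finset.card_univ] at hr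
      have : 0 < Fintype.card (Rst i) := Fintype.card_pos_iff.2 ⟨m⟩
      exact ⟨r + 1, by omega⟩
    · have h1 := hP.prod_sgn hC
      rw [← Finset.mul_prod_erase _ _ (Finset.mem_univ m), Function.update_self, one_mul,
        Finset.prod_congr rfl (fun l hl => Function.update_of_ne (Finset.ne_of_mem_erase hl) _ _), Finset.prod_const,
        Finset.card_erase_of_mem (Finset.mem_univ m), Finset.card_univ] at h1
      by_contra ho
      rw [Nat.not_even_iff_odd] at ho
      obtain ⟨r, hr⟩ := ho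
      have : 0 < Fintype.card (Rst i) := Fintype.card_pos_iff.2 ⟨m⟩
      rw [Odd.neg_one_pow ⟨r - 1, by omega⟩] at h1
      exact hM.h2 (by linear_combination -h1)
  refine Pairs.gt_le (hT := hM.data) (m := m.1) ⟨hM.h2, hev, hM.ht, hM.hk, hM.five, hM.le, hM.toCx.perm_mem,
    fun xs ys hxy hcond => ?_⟩
  obtain ⟨a, ha⟩ : ∃ a, a = ys m.1 := ⟨_, rfl⟩
  obtain ⟨b, hb⟩ : ∃ b, b = xs m.1 := ⟨_, rfl⟩
  have hmem : UC h (Mi M i) (Matrix.toLin' (wm 1 (Function.update (fun j : Rst i => vN h (xs j.1)) m (vL h a b)))) := by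
    by_cases h0 : ∃ j : Rst i, j ≠ m ∧ xs j.1 = 0
    · obtain ⟨j, hjm, hj⟩ := h0
      rw [wm_zero_of _ (l := j) (by rw [Function.update_of_ne hjm, hj]; simp [vN])]
      exact hzero
    push Not at h0
    rcases hBC with ⟨hk2, hB⟩ | ⟨h4, hC⟩
    · rw [vL_card_two hh hk2, wm_update_smul, map_smul]
      refine (hM.toCx.pr i).uc_smul (hB.all _ (fun j hj => ?_) fun j hj => ?_) _
      · obtain ⟨hjm, -⟩ := Finset.mem_erase.1 hj
        rw [Function.update_of_ne hjm]
        exact Or.inl ⟨rfl, _, h0 j hjm, rfl⟩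
      · have : j = m := by simpa using hj
        subst this
        exact Function.update_self _ _ _
    · have hab : h a b = 0 := by
        rcases hcond with e | e
        · omega
        · rw [ha, hb, hh.skew (xs m.1) (ys m.1), e, neg_zero]
      by_cases ha0 : a = 0
      · rw [wm_zero_of _ (l := m) (by rw [Function.update_self, ha0]; simp [vL, fn_zero hh.toSesq])]
        exact hzero
      by_cases hdep : ∀ r : F, b ≠ r • a
      · refine hC.all _ (fun j _ => ?_) fun j hj => absurd (Finset.mem_univ j) hj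
        by_cases e : j = m
        · subst e
          rw [Function.update_self, Function.update_self]
          exact Or.inr ⟨rfl, a, b, ha0, hdep, hab, rfl⟩
        · rw [Function.update_of_ne e, Function.update_of_ne e]
          exact Or.inl ⟨rfl, _, h0 j e, rfl⟩
      · push Not at hdep
        obtain ⟨r, hr⟩ := hdep
        rw [wm_zero_of _ (l := m) (by
          rw [Function.update_self, hr, vL, hh.fn_smul', Matrix.vecMulVec_smul, Matrix.smul_vecMulVec, sub_self])]
        exact hzero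
  obtain ⟨g, hg, hgw⟩ := hM.uc_wm ((hM.toCx.pr i).uc_smul hmem c) (xs i)
  refine ⟨g, hg, Matrix.ext_iff_mulVec.2 fun y => ?_⟩
  refine LinearMap.congr_fun (f := Matrix.toLin' (g : Mn)) (g := Matrix.toLin' (OrthAut.eMat (q0 hM.data) (ptens xs) (ptens ys)))
    (ext_ptens fun w => ?_) y
  rw [Matrix.toLin'_apply, Matrix.toLin'_apply, hgw, OrthAut.eMat_mulVec, q0_apply, hM.data.tf_ptens,
    show ∏ l, h (ys l) (ys l) = 0 from Finset.prod_eq_zero (Finset.mem_univ m.1) (hh.self _), mul_zero, mul_zero,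
    zero_mul, zero_smul, sub_zero, q0_polar hM.data hM.h2 hev, q0_polar hM.data hM.h2 hev,
    hM.data.tf_symm (ptens w), hM.data.tf_symm (ptens w), hev.neg_one_pow, one_mul, one_mul, hM.data.tf_ptens,
    hM.data.tf_ptens, add_sub_assoc]
  congr 1
  funext p
  obtain ⟨G, hG⟩ : ∃ G : κ → F, G = fun l => h (w l) (xs l) * xs l (p l) := ⟨_, rfl⟩
  have eR : ∀ (l : κ), l ≠ m.1 → ys l = xs l := fun l hl => (hxy l hl).symm
  have e1 : ∀ l ∈ Finset.univ.erase m.1,
      (if hl : l = i then h (w l) (xs i) • xs i else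
        Function.update (fun j : Rst i => vN h (xs j.1)) m (vL h a b) ⟨l, hl⟩ *ᵥ w l) (p l) = G l := fun l hl => by
    have hlm := Finset.ne_of_mem_erase hl
    by_cases e : l = i
    · subst e; simp [hG]
    · rw [dif_neg e, Function.update_of_ne (fun e' => hlm (congrArg Subtype.val e')), vN_mulVec hh]
      simp [hG]
  simp only [Pi.smul_apply, Pi.sub_apply, smul_eq_mul, ptens]
  rw [← Finset.mul_prod_erase _ _ (Finset.mem_univ m.1), Finset.prod_congr rfl e1, dif_neg m.2, Function.update_self,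
    vL_mulVec hh, ← Finset.mul_prod_erase _ (fun l => h (w l) (xs l)) (Finset.mem_univ m.1),
    ← Finset.mul_prod_erase _ (fun l => h (w l) (ys l)) (Finset.mem_univ m.1),
    ← Finset.mul_prod_erase _ (fun l => xs l (p l)) (Finset.mem_univ m.1),
    ← Finset.mul_prod_erase _ (fun l => ys l (p l)) (Finset.mem_univ m.1),
    Finset.prod_congr rfl (s₁ := Finset.univ.erase m.1) (f := fun l => h (w l) (ys l))
      (g := fun l => h (w l) (xs l)) (fun l hl => by rw [eR l (Finset.ne_of_mem_erase hl)]),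
    Finset.prod_congr rfl (s₁ := Finset.univ.erase m.1) (f := fun l => ys l (p l))
      (g := fun l => xs l (p l)) (fun l hl => by rw [eR l (Finset.ne_of_mem_erase hl)]),
    hG, Finset.prod_mul_distrib, ← ha, ← hb]
  simp only [Pi.smul_apply, Pi.sub_apply, smul_eq_mul]
  ring

end OCx

end Cfsg.Agent.Classical.TensorSymp
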