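import Cfsg.Agent.Lib.Classical.TensorPowSymp.Rich

/-!
Products of nilpotent factors give unipotent elements of the derived group of the isometries.
-/

set_option autoImplicit false
set_option linter.unusedSectionVars false
set_option linter.unusedSimpArgs false
set_option linter.style.haveILetI false

open scoped commutatorElement

namespace Cfsg.Agent.Classical.TensorSymp

open Matrix Module MaxTv TensorMax TensorPow

variable {F : Type*} [Field F] [Fintype F] {κ β : Type} [Fintype κ] [DecidableEq κ] [Fintype β] [DecidableEq β]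

local notation "X" => (κ → β)
local notation "V" => ((κ → β) → F)
local notation "Mn" => Matrix (κ → β) (κ → β) F
local notation "Mb" => Matrix β β F

variable {c : F} {h : (β → F) → (β → F) → F} (hT : SData c h)
include hT

/-- The adjoint of a product. -/
theorem SData.wm_adj {gs : κ → Mb} {ε : κ → F} (hε : ∀ l x y, h (gs l *ᵥ x) y = ε l * h x (gs l *ᵥ y)) (x y : V) :
    tf c h (wm 1 gs *ᵥ x) y = (∏ l, ε l) * tf c h x (wm 1 gs *ᵥ y) := by
  have hs := hT.sesq (κ := κ)
  let L : V →ₗ[F] V →ₗ[F] F :=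
    LinearMap.mk₂ F (fun x y => tf c h (wm 1 gs *ᵥ x) y)
      (fun a b d => by simp only [Matrix.mulVec_add, hs.add_left])
      (fun r a d => by simp only [Matrix.mulVec_smul, hs.smul_left, smul_eq_mul])
      (fun a b d => by simp only [hs.add_right])
      (fun r a d => by simp only [hs.smul_right, RingEquiv.refl_apply, smul_eq_mul])
  let L' : V →ₗ[F] V →ₗ[F] F :=
    LinearMap.mk₂ F (fun x y => (∏ l, ε l) * tf c h x (wm 1 gs *ᵥ y))
      (fun a b d => by simp only [hs.add_left, mul_add])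
      (fun r a d => by simp only [hs.smul_left, smul_eq_mul]; ring)
      (fun a b d => by simp only [Matrix.mulVec_add, hs.add_right, mul_add])
      (fun r a d => by simp only [Matrix.mulVec_smul, hs.smul_right, RingEquiv.refl_apply, smul_eq_mul]; ring)
  have hL : L = L' := ext_ptens fun xs => ext_ptens fun ys => by
    simp only [L, L', LinearMap.mk₂_apply, wm_mulVec, hT.tf_ptens, Equiv.Perm.coe_one, id_eq]
    rw [Finset.prod_congr rfl (fun l _ => hε l (xs l) (ys l)), Finset.prod_mul_distrib]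
    ring
  exact LinearMap.congr_fun₂ hL x y

/-- A unipotent isometry. -/
theorem SData.exists_unip {gs : κ → Mb} {ε : κ → F} (hε : ∀ l x y, h (gs l *ᵥ x) y = ε l * h x (gs l *ᵥ y))
    (hprod : ∏ l, ε l = -1) {k : κ} (hk : gs k * gs k = 0) (r : F) :
    ∃ T : GL X F, T ∈ Iso (tf c h) ∧ (T : Mn) = 1 + r • wm 1 gs := by
  have hs := hT.sesq (κ := κ)
  have hsq : wm (1 : Equiv.Perm κ) gs * wm 1 gs = 0 := by
    rw [wm1_mul]
    exact wm_zero_of _ (l := k) hk
  have hsq' : ∀ s t : F, (s • wm (1 : Equiv.Perm κ) gs) * (t • wm 1 gs) = 0 := fun s t => by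
    rw [smul_mul_smul_comm, hsq, smul_zero]
  refine ⟨⟨1 + r • wm 1 gs, 1 - r • wm 1 gs, ?_, ?_⟩, fun x y => ?_, rfl⟩
  · rw [add_mul, one_mul, mul_sub, mul_one, hsq', sub_zero, sub_add_cancel]
  · rw [sub_mul, one_mul, mul_add, mul_one, hsq', add_zero, add_sub_cancel_right]
  · show tf c h ((1 + r • wm 1 gs) *ᵥ x) ((1 + r • wm 1 gs) *ᵥ y) = _
    have h0 : tf c h (wm 1 gs *ᵥ x) (wm 1 gs *ᵥ y) = 0 := by
      rw [hT.wm_adj hε, Matrix.mulVec_mulVec, hsq, Matrix.zero_mulVec, hs.zero_right, mul_zero]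
    simp only [Matrix.add_mulVec, Matrix.one_mulVec, Matrix.smul_mulVec, hs.add_left, hs.add_right, hs.smul_left,
      hs.smul_right, RingEquiv.refl_apply, h0, hT.wm_adj hε x y, hprod]
    ring

/-- A unipotent element of the derived group. -/
theorem SData.exists_unip_GT (h2 : (2 : F) ≠ 0) [∀ l : κ, Nonempty (Rst l)] {gs : κ → Mb} {ε : κ → F}
    (hε : ∀ l x y, h (gs l *ᵥ x) y = ε l * h x (gs l *ᵥ y))
    (hprod : ∏ l, ε l = -1) {k : κ} (hk : gs k * gs k = 0) {j : κ} {B : GL β F} (hB : B ∈ Iso h) {μ : F}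
    (hμ : μ ≠ 1) (hconj : (B : Mb) * gs j * ((B⁻¹ : GL β F) : Mb) = μ • gs j) :
    ∃ T : GL X F, T ∈ GT c h ∧ ∃ r : F, r ≠ 0 ∧ (T : Mn) = 1 + r • wm 1 gs := by
  have hle : ∀ g : GL X F, g ∈ Iso (tf c h) → g ∈ KT c h := fun g hg => ⟨hg, fun e => absurd e h2⟩
  obtain ⟨T, hTi, hTm⟩ := hT.exists_unip hε hprod hk (1 : F)
  obtain ⟨S, hSi, hSm⟩ := hT.exists_unip hε hprod hk (-1 : F)
  have hST : T⁻¹ = S := inv_eq_of_mul_eq_one_right (Units.ext (by
    rw [Units.val_mul, hTm, hSm, Units.val_one, one_smul, neg_one_smul, ← sub_eq_add_neg, add_mul, one_mul, mul_sub,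
      mul_one, wm1_mul, wm_zero_of (fun l => (gs * gs) l) (l := k) hk, sub_zero, sub_add_cancel]))
  refine ⟨⁅pe j B, T⁆, Subgroup.commutator_mem_commutator (hT.pe_KT j hB) (hle T hTi), μ - 1, sub_ne_zero.2 hμ, ?_⟩
  have hW : et j (B : Mb) * wm 1 gs * et j ((B⁻¹ : GL β F) : Mb) = μ • wm 1 gs := by
    have e : (fun l => Function.update (fun _ : κ => (1 : Mb)) j (B : Mb) l * gs l *
        Function.update (fun _ : κ => (1 : Mb)) j ((B⁻¹ : GL β F) : Mb) l) = Function.update gs j (μ • gs j) := by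
      funext l
      by_cases e : l = j
      · subst e
        simp only [Function.update_self]
        exact hconj
      · simp [e]
    rw [et, et, wm1_mul, wm1_mul]
    show wm 1 (fun l => Function.update (fun _ : κ => (1 : Mb)) j (B : Mb) l * gs l *
        Function.update (fun _ : κ => (1 : Mb)) j ((B⁻¹ : GL β F) : Mb) l) = _
    rw [e, wm_update_smul, Function.update_eq_self]
  have hP : ((pe j B * T * (pe j B)⁻¹ : GL X F) : Mn) = 1 + μ • wm 1 gs := by
    rw [Units.val_mul, Units.val_mul, hTm, one_smul, mul_add, mul_one, add_mul, ← Units.val_mul, mul_inv_cancel,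
      Units.val_one, ← map_inv (TensorPow.pe j) B, ← et_val, ← et_val, hW]
  rw [commutatorElement_def, hST, Units.val_mul, hP, hSm, neg_one_smul, mul_add, mul_one, mul_neg, add_mul, one_mul,
    Matrix.smul_mul, wm1_mul, wm_zero_of (gs * gs) (l := k) hk, smul_zero, add_zero, sub_smul, one_smul]
  abel

end Cfsg.Agent.Classical.TensorSymp
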